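import Cfsg.Agent.Lib.J3Uniq.LocalFour
import Cfsg.Agent.Lib.HJUniq.Relators
import Cfsg.Agent.Lib.Compute.TableCert

/-!
Local analysis of a group of third Janko type: a complement `A₅` of the normal subgroup and the map from
the model of the centraliser onto it.
-/

set_option autoImplicit false
set_option linter.style.haveILetI false
set_option linter.unusedSectionVars false
set_option synthInstance.maxSize 4000
set_option synthInstance.maxHeartbeats 400000
set_option maxRecDepth 8000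

namespace Cfsg.Agent.J3Uniq

open Cfsg.Agent.HJ
open Cfsg.Agent.HJUniq (Base s0 p0 r0 x0 q0 conj5 prod5 yy pairGen RelH rho)
open Cfsg.Agent.CosetCert (wprod wprod_cons wprod_nil wprod_append CardLe)

/-- The table of the group of the relators `a² = b³ = (ab)⁵ = 1` over the powers of `ab`. -/
def certA5 : TableCert.Cert where
  n := 12
  tab := [[1, 0, 3, 2, 7, 6, 5, 4, 9, 8, 11, 10], [1, 0, 3, 2, 7, 6, 5, 4, 9, 8, 11, 10], [2, 0, 1, 4, 5, 3, 8, 6, 7, 10, 11, 9], [1, 2, 0, 5, 3, 4, 7, 8, 6, 11, 9, 10], [0, 2, 4, 1, 6, 8, 3, 5, 10, 7, 9, 11], [0, 3, 1, 6, 2, 7, 4, 9, 5, 10, 8, 11]]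
  tree := [(0, 0), (0, 2), (1, 5), (2, 4), (3, 3), (3, 5), (4, 0), (5, 4), (7, 5), (8, 4), (9, 3)]
  rels := [[0, 0], [2, 2, 2], [4, 4, 4, 4, 4], [0, 2, 5]]
  sub := [4]
  steps := [(0, 0, 1), (0, 3, 1), (1, 1, 2), (1, 3, 2), (2, 2, 1), (3, 3, 0), (4, 0, 1), (4, 3, 1), (6, 3, 0), (2, 0, 0), (2, 3, 1), (3, 1, 1), (5, 0, 0), (5, 3, 1), (6, 1, 1), (7, 3, 2), (8, 2, 1), (9, 3, 0), (10, 3, 0), (11, 0, 0), (8, 0, 0), (8, 3, 1), (9, 1, 1), (11, 3, 2)]

theorem certA5_check : certA5.check = true := by decide +kernel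

theorem beta_exists : ∀ α : A5, α * α = 1 → α ≠ 1 →
    ∃ β : A5, β ^ 3 = 1 ∧ β ≠ 1 ∧ (α * β) ^ 5 = 1 ∧ α * β ≠ 1 := by decide +kernel

theorem stab_three : ∀ τ : A5, ap τ 4 = 4 →
    ∃ a : A5, ap a 4 = 4 ∧ a ^ 3 = 1 ∧ (a⁻¹ * τ) ^ 3 = 1 ∧ ap (a⁻¹ * τ) 4 = 4 := by decide +kernel

theorem gen_A5 {α β : A5} (ha : α * α = 1) (ha1 : α ≠ 1) (hb : β ^ 3 = 1) (hb1 : β ≠ 1)
    (hc : (α * β) ^ 5 = 1) (hc1 : α * β ≠ 1) : Subgroup.closure ({α, β} : Set A5) = ⊤ := by
  classical
  set K := Subgroup.closure ({α, β} : Set A5) with hK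
  haveI : Fact (Nat.Prime 2) := ⟨Nat.prime_two⟩
  haveI : Fact (Nat.Prime 3) := ⟨Nat.prime_three⟩
  haveI : Fact (Nat.Prime 5) := ⟨by norm_num⟩
  have mA : α ∈ K := Subgroup.subset_closure (Or.inl rfl)
  have mB : β ∈ K := Subgroup.subset_closure (Or.inr rfl)
  have d : ∀ {p : ℕ} [Fact p.Prime] {x : A5}, x ∈ K → x ^ p = 1 → x ≠ 1 → p ∣ Nat.card K := by
    intro p _ x hx h1 h2
    rw [← orderOf_eq_prime h1 h2]
    exact Subgroup.orderOf_dvd_natCard K hx
  have d2 := d mA (by rw [pow_two, ha]) ha1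
  have d3 := d mB hb hb1
  have d5 := d (K.mul_mem mA mB) hc hc1
  have h30 : 30 ∣ Nat.card K := by omega
  have hm := K.card_mul_index
  rw [card_A5] at hm
  obtain ⟨k, hk⟩ := h30
  rw [hk] at hm
  have hi : K.index = 1 ∨ K.index = 2 := by
    have : K.index ∣ 2 := ⟨k, by rw [Nat.mul_assoc] at hm; nlinarith⟩
    exact (Nat.dvd_prime Nat.prime_two).1 this
  rcases hi with h | h
  · exact Subgroup.index_eq_one.1 h
  · haveI := Subgroup.normal_of_index_eq_two h
    haveI : IsSimpleGroup A5 := alternatingGroup.isSimpleGroup (by simp)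
    rcases IsSimpleGroup.eq_bot_or_eq_top_of_normal K inferInstance with e | e
    · exact absurd (Subgroup.mem_bot.1 (e ▸ mA)) ha1
    · exact e

universe u

variable {G : Type u} [Group G] [Finite G] [IsSimpleGroup G] {t : G} {Q : Subgroup G}
  {φ : ↥(Subgroup.centralizer ({t} : Set G)) →* A5}

/-- A section of the map onto `A5`. -/
theorem exists_section (B : Base t Q φ) {a : G} (hat : a * t = t * a) (ha : a * a = 1) (haQ : a ∉ Q) :
    ∃ ι : A5 →* G, (∀ τ, ι τ * t = t * ι τ) ∧ ∀ τ, psi φ (ι τ) = τ := by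
  classical
  have hα : psi φ a * psi φ a = 1 := by
    rw [← psiB_mul B hat hat, ha]; exact (psiB_eq_one B (by simp)).2 Q.one_mem
  have hα1 : psi φ a ≠ 1 := fun e => haQ ((psiB_eq_one B hat).1 e)
  obtain ⟨β, hb3, hb1, hc5, hc1⟩ := beta_exists _ hα hα1
  obtain ⟨d, hdt, rfl⟩ := psiB_surj B β
  obtain ⟨b, hbt, hb, hbψ⟩ : ∃ b, b * t = t * b ∧ b ^ 3 = 1 ∧ psi φ b = psi φ d := by
    refine ⟨d ^ 16, ct_pow hdt 16, ?_, ?_⟩
    · have hQ : d ^ 3 ∈ Q := (psiB_eq_one B (ct_pow hdt 3)).1 (by rw [psiB_pow B hdt, hb3])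
      rw [← pow_mul, show 16 * 3 = 3 * (4 * 4) from rfl, pow_mul, pow_mul, pow_four_one B hQ, one_pow]
    · rw [psiB_pow B hdt, show 16 = 3 * 5 + 1 from rfl, pow_succ, pow_mul, hb3, one_pow, one_mul]
  obtain ⟨a', hat', ha', haψ, hc⟩ : ∃ a', a' * t = t * a' ∧ a' * a' = 1 ∧ psi φ a' = psi φ a ∧
      (a' * b) ^ 5 = 1 := by
    have hct := ct_mul hat hbt
    have hψ : psi φ (a * b) = psi φ a * psi φ d := by rw [psiB_mul B hat hbt, hbψ]
    obtain ⟨h5, hψ16, h16t⟩ := lift_five B hct (by rw [hψ, hc5])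
    have hq : (a * b) ^ 5 ∈ Q := (psiB_eq_one B (ct_pow hct 5)).1 (by rw [psiB_pow B hct, hψ, hc5])
    have hne : (a * b) ^ 16 ≠ 1 := fun e => hc1 (by
      rw [← hψ, ← hψ16, e]; exact (psiB_eq_one B (by simp)).2 Q.one_mem)
    rcases fix_five B h16t h5 hne hq (Or.inl (conj_eq_iff_comm.2 (by rw [← pow_add, ← pow_add, Nat.add_comm])))
      with e | e
    · exact ⟨a, hat, ha, rfl, e⟩
    · refine ⟨a * t, ct_mul hat rfl, ?_, ?_, ?_⟩
      · calc a * t * (a * t) = a * (t * a) * t := by group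
          _ = a * a * (t * t) := by rw [← hat]; group
          _ = 1 := by rw [ha, B.tt, one_mul]
      · rw [psiB_mul B hat rfl, (psiB_eq_one B (show t * t = t * t from rfl)).2 B.tQ, mul_one]
      · rw [show a * t * b = a * b * t by rw [mul_assoc, ← hbt, mul_assoc],
          (show Commute (a * b) t from hct).mul_pow, e,
          show t ^ 5 = t * (t * t) * (t * t) by simp only [pow_succ, pow_zero, one_mul, mul_assoc],
          B.tt, mul_one, mul_one, B.tt]
  set α := psi φ a with hαdef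
  set β := psi φ d with hβdef
  have htop : Subgroup.closure ({α, β} : Set A5) = ⊤ := gen_A5 hα hα1 hb3 hb1 hc5 hc1
  let f : ℕ → G := fun n => [a', b].getD n 1
  let gg : ℕ → A5 := fun n => [α, β].getD n 1
  have himg : gg '' {x | x < 2} = ({α, β} : Set A5) := by
    ext τ
    constructor
    · rintro ⟨x, hx, rfl⟩
      rcases (show x = 0 ∨ x = 1 by simp only [Set.mem_setOf_eq] at hx; omega) with rfl | rfl
      exacts [Or.inl rfl, Or.inr rfl]
    · rintro (rfl | rfl)
      exacts [⟨0, by simp, rfl⟩, ⟨1, by simp, rfl⟩]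
  set K := Subgroup.closure (pairGen f gg '' {x | x < 2}) with hK
  have mK : ∀ x, x < 2 → pairGen f gg x ∈ K := fun x hx => Subgroup.subset_closure ⟨x, hx, rfl⟩
  let pa : K := ⟨pairGen f gg 0, mK 0 (by norm_num)⟩
  let pb : K := ⟨pairGen f gg 1, mK 1 (by norm_num)⟩
  have hcK : CardLe K 60 := by
    have hpc : ((pa * pb : K) : G × A5) = (a' * b, α * β) := rfl
    have h5 : (pa * pb) ^ 5 = 1 := Subtype.ext (by
      rw [Subgroup.coe_pow, hpc, Prod.pow_mk, hc, hc5]; rfl)
    have hpa : pa * pa = 1 := Subtype.ext (Prod.ext ha' hα)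
    have hpb : pb ^ 3 = 1 := Subtype.ext (by
      rw [Subgroup.coe_pow, show ((pb : K) : G × A5) = (b, β) from rfl, Prod.pow_mk, hb, hb3]; rfl)
    have hgen : Subgroup.closure {x | x ∈ [pa, pb, pa * pb]} = (⊤ : Subgroup K) := by
      rw [eq_top_iff]
      have h := Subgroup.closure_closure_coe_preimage (k := (pairGen f gg '' {x | x < 2}))
      rw [← h]
      refine (Subgroup.closure_le _).2 ?_
      rintro ⟨p, hp⟩ ⟨x, hx, e⟩
      refine Subgroup.subset_closure ?_
      rcases (show x = 0 ∨ x = 1 by simp only [Set.mem_setOf_eq] at hx; omega) with rfl | rfl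
      · simp only [Set.mem_setOf_eq, List.mem_cons]; exact Or.inl (Subtype.ext e.symm)
      · simp only [Set.mem_setOf_eq, List.mem_cons]; exact Or.inr (Or.inl (Subtype.ext e.symm))
    haveI : Finite (Subgroup.zpowers (pa * pb)) :=
      IsOfFinOrder.finite_zpowers (isOfFinOrder_iff_pow_eq_one.2 ⟨5, by norm_num, h5⟩)
    obtain ⟨hf, hle⟩ := TableCert.card_le [pa, pb, pa * pb] certA5 (Subgroup.zpowers (pa * pb)) hgen
      (by simp [certA5]) (fun r hr => by
        simp only [certA5, List.mem_cons, List.not_mem_nil, or_false] at hr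
        rcases hr with rfl | rfl | rfl | rfl <;>
          simp only [TableCert.wval, TableCert.letter, mul_one] <;> norm_num
        · exact hpa
        · rw [← hpb]; simp only [pow_succ, pow_zero, one_mul, mul_assoc]
        · rw [← h5]; simp only [pow_succ, pow_zero, one_mul, mul_assoc])
      (fun l hl => by
        simp only [certA5, List.mem_singleton] at hl
        subst hl
        simp [TableCert.letter])
      certA5_check
    refine ⟨hf, hle.trans ?_⟩
    rw [Nat.card_zpowers, show certA5.n = 12 from rfl]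
    have := Nat.le_of_dvd (by norm_num) (orderOf_dvd_of_pow_eq_one h5)
    omega
  obtain ⟨χ, hχ⟩ := HJUniq.exists_hom (T := (⊤ : Subgroup A5)) (by rw [himg, htop])
    (by rw [Subgroup.card_top, card_A5]) hcK
  let ι : A5 →* G := χ.comp Subgroup.topEquiv.symm.toMonoidHom
  have hι : ∀ x, x < 2 → ι (gg x) = f x := fun x hx => hχ x hx (Subgroup.mem_top _)
  have hct : ∀ τ, ι τ * t = t * ι τ := by
    intro τ
    have : Subgroup.closure ({α, β} : Set A5) ≤ (Subgroup.centralizer ({t} : Set G)).comap ι := by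
      refine (Subgroup.closure_le _).2 ?_
      rintro x (rfl | rfl)
      · exact mem_cent.2 ((hι 0 (by norm_num)).symm ▸ hat' : ι α * t = t * ι α)
      · exact mem_cent.2 ((hι 1 (by norm_num)).symm ▸ hbt : ι β * t = t * ι β)
    rw [htop] at this
    exact mem_cent.1 (this (Subgroup.mem_top τ))
  refine ⟨ι, hct, fun τ => ?_⟩
  let e : A5 →* A5 :=
    { toFun := fun τ => psi φ (ι τ)
      map_one' := by rw [map_one]; exact (psiB_eq_one B (by simp)).2 Q.one_mem
      map_mul' := fun x y => by rw [map_mul, psiB_mul B (hct x) (hct y)] }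
  have he : e = MonoidHom.id A5 := MonoidHom.eq_of_eqOn_dense htop (by
    rintro x (rfl | rfl)
    · show psi φ (ι α) = α
      rw [show ι α = a' from hι 0 (by norm_num), haψ]
    · show psi φ (ι β) = β
      rw [show ι β = b from hι 1 (by norm_num), hbψ])
  exact congrArg (fun h : A5 →* A5 => h τ) he

/-- A labelled complement with the chosen orientation. -/
structure Cmp (t : G) (Q : Subgroup G) (u g : G) (ι : A5 →* G) : Prop where
  nci : Nci t Q u
  gt : g * t * g⁻¹ = u
  ct : ∀ τ, ι τ * t = t * ι τ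
  inQ : ∀ τ, ι τ ∈ Q → τ = 1
  cov : ∀ h, h * t = t * h → ∃ τ, (ι τ)⁻¹ * h ∈ Q
  fix : ∀ τ, ap τ 4 = 4 → ι τ * u = u * ι τ
  prod : prod5 ι u = 1

theorem exists_cmp (B : Base t Q φ) {u g : G} (hu : Nci t Q u) (hg : g * t * g⁻¹ = u) :
    ∃ u' g' ι, Cmp t Q u' g' ι := by
  classical
  obtain ⟨a, hat, ha, haQ⟩ := exists_outerB B hu hg
  obtain ⟨ι₀, hct₀, hsec⟩ := exists_section B hat ha haQ
  obtain ⟨i, hi⟩ := exists_point B hu hg
  let σ : Equiv.Perm (Fin 5) := Equiv.swap i 4
  let ι : A5 →* G := ι₀.comp (conj5 σ⁻¹)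
  have hct : ∀ τ, ι τ * t = t * ι τ := fun τ => hct₀ _
  have hψ : ∀ τ, psi φ (ι τ) = conj5 σ⁻¹ τ := fun τ => hsec _
  have hinQ : ∀ τ, ι τ ∈ Q → τ = 1 := fun τ h => by
    have e := (hψ τ).symm.trans ((psiB_eq_one B (hct τ)).2 h)
    rw [← HJUniq.conj5_inv σ τ, e, map_one]
  have hcov : ∀ h, h * t = t * h → ∃ τ, (ι τ)⁻¹ * h ∈ Q := fun h ht => ⟨conj5 σ (psi φ h), by
    rw [← psiB_eq_one B (ct_mul (ct_inv (hct _)) ht), psiB_mul B (ct_inv (hct _)) ht,
      psiB_inv B (hct _), hψ]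
    have e : conj5 σ⁻¹ (conj5 σ (psi φ h)) = psi φ h := by simpa using HJUniq.conj5_inv σ⁻¹ (psi φ h)
    rw [e, inv_mul_cancel]⟩
  have hut := B.comm_t hu.1
  have fix2 : ∀ τ, ap τ 4 = 4 → Fix2 t (ι τ) u := by
    intro τ hτ
    obtain ⟨h, ht, hhu, he⟩ := (hi (conj5 σ⁻¹ τ)).2 (by
      rw [HJUniq.conj5_apply, inv_inv, show σ i = 4 from Equiv.swap_apply_left i 4, hτ]
      show σ⁻¹ 4 = i
      simp [σ, Equiv.swap_inv])
    have hq : ι τ * h⁻¹ ∈ Q := by
      rw [← psiB_eq_one B (ct_mul (hct τ) (ct_inv ht)), psiB_mul B (hct τ) (ct_inv ht), psiB_inv B ht,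
        hψ, he, mul_inv_cancel]
    rw [Fix2, show ι τ * u * (ι τ)⁻¹ = (ι τ * h⁻¹) * (h * u * h⁻¹) * (ι τ * h⁻¹)⁻¹ by group,
      conj_eq_iff_comm.2 hhu]
    exact conjQ2 B hq hu.1
  have hfix : ∀ τ, ap τ 4 = 4 → ι τ * u = u * ι τ := by
    have h3 : ∀ τ, ap τ 4 = 4 → τ ^ 3 = 1 → ι τ * u = u * ι τ := by
      intro τ hτ h
      rcases fix2 τ hτ with e | e
      · exact conj_eq_iff_comm.1 e
      exfalso
      obtain ⟨x, hx⟩ : ∃ x, x = ι τ := ⟨_, rfl⟩
      rw [← hx] at e
      have hxt : x * t * x⁻¹ = t := conj_eq_iff_comm.2 (hx ▸ hct τ)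
      have x3 : x * x * x = 1 := by
        rw [hx, ← map_mul, ← map_mul, ← pow_three' τ, h, map_one]
      have e2 : x * x * u * (x * x)⁻¹ = u := by
        calc x * x * u * (x * x)⁻¹ = x * (x * u * x⁻¹) * x⁻¹ := by group
          _ = x * (u * t) * x⁻¹ := by rw [e]
          _ = x * u * x⁻¹ * (x * t * x⁻¹) := by group
          _ = u * (t * t) := by rw [e, hxt]; group
          _ = u := by rw [B.tt, mul_one]
      have e3 : u = u * t := by
        calc u = x * x * x * u * (x * x * x)⁻¹ := by rw [x3]; group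
          _ = x * (x * x * u * (x * x)⁻¹) * x⁻¹ := by group
          _ = u * t := by rw [e2, e]
      exact B.t1 (mul_left_cancel (e3.symm.trans (mul_one u).symm))
    intro τ hτ
    obtain ⟨b, hb4, hb3, hc3, hc4⟩ := stab_three τ hτ
    rw [← mul_inv_cancel_left b τ, map_mul]
    exact Commute.mul_left (h3 b hb4 hb3) (h3 _ hc4 hc3)
  have hy : ∀ n, yy ι u n ∈ Q := fun n => B.conj_Q (hct _) hu.1
  have hP : prod5 ι u ∈ Q := Q.mul_mem (Q.mul_mem (Q.mul_mem (hy 0) (hy 1)) (Q.mul_mem (hy 2) (hy 3))) (hy 4)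
  have hP' : prod5 ι u = 1 ∨ prod5 ι u = t := by
    have hq5 : q0 ^ 5 = 1 := by decide +kernel
    have hq1 : q0 ≠ 1 := by decide +kernel
    set c := ι q0 with hc
    have hc5 : c ^ 5 = 1 := by rw [hc, ← map_pow, hq5, map_one]
    refine fix_five B (hct _) hc5 (fun e => hq1 (hinQ _ (e ▸ Q.one_mem))) hP ?_
    have step : ∀ n, c * yy ι u n * c⁻¹ = yy ι u (n + 1) := by
      intro n
      rw [yy, yy, pow_succ' q0 (n + 1), map_mul, hc]; group
    have h5 : yy ι u 5 = yy ι u 0 := by rw [yy, yy, pow_succ q0 5, hq5, one_mul, pow_one]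
    have e : c * prod5 ι u * c⁻¹ = (yy ι u 0)⁻¹ * prod5 ι u * (yy ι u 0)⁻¹⁻¹ := by
      rw [prod5]
      simp only [conj_mul', step, h5]
      group
    rw [Fix2, e]
    exact conjQ2 B (Q.inv_mem (hy 0)) hP
  rcases hP' with h | h
  · exact ⟨u, g, ι, hu, hg, hct, hinQ, hcov, hfix, h⟩
  obtain ⟨q, hqQ, hqu⟩ := exists_ncB B hu.1 hu.2.2.1 hu.2.2.2
  have hq' : q * u * q⁻¹ = u * t := (conjQ2 B hqQ hu.1).resolve_left fun e => hqu (conj_eq_iff_comm.1 e).symm
  refine ⟨u * t, q * g, ι, ⟨Q.mul_mem hu.1 B.tQ, ?_, ?_, ?_⟩, ?_, hct, hinQ, hcov,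
    fun τ hτ => (Commute.mul_right (hfix τ hτ) (hct τ)).eq, ?_⟩
  · rw [← hq']; exact conj_sq q hu.2.1
  · rw [← hq']; exact conj_ne_one q hu.2.2.1
  · exact fun e => hu.2.2.1 (mul_right_cancel (e.trans (one_mul t).symm))
  · rw [← hq', ← hg]; group
  · have hy' : ∀ n, yy ι (u * t) n = yy ι u n * t := fun n => by
      rw [yy, yy, conj_mul', conj_eq_iff_comm.2 (hct _)]
    have k : ∀ p q : G, q * t = t * q → p * t * (q * t) = p * q := fun p q hq => by
      rw [mul_assoc p, hq, ← mul_assoc t t, B.tt, one_mul]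
    rw [prod5] at h ⊢
    simp only [hy', k _ _ (B.comm_t (hy 1)), k _ _ (B.comm_t (hy 3))]
    rw [← mul_assoc, h, B.tt]

section Hom

variable {u g : G} {ι : A5 →* G} (B : Base t Q φ) (C : Cmp t Q u g ι)
include B C

/-- The four generators of the centraliser. -/
def fgen (ι : A5 →* G) (u : G) : ℕ → G := fun n => [ι s0, ι p0, ι r0, u].getD n 1

omit B C in
theorem fgen_small {w : List ℕ} (hw : (w.all fun x => decide (x < 3)) = true) :
    wprod (fgen ι u) w = ι (wprod rho w) := by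
  rw [← HJUniq.wprod_map]
  refine HJUniq.wprod_congr' fun y hy => ?_
  have h := of_decide_eq_true (List.all_eq_true.1 hw y hy)
  interval_cases y <;> rfl

theorem relH : RelH (fgen ι u) := by
  refine ⟨fun n => ?_, fun w hw => ?_, fun w hw => ?_⟩
  · have hA : ∀ τ : A5, τ * τ = 1 → ι τ * ι τ = 1 := fun τ h => by rw [← map_mul, h, map_one]
    rcases n with _ | _ | _ | _ | n
    exacts [hA _ (by decide +kernel), hA _ (by decide +kernel), hA _ (by decide +kernel), C.nci.2.1,
      by simp [fgen]]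
  · have h : (CosetData.HJA.base.all fun w => (w.all fun x => decide (x < 3)) && decide (wprod rho w = 1)) = true := by
      decide +kernel
    have h' := List.all_eq_true.1 h w hw
    rw [Bool.and_eq_true, decide_eq_true_eq] at h'
    rw [fgen_small h'.1, h'.2, map_one]
  · simp only [CosetData.HJH.base, List.mem_cons, List.not_mem_nil, or_false] at hw
    have hz := fun (v : List ℕ) (h1 : (v.all fun x => decide (x < 3)) = true) (h2 : wprod rho v = 1) =>
      (fgen_small (ι := ι) (u := u) h1).trans (by rw [h2, map_one] : ι (wprod rho v) = (1 : G))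
    rcases hw with rfl | rfl | rfl | rfl | rfl | rfl | rfl
    · exact hz _ (by decide) (by decide +kernel)
    · exact hz _ (by decide) (by decide +kernel)
    · exact hz _ (by decide) (by decide +kernel)
    · exact hz _ (by decide) (by decide +kernel)
    · simp only [wprod_cons, wprod_nil, mul_one]
      show u * (ι s0 * (u * ι s0)) = 1
      have hs : ι s0 * ι s0 = 1 := by rw [← map_mul, show s0 * s0 = 1 by decide +kernel, map_one]
      calc u * (ι s0 * (u * ι s0)) = u * (ι s0 * u) * ι s0 := by group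
        _ = u * u * (ι s0 * ι s0) := by rw [C.fix s0 (by decide +kernel)]; group
        _ = 1 := by rw [C.nci.2.1, hs, one_mul]
    · rw [show [3, 1, 2, 0, 1, 3, 1, 0, 2, 1] = [3] ++ ([1, 2, 0, 1] ++ ([3] ++ [1, 0, 2, 1])) from rfl,
        wprod_append, wprod_append, wprod_append, fgen_small (w := [1, 2, 0, 1]) (by decide),
        fgen_small (w := [1, 0, 2, 1]) (by decide),
        show wprod rho [1, 2, 0, 1] = x0 by decide +kernel,
        show wprod rho [1, 0, 2, 1] = x0⁻¹ by decide +kernel, map_inv, wprod_cons, wprod_nil, mul_one]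
      show u * (ι x0 * (u * (ι x0)⁻¹)) = 1
      calc u * (ι x0 * (u * (ι x0)⁻¹)) = u * (ι x0 * u) * (ι x0)⁻¹ := by group
        _ = u * u := by rw [C.fix x0 (by decide +kernel)]; group
        _ = 1 := C.nci.2.1
    · have hq : ι p0 * ι r0 = ι q0 := (map_mul ι p0 r0).symm
      have hq' : ι r0 * ι p0 = (ι q0)⁻¹ := by
        rw [← map_mul, ← map_inv]
        exact congrArg ι (by decide +kernel)
      have h4 : yy ι u 4 = u := by
        rw [yy, show q0 ^ (4 + 1) = 1 by decide +kernel, map_one]; simp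
      have key : ι q0 * u * (ι q0 * u) * (ι q0 * u) * (ι q0 * u) *
          ((ι q0)⁻¹ * (ι q0)⁻¹ * (ι q0)⁻¹ * (ι q0)⁻¹) * u = 1 := by
        have h := C.prod
        rw [prod5, h4] at h
        rw [← h, yy, yy, yy, yy]
        simp only [map_pow]
        group
      rw [← key, ← hq', ← hq]
      simp only [wprod_cons, wprod_nil, mul_one]
      simp only [mul_assoc]
      rfl

/-- The model maps isomorphically onto the centraliser. -/
theorem exists_iso : ∃ ψ : HJUniq.MH →* G, Function.Injective ψ ∧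
    (∀ h, h * t = t * h ↔ h ∈ ψ.range) ∧
    ∀ x, x < 4 → ∀ hx : HJUniq.permOf HJUniq.codesA x ∈ HJUniq.MH,
      ψ ⟨HJUniq.permOf HJUniq.codesA x, hx⟩ = fgen ι u x := by
  classical
  obtain ⟨ψ, hψ⟩ := HJUniq.exists_homH (relH B C)
  refine ⟨ψ, ?_⟩
  have hgen : Subgroup.closure (fgen ι u '' {x | x < 4}) ≤ ψ.range := by
    refine (Subgroup.closure_le _).2 ?_
    rintro _ ⟨x, hx, rfl⟩
    exact ⟨_, hψ x hx (Subgroup.subset_closure ⟨x, hx, rfl⟩)⟩
  set R := ψ.range with hR
  have mι : ∀ τ, ι τ ∈ R := by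
    intro τ
    have : Subgroup.closure ({s0, p0, r0} : Set A5) ≤ R.comap ι := by
      refine (Subgroup.closure_le _).2 ?_
      rintro x (rfl | rfl | rfl)
      exacts [hgen (Subgroup.subset_closure ⟨0, by simp, rfl⟩), hgen (Subgroup.subset_closure ⟨1, by simp, rfl⟩),
        hgen (Subgroup.subset_closure ⟨2, by simp, rfl⟩)]
    have htop : Subgroup.closure ({s0, p0, r0} : Set A5) = ⊤ := by
      rw [eq_top_iff, ← gen_A5 (α := s0) (β := s0 * p0 * r0) (by decide +kernel) (by decide +kernel)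
        (by decide +kernel) (by decide +kernel) (by decide +kernel) (by decide +kernel)]
      refine (Subgroup.closure_le _).2 ?_
      rintro x (rfl | rfl)
      · exact Subgroup.subset_closure (Or.inl rfl)
      · exact mul_mem (mul_mem (Subgroup.subset_closure (Or.inl rfl))
          (Subgroup.subset_closure (Or.inr (Or.inl rfl)))) (Subgroup.subset_closure (Or.inr (Or.inr rfl)))
    rw [htop] at this
    exact this (Subgroup.mem_top τ)
  have mu : u ∈ R := hgen (Subgroup.subset_closure ⟨3, by simp, rfl⟩)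
  have hRC : R ≤ Subgroup.centralizer ({t} : Set G) := by
    rw [hR, MonoidHom.range_eq_map]
    have htop : (⊤ : Subgroup HJUniq.MH) = Subgroup.closure
        (Subtype.val ⁻¹' (HJUniq.permOf HJUniq.codesA '' {x | x < 4})) :=
      (Subgroup.closure_closure_coe_preimage (k := HJUniq.permOf HJUniq.codesA '' {x | x < 4})).symm
    rw [htop, MonoidHom.map_closure]
    refine (Subgroup.closure_le _).2 ?_
    rintro _ ⟨⟨m, hm⟩, ⟨x, hx, e⟩, rfl⟩
    simp only at e
    subst e
    rw [hψ x hx hm]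
    simp only [Set.mem_setOf_eq] at hx
    interval_cases x
    exacts [mem_cent.2 (C.ct _), mem_cent.2 (C.ct _), mem_cent.2 (C.ct _), mem_cent.2 (B.comm_t C.nci.1)]
  have hQR : Q ≤ R := by
    haveI : Fact (Nat.Prime 5) := ⟨by norm_num⟩
    set F := Q ⊓ R with hF
    set c := ι q0 with hcdef
    have hq1 : q0 ≠ 1 := by decide +kernel
    have hc5 : c ^ 5 = 1 := by rw [hcdef, ← map_pow, show q0 ^ 5 = 1 by decide +kernel, map_one]
    have hc1 : c ≠ 1 := fun e => hq1 (C.inQ _ (by rw [← hcdef, e]; exact Q.one_mem))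
    have hstab : ∀ w ∈ F, c * w * c⁻¹ ∈ F := fun w hw =>
      ⟨B.conj_Q (C.ct _) hw.1, R.mul_mem (R.mul_mem (mι _) hw.2) (R.inv_mem (mι _))⟩
    have hm := card_fixed_modEq hc5 (F : Set G) hstab
    have hfix : ∀ w ∈ F, c * w = w * c → w = 1 ∨ w = t := fun w hw e =>
      fix_five B (C.ct _) hc5 hc1 hw.1 (Or.inl (conj_eq_iff_comm.2 e))
    have ht1 : (1 : G) ≠ t := B.t1.symm
    have huF : u ∈ F := ⟨C.nci.1, mu⟩
    have e0 : Nat.card {w : G // w ∈ (F : Set G)} = Nat.card F := rfl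
    rw [e0] at hm
    obtain ⟨m, hm5, he⟩ := (Nat.dvd_prime_pow Nat.prime_two).1
      (show Nat.card F ∣ 2 ^ 5 from (B.card ▸ Subgroup.card_dvd_of_le inf_le_left : Nat.card F ∣ 32))
    intro w hw
    suffices hFQ : F = Q from (hFQ ▸ hw : w ∈ F).2
    refine Subgroup.eq_of_le_of_card_ge inf_le_left ?_
    rw [B.card]
    by_cases htF : t ∈ F
    · have e2 : Nat.card {w : G // w ∈ (F : Set G) ∧ c * w = w * c} = 2 := by
        rw [Nat.card_congr (Equiv.subtypeEquivRight (q := fun w => w ∈ ({1, t} : Finset G)) fun w => by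
          simp only [Finset.mem_insert, Finset.mem_singleton]
          constructor
          · exact fun h => hfix w h.1 h.2
          · rintro (rfl | rfl)
            exacts [⟨F.one_mem, by simp⟩, ⟨htF, C.ct _⟩]), Nat.card_eq_finsetCard, Finset.card_pair ht1]
      rw [e2, he, Nat.ModEq] at hm
      have h3 : 2 < Nat.card F := by
        have hsub : Nat.card ({1, t, u} : Finset G) ≤ Nat.card F :=
          Nat.card_le_card_of_injective (fun y => ⟨y.1, by
            have := y.2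
            simp only [Finset.mem_insert, Finset.mem_singleton] at this
            rcases this with e | e | e <;> rw [e]
            exacts [F.one_mem, htF, huF]⟩) fun a b e => Subtype.ext (congrArg Subtype.val e :)
        rw [Nat.card_eq_finsetCard,
          Finset.card_eq_three.2 ⟨1, t, u, ht1, C.nci.2.2.1.symm, C.nci.2.2.2.symm, rfl⟩] at hsub
        omega
      rw [he] at h3
      interval_cases m <;> simp_all
    · exfalso
      have e1 : Nat.card {w : G // w ∈ (F : Set G) ∧ c * w = w * c} = 1 := by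
        rw [Nat.card_congr (Equiv.subtypeEquivRight (q := fun w => w ∈ ({1} : Finset G)) fun w => by
          simp only [Finset.mem_singleton]
          constructor
          · exact fun h => (hfix w h.1 h.2).resolve_right fun e => htF (e ▸ h.1)
          · rintro rfl
            exact ⟨F.one_mem, by simp⟩), Nat.card_eq_finsetCard, Finset.card_singleton]
      rw [e1, he, Nat.ModEq] at hm
      have h2 := B.minus F inf_le_left fun w hw =>
        (B.sq w hw.1).resolve_right fun e => htF (e ▸ F.mul_mem hw hw)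
      have h1 : 1 < Nat.card F := by
        refine lt_of_le_of_ne Nat.card_pos fun e => C.nci.2.2.1 ?_
        exact Subgroup.mem_bot.1 ((Subgroup.card_eq_one.1 e.symm) ▸ huF)
      rw [he] at h1 h2
      interval_cases m <;> simp_all
  have hCR : ∀ h, h * t = t * h → h ∈ R := by
    intro h ht
    obtain ⟨τ, hτ⟩ := C.cov h ht
    have := R.mul_mem (mι τ) (hQR hτ)
    rwa [mul_inv_cancel_left] at this
  refine ⟨?_, fun h => ⟨hCR h, fun hh => mem_cent.1 (hRC hh)⟩, hψ⟩
  have hReq : R = Subgroup.centralizer ({t} : Set G) := le_antisymm hRC fun h hh => hCR h (mem_cent.1 hh)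
  rw [← MonoidHom.ker_eq_bot_iff]
  haveI : Finite HJUniq.MH := Nat.finite_of_card_ne_zero (by rw [HJUniq.card_MH]; norm_num)
  have h := ψ.ker.card_mul_index
  rw [Subgroup.index_ker, ← hR, hReq, B.card_H, HJUniq.card_MH] at h
  refine Subgroup.card_eq_one.1 ?_
  omega

end Hom

end Cfsg.Agent.J3Uniq
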