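import Cfsg.Agent.Lib.J3Uniq.Model
import Mathlib.Algebra.Group.Basic
import Mathlib.Data.List.Basic

/-!
The interface between the local analysis of a group of third Janko type and the certificates: the
centraliser of an involution as the model, and an element of order three permuting a four group.
-/

set_option autoImplicit false

namespace Cfsg.Agent.J3Uniq

variable {G : Type*} [Group G]

/-- The model of the centraliser inside a group, and the element of order three. -/
structure Amal (emb : ℕ → G) (r : G) : Prop where
  hom : ∀ a b, a < 1920 → b < 1920 → emb (mulC a b) = emb a * emb b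
  inj : ∀ a b, a < 1920 → b < 1920 → emb a = emb b → a = b
  cent : ∀ g : G, g * emb tI = emb tI * g → ∃ a, a < 1920 ∧ emb a = g
  conj : ∀ p ∈ cvList.zip alList, r * emb p.1 = emb p.2 * r
  cube : r * r * r = 1
  inv : emb vI * r * (emb vI * r) = 1

/-- The possible orders of the two products in the central quotient of the centraliser of `xI`. -/
def orderCases : List (ℕ × ℕ) := [(5, 4), (4, 5), (7, 3), (3, 7), (7, 4), (4, 7)]

/-- The second element of order three. -/
def rTwo (emb : ℕ → G) (r : G) : G := emb aI * r * emb aI

/-- The relations in the centraliser of the element `xI`. -/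
def Orders (emb : ℕ → G) (r : G) : Prop :=
  ∃ n ∈ orderCases, ∃ b, b < 3 ∧ (r * rTwo emb r) ^ n.1 = 1 ∧
    (r * r * rTwo emb r) ^ n.2 * emb xI ^ b = 1

end Cfsg.Agent.J3Uniq
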