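import Cfsg.Agent.Lib.J3Uniq.Check

/-!
The model is closed below `1920`.
-/

set_option autoImplicit false
set_option maxRecDepth 20000

namespace Cfsg.Agent.J3Uniq

/-- All numbers below a bound satisfy a test. -/
def allUpTo (p : ℕ → Bool) (n : ℕ) : Bool := Nat.rec true (fun k acc => p k && acc) n

theorem allUpTo_spec {p : ℕ → Bool} : ∀ {n : ℕ}, allUpTo p n = true → ∀ {k : ℕ}, k < n → p k = true := by
  intro n
  induction n with
  | zero => intro _ k hk; omega
  | succ n ih =>
    intro h k hk
    change (p n && allUpTo p n) = true at h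
    rw [Bool.and_eq_true] at h
    rcases Nat.lt_succ_iff_lt_or_eq.1 hk with h1 | h1
    · exact ih h.2 h1
    · exact h1 ▸ h.1

theorem q_bound : allUpTo (fun i => Nat.blt (byte qTab i) 32) 1024 = true := by decide +kernel
theorem h_bound : allUpTo (fun i => Nat.blt (byte hTab i) 60) 3600 = true := by decide +kernel
theorem a_bound : allUpTo (fun i => Nat.blt (byte aTab i) 32) 1920 = true := by decide +kernel

theorem mulC_bound {a b : ℕ} (ha : a < 1920) (hb : b < 1920) : mulC a b < 1920 := by
  have h1 := Nat.le_of_ble_eq_true (allUpTo_spec a_bound (k := 32 * (a % 60) + b / 60) (by omega))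
  have h2 := Nat.le_of_ble_eq_true (allUpTo_spec q_bound
    (k := 32 * (a / 60) + byte aTab (32 * (a % 60) + b / 60)) (by omega))
  have h3 := Nat.le_of_ble_eq_true (allUpTo_spec h_bound (k := 60 * (a % 60) + b % 60) (by omega))
  unfold mulC
  omega

end Cfsg.Agent.J3Uniq
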