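import Cfsg.Agent.Lib.J3Uniq.Model
import Mathlib.Algebra.Group.Basic
import Mathlib.Data.List.GetD
import Mathlib.Tactic

/-!
Certificates for the double coset graph over the centraliser: equations between products
`e a * g i * e f` derived from the relations of the element of order three.

The nodes `g n` are the products given by the definition list; every fact is derived from earlier facts.
-/

set_option autoImplicit false

namespace Cfsg.Agent.J3Uniq

/-- Inverses in the normal subgroup. -/
def qInv : ℕ := 0x1f1e1d181b1a191c17160f0e0d120c1015141311070603050b0a080109020400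

/-- Inverses in the complement. -/
def hInv : ℕ := 0x3b3a393835343736292831302f2e252c2b1e333221202d1f1b1a2726242a1c1d23220c18170a0811100f1413120e0d1906160315040b020709050100

/-- The inverse in the model. -/
def invC (c : ℕ) : ℕ :=
  byte aTab (32 * byte hInv (c % 60) + byte qInv (c / 60)) * 60 + byte hInv (c % 60)

/-- Membership in the model. -/
def okC (a : ℕ) : Bool := Nat.blt a 1920

/-- An equation `r^R * (e a * g i) = e d * g j * e f`. -/
structure Fact where
  R : Bool
  a : ℕ
  i : ℕ
  d : ℕ
  j : ℕ
  f : ℕ

/-- The term `e c * g i * e f`. -/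
structure St where
  c : ℕ
  i : ℕ
  f : ℕ

/-- A step of a path. -/
inductive Op where
  | C (c : ℕ)
  | F (k h : ℕ)
  | B (k h : ℕ)
  | R (k h p : ℕ)

/-- The justification of a fact. -/
inductive Why where
  | one
  | node
  | eq (gap : Bool) (rule : Option (ℕ × ℕ)) (c i : ℕ) (A B : List Op)

/-- A certificate: the definitions of the nodes after the first, the relations, and the facts. -/
structure Cert where
  nodes : List (ℕ × ℕ)
  rels : List (List ℕ)
  facts : List (List Fact)

/-- A fact of the certificate. -/
def Cert.fact (P : Cert) (k : ℕ) : Fact :=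
  (P.facts.getD (k / 32) []).getD (k % 32) ⟨false, 0, 0, 0, 0, 0⟩

variable (P : Cert) (cur : ℕ)

/-- One step: the new term, and the letter read. -/
def step (s : St) : Op → Option (St × List ℕ)
  | .C c => bif okC c && okC s.c && okC (mulC c s.c) then some (⟨mulC c s.c, s.i, s.f⟩, [c]) else none
  | .F k h =>
    let F := P.fact k
    bif Nat.blt k cur && !F.R && Nat.beq s.i F.i && okC h && okC F.a && Nat.beq (mulC h F.a) s.c &&
        okC F.d && okC F.f && okC s.f && okC (mulC h F.d) && okC (mulC F.f s.f) then
      some (⟨mulC h F.d, F.j, mulC F.f s.f⟩, []) else none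
  | .B k h =>
    let F := P.fact k
    bif Nat.blt k cur && !F.R && Nat.beq s.i F.j && okC h && okC F.d && Nat.beq (mulC h F.d) s.c &&
        okC F.a && okC F.f && okC s.f && okC (invC F.f) && Nat.beq (mulC F.f (invC F.f)) 0 &&
        okC (mulC h F.a) && okC (mulC (invC F.f) s.f) then
      some (⟨mulC h F.a, F.i, mulC (invC F.f) s.f⟩, []) else none
  | .R k h p =>
    let F := P.fact k
    bif Nat.blt k cur && F.R && Nat.beq s.i F.i && Nat.blt p 192 && Nat.beq (cvList.getD p 0) h &&
        okC h && okC F.a && Nat.beq (mulC h F.a) s.c && okC (alList.getD p 0) && okC F.d && okC F.f &&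
        okC s.f && okC (mulC (alList.getD p 0) F.d) && okC (mulC F.f s.f) then
      some (⟨mulC (alList.getD p 0) F.d, F.j, mulC F.f s.f⟩, [1920]) else none

/-- A path: the last term, and the letters read. -/
def run : List Op → St → Option (St × List ℕ)
  | [], s => some (s, [])
  | o :: l, s =>
    match step P cur s o with
    | some (s', u) => (match run l s' with
      | some (s'', v) => some (s'', u ++ v)
      | none => none)
    | none => none

/-- The letters undoing a list of letters. -/
def back : List ℕ → Option (List ℕ)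
  | [] => some []
  | x :: l =>
    match back l with
    | some v =>
      bif Nat.beq x 1920 then some (v ++ [vI, 1920, vI])
      else bif okC x && okC (invC x) && Nat.beq (mulC (invC x) x) 0 then some (v ++ [invC x]) else none
    | none => none

/-- Equal lists of letters. -/
def eqL : List ℕ → List ℕ → Bool
  | [], [] => true
  | x :: u, y :: v => Nat.beq x y && eqL u v
  | _, _ => false

/-- The group identity between the letters read on the two paths. -/
def wordsOK (gap : Bool) (rule : Option (ℕ × ℕ)) (u v : List ℕ) : Bool :=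
  let u' := u ++ bif gap then [1920] else []
  match rule with
  | none => eqL u' v
  | some (w, lo) =>
    let ops := (P.rels.getD w []).reverse
    Nat.blt w P.rels.length && eqL u' (ops.take lo) && (match back (ops.drop lo) with
      | some b => eqL v b
      | none => false)

/-- Check one fact. -/
def checkFact : Why → Bool
  | .one =>
    let F := P.fact cur
    !F.R && okC F.a && Nat.beq F.i 0 && Nat.beq F.d 0 && Nat.beq F.j 0 && Nat.beq F.f F.a
  | .node =>
    let F := P.fact cur
    F.R && okC F.a && Nat.beq F.d 0 && Nat.beq F.f 0 && Nat.blt 0 F.j && Nat.ble F.j P.nodes.length &&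
      Nat.blt F.i F.j && Nat.beq (P.nodes.getD (F.j - 1) (0, 0)).1 F.i &&
      Nat.beq (P.nodes.getD (F.j - 1) (0, 0)).2 F.a
  | .eq gap rule c i A B =>
    let F := P.fact cur
    match run P cur A ⟨c, i, 0⟩, run P cur B ⟨c, i, 0⟩ with
    | some (s, u), some (s', v) =>
      wordsOK P gap rule u v && okC c && okC s.c && okC s.f && okC s'.c && okC s'.f && okC (invC s.f) &&
        Nat.beq (mulC s.f (invC s.f)) 0 && okC (mulC s'.f (invC s.f)) &&
        Bool.rec (!F.R) F.R gap && Nat.beq F.a s.c && Nat.beq F.i s.i && Nat.beq F.d s'.c &&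
        Nat.beq F.j s'.i && Nat.beq F.f (mulC s'.f (invC s.f))
    | _, _ => false

/-- Check consecutive facts. -/
def checkFrom : ℕ → List Why → Bool
  | _, [] => true
  | k, y :: l => checkFact P k y && checkFrom (k + 1) l

section sound

variable {G : Type*} [Group G]

/-- The axioms of the engine. -/
structure Rules (e : ℕ → G) (r : G) : Prop where
  hom : ∀ a b, a < 1920 → b < 1920 → e (mulC a b) = e a * e b
  conj : ∀ p, p < 192 → r * e (cvList.getD p 0) = e (alList.getD p 0) * r
  inv : e vI * r * e vI = r⁻¹

variable (e : ℕ → G) (r : G)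

/-- The values of the nodes. -/
def nodeVals : List G := P.nodes.foldl (fun l p => l ++ [r * e p.2 * l.getD p.1 1]) [1]

/-- The value of a node. -/
def node (n : ℕ) : G := (nodeVals P e r).getD n 1

/-- The value of a term. -/
def St.val (s : St) : G := e s.c * node P e r s.i * e s.f

/-- A letter. -/
def letter (x : ℕ) : G := if x = 1920 then r else e x

/-- The product of letters read from the first. -/
def readW : List ℕ → G
  | [] => 1
  | x :: l => readW l * letter e r x

/-- A fact holds. -/
def Fact.Holds (F : Fact) : Prop :=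
  (bif F.R then r else 1) * (e F.a * node P e r F.i) = e F.d * node P e r F.j * e F.f

theorem readW_append (u v : List ℕ) : readW e r (u ++ v) = readW e r v * readW e r u := by
  induction u with
  | nil => simp [readW]
  | cons x u ih => simp only [List.cons_append, readW, ih, mul_assoc]

theorem eqL_eq : ∀ {u v : List ℕ}, eqL u v = true → u = v := by
  intro u
  induction u with
  | nil => intro v h; cases v <;> simp [eqL] at h ⊢
  | cons x u ih =>
    intro v h
    cases v with
    | nil => simp [eqL] at h
    | cons y v =>
      simp only [eqL, Bool.and_eq_true, Nat.beq_eq] at h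
      rw [h.1, ih h.2]

theorem nodeVals_aux : ∀ (N : List (ℕ × ℕ)),
    (N.foldl (fun l p => l ++ [r * e p.2 * l.getD p.1 1]) [1]).length = N.length + 1 ∧
      (N.foldl (fun l p => l ++ [r * e p.2 * l.getD p.1 1]) [1]).getD 0 1 = 1 ∧
      ∀ n, n < N.length → (N.getD n (0, 0)).1 ≤ n →
        (N.foldl (fun l p => l ++ [r * e p.2 * l.getD p.1 1]) [1]).getD (n + 1) 1 =
          r * e (N.getD n (0, 0)).2 *
            (N.foldl (fun l p => l ++ [r * e p.2 * l.getD p.1 1]) [1]).getD (N.getD n (0, 0)).1 1 := by
  intro N
  induction N using List.reverseRecOn with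
  | nil => simp
  | append_singleton N p ih =>
    rw [List.foldl_append, List.foldl_cons, List.foldl_nil]
    set L := N.foldl (fun l p => l ++ [r * e p.2 * l.getD p.1 1]) [1] with hL
    obtain ⟨hlen, hz, ih⟩ := ih
    refine ⟨by simp [hlen], by rw [List.getD_append _ _ _ _ (by omega), hz], fun n hn hle => ?_⟩
    rw [List.length_append, List.length_singleton] at hn
    rcases Nat.lt_succ_iff_lt_or_eq.1 hn with h | rfl
    · rw [List.getD_append _ _ _ _ h] at hle ⊢
      rw [List.getD_append _ _ _ _ (by omega), ih n h hle, List.getD_append _ _ _ _ (by omega)]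
    · rw [List.getD_append_right _ _ _ _ le_rfl, Nat.sub_self, List.getD_cons_zero] at hle ⊢
      rw [List.getD_append_right _ _ _ _ (by omega), hlen, Nat.sub_self, List.getD_cons_zero,
        List.getD_append _ _ _ _ (by omega)]

theorem node_zero : node P e r 0 = 1 := (nodeVals_aux e r P.nodes).2.1

theorem node_succ {n : ℕ} (hn : n < P.nodes.length) (h : (P.nodes.getD n (0, 0)).1 ≤ n) :
    node P e r (n + 1) = r * e (P.nodes.getD n (0, 0)).2 * node P e r (P.nodes.getD n (0, 0)).1 :=
  (nodeVals_aux e r P.nodes).2.2 n hn h

variable {e r} (hR : Rules e r)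
include hR

theorem Rules.e_zero : e 0 = 1 := by
  have h := hR.hom 0 0 (by norm_num) (by norm_num)
  rw [show mulC 0 0 = 0 from by decide +kernel] at h
  exact mul_left_cancel (a := e 0) (by rw [mul_one, ← h])

theorem Rules.e_inv {a b : ℕ} (ha : a < 1920) (hb : b < 1920) (h : mulC a b = 0) : e a * e b = 1 := by
  rw [← hR.hom a b ha hb, h, hR.e_zero]

theorem step_sound (hfacts : ∀ k, k < cur → (P.fact k).Holds P e r) {s s' : St} {o : Op} {u : List ℕ}
    (h : step P cur s o = some (s', u)) : s'.val P e r = readW e r u * s.val P e r := by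
  obtain ⟨c, i, f⟩ := s
  cases o with
  | C x =>
    simp only [step] at h
    cases hc : (okC x && okC c && okC (mulC x c)) with
    | false => rw [hc] at h; simp at h
    | true =>
      simp only [hc, cond_true, Option.some.injEq, Prod.mk.injEq] at h
      simp only [okC, Bool.and_eq_true, Nat.blt_eq] at hc
      obtain ⟨rfl, rfl⟩ := h
      simp only [St.val, readW, letter, one_mul, if_neg (show x ≠ 1920 by omega),
        hR.hom x c (by omega) (by omega), mul_assoc]
  | F k x =>
    simp only [step] at h
    revert h
    generalize hF : P.fact k = F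
    intro h
    cases hc : (Nat.blt k cur && !F.R && Nat.beq i F.i && okC x && okC F.a && Nat.beq (mulC x F.a) c &&
        okC F.d && okC F.f && okC f && okC (mulC x F.d) && okC (mulC F.f f)) with
    | false => rw [hc] at h; simp at h
    | true =>
      simp only [hc, cond_true, Option.some.injEq, Prod.mk.injEq] at h
      simp only [okC, Bool.and_eq_true, Nat.blt_eq, Nat.beq_eq, Bool.not_eq_true'] at hc
      obtain ⟨rfl, rfl⟩ := h
      obtain ⟨⟨⟨⟨⟨⟨⟨⟨⟨⟨hk, hR0⟩, hi⟩, hx⟩, ha⟩, hm⟩, hd⟩, hf⟩, hf0⟩, -⟩, -⟩ := hc
      have H := hfacts k hk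
      rw [hF, Fact.Holds, hR0, cond_false, one_mul] at H
      simp only [St.val, readW, one_mul, hR.hom x _ hx hd, hR.hom _ _ hf hf0, ← hm, hR.hom x _ hx ha]
      rw [show i = F.i from hi]
      calc e x * e F.d * node P e r F.j * (e F.f * e f)
          = e x * (e F.d * node P e r F.j * e F.f) * e f := by group
        _ = _ := by rw [← H]; group
  | B k x =>
    simp only [step] at h
    revert h
    generalize hF : P.fact k = F
    intro h
    cases hc : (Nat.blt k cur && !F.R && Nat.beq i F.j && okC x && okC F.d && Nat.beq (mulC x F.d) c &&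
        okC F.a && okC F.f && okC f && okC (invC F.f) && Nat.beq (mulC F.f (invC F.f)) 0 &&
        okC (mulC x F.a) && okC (mulC (invC F.f) f)) with
    | false => rw [hc] at h; simp at h
    | true =>
      simp only [hc, cond_true, Option.some.injEq, Prod.mk.injEq] at h
      simp only [okC, Bool.and_eq_true, Nat.blt_eq, Nat.beq_eq, Bool.not_eq_true'] at hc
      obtain ⟨rfl, rfl⟩ := h
      obtain ⟨⟨⟨⟨⟨⟨⟨⟨⟨⟨⟨⟨hk, hR0⟩, hi⟩, hx⟩, hd⟩, hm⟩, ha⟩, hf⟩, hf0⟩, hv⟩, hz⟩, -⟩, -⟩ := hc
      have H := hfacts k hk
      rw [hF, Fact.Holds, hR0, cond_false, one_mul] at H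
      have hz' := hR.e_inv hf hv hz
      simp only [St.val, readW, one_mul, hR.hom x _ hx ha, hR.hom _ _ hv hf0, ← hm, hR.hom x _ hx hd]
      rw [show i = F.j from hi]
      calc e x * e F.a * node P e r F.i * (e (invC F.f) * e f)
          = e x * (e F.a * node P e r F.i) * e (invC F.f) * e f := by group
        _ = e x * e F.d * node P e r F.j * (e F.f * e (invC F.f)) * e f := by rw [H]; group
        _ = _ := by rw [hz', mul_one]
  | R k x p =>
    simp only [step] at h
    revert h
    generalize hF : P.fact k = F
    intro h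
    cases hc : (Nat.blt k cur && F.R && Nat.beq i F.i && Nat.blt p 192 && Nat.beq (cvList.getD p 0) x &&
        okC x && okC F.a && Nat.beq (mulC x F.a) c && okC (alList.getD p 0) && okC F.d && okC F.f &&
        okC f && okC (mulC (alList.getD p 0) F.d) && okC (mulC F.f f)) with
    | false => rw [hc] at h; simp at h
    | true =>
      simp only [hc, cond_true, Option.some.injEq, Prod.mk.injEq] at h
      simp only [okC, Bool.and_eq_true, Nat.blt_eq, Nat.beq_eq] at hc
      obtain ⟨rfl, rfl⟩ := h
      obtain ⟨⟨⟨⟨⟨⟨⟨⟨⟨⟨⟨⟨⟨hk, hR1⟩, hi⟩, hp⟩, hcv⟩, hx⟩, ha⟩, hm⟩, hal⟩, hd⟩, hf⟩, hf0⟩, -⟩, -⟩ := hc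
      have H := hfacts k hk
      rw [hF, Fact.Holds, hR1, cond_true] at H
      have hcj := hR.conj p hp
      rw [hcv] at hcj
      simp only [St.val, readW, one_mul, letter, if_pos, hR.hom _ _ hal hd, hR.hom _ _ hf hf0, ← hm,
        hR.hom x _ hx ha]
      rw [show i = F.i from hi]
      calc e (alList.getD p 0) * e F.d * node P e r F.j * (e F.f * e f)
          = e (alList.getD p 0) * (e F.d * node P e r F.j * e F.f) * e f := by group
        _ = e (alList.getD p 0) * r * (e F.a * node P e r F.i) * e f := by rw [← H]; group
        _ = r * e x * (e F.a * node P e r F.i) * e f := by rw [hcj]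
        _ = _ := by group

theorem run_sound (hfacts : ∀ k, k < cur → (P.fact k).Holds P e r) :
    ∀ (l : List Op) {s s' : St} {u : List ℕ}, run P cur l s = some (s', u) →
      s'.val P e r = readW e r u * s.val P e r := by
  intro l
  induction l with
  | nil =>
    intro s s' u h
    simp only [run, Option.some.injEq, Prod.mk.injEq] at h
    obtain ⟨rfl, rfl⟩ := h
    simp [readW]
  | cons o l ih =>
    intro s s' u h
    simp only [run] at h
    cases h1 : step P cur s o with
    | none => simp [h1] at h
    | some p =>
      obtain ⟨s1, u1⟩ := p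
      simp only [h1] at h
      cases h2 : run P cur l s1 with
      | none => simp [h2] at h
      | some q =>
        obtain ⟨s2, u2⟩ := q
        simp only [h2, Option.some.injEq, Prod.mk.injEq] at h
        obtain ⟨rfl, rfl⟩ := h
        rw [ih h2, step_sound P cur hR hfacts h1, readW_append, mul_assoc]

theorem back_sound : ∀ (l b : List ℕ), back l = some b → readW e r b = (readW e r l)⁻¹ := by
  intro l
  induction l with
  | nil => intro b h; simp only [back, Option.some.injEq] at h; subst h; simp [readW]
  | cons x l ih =>
    intro b h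
    simp only [back] at h
    cases hl : back l with
    | none => simp [hl] at h
    | some v =>
      simp only [hl] at h
      rw [readW, mul_inv_rev, ← ih v hl]
      cases hx : Nat.beq x 1920 with
      | true =>
        simp only [hx, cond_true, Option.some.injEq] at h
        subst h
        rw [readW_append, Nat.eq_of_beq_eq_true hx]
        congr 1
        simp only [readW, one_mul, letter, if_true, if_neg (show vI ≠ 1920 by decide)]
        exact hR.inv
      | false =>
        simp only [hx, cond_false] at h
        cases hc : (okC x && okC (invC x) && Nat.beq (mulC (invC x) x) 0) with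
        | false => rw [hc] at h; simp at h
        | true =>
          simp only [hc, cond_true, Option.some.injEq] at h
          simp only [okC, Bool.and_eq_true, Nat.blt_eq, Nat.beq_eq] at hc
          subst h
          rw [readW_append]
          congr 1
          simp only [readW, one_mul, letter, if_neg (show x ≠ 1920 by omega),
            if_neg (show invC x ≠ 1920 by omega)]
          exact eq_inv_of_mul_eq_one_left (hR.e_inv hc.1.2 hc.1.1 hc.2)

variable (hrels : ∀ w, w < P.rels.length → readW e r (P.rels.getD w []).reverse = 1)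
include hrels

theorem words_sound {gap : Bool} {rule : Option (ℕ × ℕ)} {u v : List ℕ}
    (h : wordsOK P gap rule u v = true) : readW e r v = (bif gap then r else 1) * readW e r u := by
  have hu : readW e r (u ++ bif gap then [1920] else []) = (bif gap then r else 1) * readW e r u := by
    cases gap <;> simp [readW_append, readW, letter]
  rw [← hu]
  cases rule with
  | none => simp only [wordsOK] at h; rw [eqL_eq h]
  | some p =>
    obtain ⟨w, lo⟩ := p
    simp only [wordsOK, Bool.and_eq_true, Nat.blt_eq] at h
    obtain ⟨⟨hw, h1⟩, h2⟩ := h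
    cases hb : back ((P.rels.getD w []).reverse.drop lo) with
    | none => rw [hb] at h2; simp at h2
    | some b =>
      simp only [hb] at h2
      rw [eqL_eq h1, eqL_eq h2, back_sound hR _ _ hb]
      have h1' := hrels w hw
      rw [← List.take_append_drop lo (P.rels.getD w []).reverse, readW_append] at h1'
      exact (eq_inv_of_mul_eq_one_right h1').symm

theorem checkFact_sound {y : Why} (hfacts : ∀ k, k < cur → (P.fact k).Holds P e r)
    (h : checkFact P cur y = true) : (P.fact cur).Holds P e r := by
  have h0 := hR.e_zero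
  revert h
  generalize hF : P.fact cur = F
  intro h
  cases y with
  | one =>
    simp only [checkFact, hF, okC, Bool.and_eq_true, Nat.blt_eq, Nat.beq_eq, Bool.not_eq_true'] at h
    obtain ⟨⟨⟨⟨⟨hR0, -⟩, hi⟩, hd⟩, hj⟩, hf⟩ := h
    rw [Fact.Holds, hR0, hi, hd, hj, hf, cond_false, h0]
    have : node P e r 0 = 1 := node_zero P e r
    rw [this]; group
  | node =>
    simp only [checkFact, hF, okC, Bool.and_eq_true, Nat.blt_eq, Nat.beq_eq, Nat.ble_eq] at h
    obtain ⟨⟨⟨⟨⟨⟨⟨⟨hR1, -⟩, hd⟩, hf⟩, hj0⟩, hjl⟩, hij⟩, h1⟩, h2⟩ := h
    rw [Fact.Holds, hR1, hd, hf, cond_true, h0, one_mul, mul_one]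
    obtain ⟨j', hj'⟩ : ∃ j', F.j = j' + 1 := ⟨F.j - 1, by omega⟩
    rw [hj'] at hjl hij h1 h2 ⊢
    simp only [Nat.add_sub_cancel] at h1 h2
    rw [node_succ P e r (by omega) (by omega), h1, h2, mul_assoc]
  | eq gap rule c i A B =>
    simp only [checkFact] at h
    cases hA : run P cur A ⟨c, i, 0⟩ with
    | none => simp [hA] at h
    | some p =>
      obtain ⟨s, u⟩ := p
      cases hB : run P cur B ⟨c, i, 0⟩ with
      | none => simp [hA, hB] at h
      | some q =>
        obtain ⟨s', v⟩ := q
        simp only [hA, hB, hF, okC, Bool.and_eq_true, Nat.blt_eq, Nat.beq_eq] at h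
        obtain ⟨⟨⟨⟨⟨⟨⟨⟨⟨⟨⟨⟨⟨⟨hw, -⟩, -⟩, hsf⟩, -⟩, hsf'⟩, hv⟩, hz⟩, -⟩, hg⟩, ha⟩, hi⟩, hd⟩, hj⟩, hf⟩ := h
        have e1 := run_sound P cur hR hfacts A hA
        have e2 := run_sound P cur hR hfacts B hB
        rw [words_sound P hR hrels hw, mul_assoc, ← e1] at e2
        have hgap : F.R = gap := by cases gap <;> simpa using hg
        rw [Fact.Holds, hgap, ha, hi, hd, hj, hf, hR.hom _ _ hsf' hv]
        simp only [St.val] at e2
        calc (bif gap then r else 1) * (e s.c * node P e r s.i)
            = (bif gap then r else 1) * (e s.c * node P e r s.i * (e s.f * e (invC s.f))) := by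
              rw [hR.e_inv hsf hv hz, mul_one]
          _ = e s'.c * node P e r s'.i * e s'.f * e (invC s.f) := by rw [e2]; group
          _ = _ := by group

theorem checkFrom_sound : ∀ (l : List Why) (k : ℕ), checkFrom P k l = true →
    (∀ m, m < k → (P.fact m).Holds P e r) → ∀ m, m < k + l.length → (P.fact m).Holds P e r := by
  intro l
  induction l with
  | nil => intro k _ hk m hm; exact hk m hm
  | cons y l ih =>
    intro k h hk m hm
    simp only [checkFrom, Bool.and_eq_true] at h
    have hk' : ∀ m, m < k + 1 → (P.fact m).Holds P e r := fun m hm => by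
      rcases Nat.lt_succ_iff_lt_or_eq.1 hm with h1 | h1
      · exact hk m h1
      · exact h1 ▸ checkFact_sound P k hR hrels hk h.1
    exact ih (k + 1) h.2 hk' m (by rw [List.length_cons] at hm; omega)

end sound

end Cfsg.Agent.J3Uniq
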