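import Cfsg.Agent.Lib.J3Uniq.Bound

/-!
A closed double coset graph bounds the order of the generated subgroup.
-/

set_option autoImplicit false

namespace Cfsg.Agent.J3Uniq

/-- A node with elements of its stabiliser, each with a path to the identity coset. -/
structure NodeCov where
  i : ℕ
  S : List (ℕ × List Op)

/-- The bit set of `τ * s` for the given `s`. -/
def marks (S : List ℕ) (τ m : ℕ) : ℕ :=
  S.foldl (fun m s => Nat.lor m (Nat.shiftLeft 1 (mulC τ s))) m

/-- Representatives of the cosets of the listed elements, chosen greedily. -/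
def transList (S : List ℕ) : List ℕ :=
  ((List.range 1920).foldl (fun (p : List ℕ × ℕ) c =>
    bif Nat.testBit p.2 c then p else (c :: p.1, marks S c p.2)) ([], 0)).1

/-- The products of the representatives with the listed elements cover the model. -/
def fullT (S T : List ℕ) : Bool :=
  Nat.beq (T.foldl (fun m τ => marks S τ m) 0) (2 ^ 1920 - 1) && T.all okC

variable (P : Cert) (N : ℕ)

/-- The elements of a node's list. -/
def NodeCov.elts (v : NodeCov) : List ℕ := v.S.map Prod.fst

/-- A node is checked: the paths and the covering. -/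
def NodeCov.ok (v : NodeCov) : Bool :=
  (v.S.all fun p => okC p.1 && (match run P N p.2 ⟨p.1, v.i, 0⟩ with
    | some (s, u) => eqL u [] && Nat.beq s.c 0 && Nat.beq s.i v.i && okC s.f
    | none => false)) && fullT v.elts (transList v.elts)

/-- An edge of the closure: the image of a representative under the element of order three. -/
def edgeOK (L : List ℕ) (i k : ℕ) (ops : List Op) : Bool :=
  okC k && (match run P N ops ⟨k, i, 0⟩ with
    | some (s, u) => eqL u [1920] && L.contains s.i && okC s.c && okC s.f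
    | none => false)

/-- Every element of the model is a listed representative after an element commuting with `uI`. -/
def repsOK (K : List ℕ) : Bool :=
  K.all okC && Nat.beq (cvList.foldl (fun m d => K.foldl (fun m k => Nat.lor m (Nat.shiftLeft 1 (mulC d k))) m) 0)
    (2 ^ 1920 - 1)

theorem testBit_foldl {α : Type*} (g : α → ℕ) : ∀ (l : List α) (m c : ℕ),
    Nat.testBit (l.foldl (fun m a => Nat.lor m (Nat.shiftLeft 1 (g a))) m) c = true →
      Nat.testBit m c = true ∨ ∃ a ∈ l, g a = c := by
  intro l
  induction l with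
  | nil => intro m c h; exact Or.inl h
  | cons a l ih =>
    intro m c h
    rcases ih _ c h with h | ⟨b, hb, he⟩
    · change (m ||| (1 <<< g a)).testBit c = true at h
      rw [Nat.testBit_or, Bool.or_eq_true] at h
      rcases h with h | h
      · exact Or.inl h
      · rw [Nat.one_shiftLeft, Nat.testBit_two_pow, decide_eq_true_eq] at h
        exact Or.inr ⟨a, List.mem_cons_self, h⟩
    · exact Or.inr ⟨b, List.mem_cons_of_mem _ hb, he⟩

theorem testBit_nested {α β : Type*} (g : α → β → ℕ) (K : List β) : ∀ (l : List α) (m c : ℕ),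
    Nat.testBit (l.foldl (fun m a => K.foldl (fun m k => Nat.lor m (Nat.shiftLeft 1 (g a k))) m) m) c = true →
      Nat.testBit m c = true ∨ ∃ a ∈ l, ∃ k ∈ K, g a k = c := by
  intro l
  induction l with
  | nil => intro m c h; exact Or.inl h
  | cons a l ih =>
    intro m c h
    rcases ih _ c h with h | ⟨b, hb, he⟩
    · rcases testBit_foldl (g a) K m c h with h | ⟨k, hk, he⟩
      · exact Or.inl h
      · exact Or.inr ⟨a, List.mem_cons_self, k, hk, he⟩
    · exact Or.inr ⟨b, List.mem_cons_of_mem _ hb, he⟩

theorem full_spec {S T : List ℕ} (h : fullT S T = true) {c : ℕ} (hc : c < 1920) :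
    ∃ τ ∈ T, τ < 1920 ∧ ∃ s ∈ S, mulC τ s = c := by
  rw [fullT, Bool.and_eq_true, Nat.beq_eq, List.all_eq_true] at h
  have hb : Nat.testBit (T.foldl (fun m τ => marks S τ m) 0) c = true := by
    rw [h.1, Nat.testBit_two_pow_sub_one]; exact decide_eq_true hc
  rcases testBit_nested mulC S T 0 c hb with hb | ⟨τ, hτ, s, hs, he⟩
  · simp at hb
  · exact ⟨τ, hτ, by simpa [okC] using h.2 τ hτ, s, hs, he⟩

theorem reps_spec {K : List ℕ} (h : repsOK K = true) {c : ℕ} (hc : c < 1920) :
    ∃ d ∈ cvList, ∃ k ∈ K, k < 1920 ∧ mulC d k = c := by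
  rw [repsOK, Bool.and_eq_true, Nat.beq_eq, List.all_eq_true] at h
  have hb : Nat.testBit (cvList.foldl
      (fun m d => K.foldl (fun m k => Nat.lor m (Nat.shiftLeft 1 (mulC d k))) m) 0) c = true := by
    rw [h.2, Nat.testBit_two_pow_sub_one]; exact decide_eq_true hc
  rcases testBit_nested mulC K cvList 0 c hb with hb | ⟨d, hd, k, hk, he⟩
  · simp at hb
  · exact ⟨d, hd, k, hk, by simpa [okC] using h.1 k hk, he⟩

theorem cv_lt : (List.range 192).all (fun p => okC (cvList.getD p 0) && okC (alList.getD p 0)) = true ∧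
    cvList.length = 192 := by decide +kernel

theorem mulC_zero_left : allUpTo (fun c => Nat.beq (mulC 0 c) c) 1920 = true := by decide +kernel

section card

variable {G : Type*} [Group G] {e : ℕ → G} {r : G}

/-- A closed graph bounds the order of the generated subgroup. -/
theorem card_closure_le (hR : Rules e r) (hf : ∀ k, k < N → (P.fact k).Holds P e r)
    (hcube : r * r * r = 1) (hinvC : ∀ c, c < 1920 → ∃ c', c' < 1920 ∧ e c * e c' = 1)
    (vs : List NodeCov) (hv : ∀ v ∈ vs, v.ok P N = true)
    (K : List ℕ) (hK : repsOK K = true)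
    (hedge : ∀ i ∈ 0 :: vs.map NodeCov.i, ∀ k ∈ K, ∃ ops, edgeOK P N (0 :: vs.map NodeCov.i) i k ops = true)
    (B : ℕ) (hB : 1 + (vs.map fun v => (transList v.elts).length).sum ≤ B) :
    Finite (Subgroup.closure (insert r (e '' {c | c < 1920}))) ∧
      Nat.card (Subgroup.closure (insert r (e '' {c | c < 1920}))) ≤ B * 1920 := by
  classical
  let L := 0 :: vs.map NodeCov.i
  let U : Set G := {x | ∃ i ∈ L, ∃ c f, c < 1920 ∧ f < 1920 ∧ x = e c * node P e r i * e f}
  have hone : (1 : G) ∈ U := ⟨0, List.mem_cons_self, 0, 0, by norm_num, by norm_num,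
    by rw [node_zero, hR.e_zero]; simp⟩
  have hC : ∀ a, a < 1920 → ∀ x ∈ U, e a * x ∈ U := by
    rintro a ha _ ⟨i, hi, c, f, hc, hf', rfl⟩
    exact ⟨i, hi, mulC a c, f, mulC_bound ha hc, hf', by rw [hR.hom a c ha hc]; group⟩
  have hr : ∀ x ∈ U, r * x ∈ U := by
    rintro _ ⟨i, hi, c, f, hc, hf', rfl⟩
    obtain ⟨d, hd, k, hk, hk', rfl⟩ := reps_spec hK hc
    obtain ⟨p, hp, rfl⟩ := List.mem_iff_getElem.1 hd
    obtain ⟨ops, ho⟩ := hedge i hi k hk
    rw [edgeOK, Bool.and_eq_true] at ho
    cases hrun : run P N ops ⟨k, i, 0⟩ with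
    | none => rw [hrun] at ho; simp at ho
    | some q =>
      obtain ⟨s, u⟩ := q
      simp only [hrun, okC, Bool.and_eq_true, Nat.blt_eq] at ho
      obtain ⟨-, ⟨⟨hu, hj⟩, hsc⟩, hsf⟩ := ho
      have h1 := run_sound P N hR hf ops hrun
      rw [eqL_eq hu] at h1
      simp only [readW, letter, if_true, one_mul, St.val, hR.e_zero, mul_one] at h1
      have hp2 : p < 192 := cv_lt.2 ▸ hp
      have hc2 := List.all_eq_true.1 cv_lt.1 p (List.mem_range.2 hp2)
      simp only [okC, Bool.and_eq_true, Nat.blt_eq] at hc2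
      have hcj := hR.conj p hp2
      rw [List.getD_eq_getElem _ _ hp] at hcj hc2
      refine ⟨s.i, List.contains_iff_mem.1 hj, mulC (alList.getD p 0) s.c, mulC s.f f,
        mulC_bound hc2.2 hsc, mulC_bound hsf hf', ?_⟩
      rw [hR.hom _ _ hc2.2 hsc, hR.hom _ _ hsf hf', hR.hom _ _ hc2.1 hk']
      calc r * (e cvList[p] * e k * node P e r i * e f)
          = r * e cvList[p] * (e k * node P e r i) * e f := by group
        _ = e (alList.getD p 0) * r * (e k * node P e r i) * e f :=
          congrArg (fun z => z * (e k * node P e r i) * e f) hcj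
        _ = e (alList.getD p 0) * (r * (e k * node P e r i)) * e f := by group
        _ = _ := by rw [← h1]; group
  -- the image of representatives
  let T : List (ℕ × ℕ) := (0, 0) :: vs.flatMap fun v => (transList v.elts).map fun τ => (v.i, τ)
  let F : Finset G := (T.toFinset ×ˢ Finset.range 1920).image
    fun q => e q.1.2 * node P e r q.1.1 * e q.2
  have hUF : U ⊆ F := by
    rintro _ ⟨i, hi, c, f, hc, hf', rfl⟩
    rw [Finset.mem_coe, Finset.mem_image]
    rcases List.mem_cons.1 hi with rfl | hi
    · refine ⟨((0, 0), mulC c f), Finset.mem_product.2 ⟨List.mem_toFinset.2 List.mem_cons_self,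
        Finset.mem_range.2 (mulC_bound hc hf')⟩, ?_⟩
      simp only [node_zero, hR.e_zero, hR.hom c f hc hf', mul_one, one_mul]
    · obtain ⟨v, hv', rfl⟩ := List.mem_map.1 hi
      have hok := hv v hv'
      rw [NodeCov.ok, Bool.and_eq_true, List.all_eq_true] at hok
      obtain ⟨τ, hτ, hτ', s, hs, rfl⟩ := full_spec hok.2 hc
      obtain ⟨⟨s', ops⟩, hp, rfl⟩ := List.mem_map.1 hs
      have hq := hok.1 _ hp
      rw [Bool.and_eq_true] at hq
      cases hrun : run P N ops ⟨s', v.i, 0⟩ with
      | none => rw [hrun] at hq; simp at hq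
      | some q =>
        obtain ⟨w, u⟩ := q
        simp only [hrun, okC, Bool.and_eq_true, Nat.blt_eq, Nat.beq_eq] at hq
        obtain ⟨hs', ⟨⟨hu, hwc⟩, hwi⟩, hwf⟩ := hq
        have h1 := run_sound P N hR hf ops hrun
        rw [eqL_eq hu] at h1
        simp only [readW, one_mul, St.val, hwc, hwi, hR.e_zero, mul_one] at h1
        refine ⟨((v.i, τ), mulC w.f f), Finset.mem_product.2 ⟨List.mem_toFinset.2 (List.mem_cons_of_mem _
          (List.mem_flatMap.2 ⟨v, hv', List.mem_map.2 ⟨τ, hτ, rfl⟩⟩)),
          Finset.mem_range.2 (mulC_bound hwf hf')⟩, ?_⟩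
        simp only [hR.hom τ s' hτ' hs', hR.hom _ _ hwf hf']
        calc e τ * node P e r v.i * (e w.f * e f) = e τ * (node P e r v.i * e w.f) * e f := by group
          _ = _ := by rw [h1]; group
  have hFcard : F.card ≤ B * 1920 := by
    refine Finset.card_image_le.trans ?_
    rw [Finset.card_product, Finset.card_range]
    refine Nat.mul_le_mul_right _ (le_trans (List.toFinset_card_le _) ?_)
    simpa [T, List.length_flatMap, Nat.add_comm] using hB
  -- the set is stable
  set S := Subgroup.closure (insert r (e '' {c | c < 1920})) with hS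
  have key : ∀ g ∈ S, ∀ x ∈ U, g * x ∈ U ∧ g⁻¹ * x ∈ U := by
    intro g hg
    induction hg using Subgroup.closure_induction with
    | mem g hg =>
      intro x hx
      rcases hg with rfl | ⟨c, hc, rfl⟩
      · refine ⟨hr x hx, ?_⟩
        rw [show g⁻¹ = g * g from inv_eq_of_mul_eq_one_right (by rw [← mul_assoc, hcube]), mul_assoc]
        exact hr _ (hr x hx)
      · refine ⟨hC c hc x hx, ?_⟩
        obtain ⟨c', hc', he⟩ := hinvC c hc
        rw [inv_eq_of_mul_eq_one_right he]
        exact hC c' hc' x hx
    | one => intro x hx; simpa using hx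
    | mul a b _ _ iha ihb =>
      intro x hx
      refine ⟨?_, ?_⟩
      · rw [mul_assoc]; exact (iha _ (ihb x hx).1).1
      · rw [mul_inv_rev, mul_assoc]; exact (ihb _ (iha x hx).2).2
    | inv a _ ih => intro x hx; rw [inv_inv]; exact (ih x hx).symm
  have hsub : (S : Set G) ⊆ F := fun g hg => hUF (by simpa using (key g hg 1 hone).1)
  have hfin : (S : Set G).Finite := F.finite_toSet.subset hsub
  refine ⟨hfin.to_subtype, le_trans ?_ hFcard⟩
  rw [← Nat.card_eq_finsetCard]
  exact Nat.card_mono F.finite_toSet hsub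

end card

end Cfsg.Agent.J3Uniq
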