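import Cfsg.Agent.Lib.J3Uniq.Check
import Cfsg.Agent.Lib.J3Uniq.Amal

/-!
The relations of the local interface, as the certificates use them.
-/

set_option autoImplicit false

namespace Cfsg.Agent.J3Uniq

/-- The relations for given orders and exponent, as lists of letters. -/
def stdRels (n₁ n₂ b : ℕ) : List (List ℕ) :=
  [[1920, 1920, 1920], [vI, 1920, vI, 1920], [1920, xI, vI, 1920, vI, mulC xI xI],
    (List.replicate n₁ [1920, aI, 1920, aI]).flatten,
    (List.replicate n₂ [vI, 1920, vI, aI, 1920, aI]).flatten ++ [[], [xI], [mulC xI xI]].getD b []]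

variable {G : Type*} [Group G] {e : ℕ → G} {r : G}

theorem readW_reverse (e : ℕ → G) (r : G) (w : List ℕ) :
    readW e r w.reverse = (w.map (letter e r)).prod := by
  induction w with
  | nil => rfl
  | cons x w ih =>
    rw [List.reverse_cons, readW_append, List.map_cons, List.prod_cons, ih]
    simp [readW]

theorem prod_replicate_flatten (f : ℕ → G) (n : ℕ) (l : List ℕ) :
    ((List.replicate n l).flatten.map f).prod = (l.map f).prod ^ n := by
  induction n with
  | zero => simp
  | succ n ih => rw [List.replicate_succ, List.flatten_cons, List.map_append, List.prod_append, ih, pow_succ']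

theorem cv_lists : cvList.length = 192 ∧ alList.length = 192 := by decide +kernel

theorem cv_fix : cvList.getD (cvList.findIdx (· == xI)) 0 = xI ∧
    alList.getD (cvList.findIdx (· == xI)) 0 = xI ∧ cvList.findIdx (· == xI) < 192 := by decide +kernel

namespace Amal

variable (h : Amal e r)
include h

theorem rules : Rules e r := by
  refine ⟨h.hom, fun p hp => ?_, ?_⟩
  · have h1 : p < cvList.length := by rw [cv_lists.1]; exact hp
    have h2 : p < alList.length := by rw [cv_lists.2]; exact hp
    have hm : (cvList.getD p 0, alList.getD p 0) ∈ cvList.zip alList := by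
      rw [List.getD_eq_getElem _ _ h1, List.getD_eq_getElem _ _ h2]
      exact List.mem_iff_getElem.2 ⟨p, by simp [h1, h2], by simp⟩
    exact h.conj _ hm
  · refine eq_inv_of_mul_eq_one_left ?_
    rw [mul_assoc]; exact h.inv

theorem e_zero : e 0 = 1 := h.rules.e_zero

theorem ne_one {f : ℕ} (hf : f < 1920) (h0 : f ≠ 0) : e f ≠ 1 := fun e1 =>
  h0 (h.inj f 0 hf (by norm_num) (e1.trans h.e_zero.symm))

theorem comm_x : r * e xI = e xI * r := by
  have := h.rules.conj _ cv_fix.2.2
  rwa [cv_fix.1, cv_fix.2.1] at this

theorem rels_ok {n₁ n₂ b : ℕ} (hb : b < 3) (h1 : (r * rTwo e r) ^ n₁ = 1)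
    (h2 : (r * r * rTwo e r) ^ n₂ * e xI ^ b = 1) {P : Cert} (hP : P.rels = stdRels n₁ n₂ b) :
    ∀ w, w < P.rels.length → readW e r (P.rels.getD w []).reverse = 1 := by
  intro w hw
  rw [readW_reverse]
  rw [hP] at hw ⊢
  have lv : ∀ {x : ℕ}, x < 1920 → letter e r x = e x := fun hx => if_neg (by omega)
  have hx2 : e (mulC xI xI) = e xI * e xI := h.hom _ _ (by decide) (by decide)
  have l0 : letter e r 1920 = r := if_pos rfl
  have la : letter e r aI = e aI := lv (by decide)
  have lvv : letter e r vI = e vI := lv (by decide)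
  have lx : letter e r xI = e xI := lv (by decide)
  have lxx : letter e r (mulC xI xI) = e (mulC xI xI) := lv (by decide +kernel)
  have hx3 : e xI * (e xI * e xI) = 1 := by
    rw [← hx2, ← h.hom _ _ (by decide) (by decide +kernel),
      show mulC xI (mulC xI xI) = 0 by decide +kernel, h.e_zero]
  have hinv := h.rules.inv
  match w with
  | 0 => simp [stdRels, l0, ← mul_assoc, h.cube]
  | 1 =>
    simp only [stdRels, List.getD_cons_zero, List.getD_cons_succ, List.map_cons, List.map_nil,
      List.prod_cons, List.prod_nil, mul_one, l0, lvv]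
    rw [← mul_assoc r, ← mul_assoc, ← mul_assoc, hinv, inv_mul_cancel]
  | 2 =>
    simp only [stdRels, List.getD_cons_zero, List.getD_cons_succ, List.map_cons, List.map_nil,
      List.prod_cons, List.prod_nil, mul_one, l0, lvv, lx, lxx, hx2]
    calc r * (e xI * (e vI * (r * (e vI * (e xI * e xI)))))
        = (r * e xI) * (e vI * r * e vI) * (e xI * e xI) := by group
      _ = e xI * (r * r⁻¹) * (e xI * e xI) := by rw [hinv, h.comm_x]; group
      _ = 1 := by rw [mul_inv_cancel, mul_one, hx3]
  | 3 =>
    simp only [stdRels, List.getD_cons_zero, List.getD_cons_succ, prod_replicate_flatten]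
    simpa [l0, la, rTwo, mul_assoc] using h1
  | 4 =>
    simp only [stdRels, List.getD_cons_zero, List.getD_cons_succ, List.map_append, List.prod_append,
      prod_replicate_flatten]
    have hrr : r * r = e vI * r * e vI := by
      rw [hinv]; exact eq_inv_of_mul_eq_one_left h.cube
    have e1 : (List.map (letter e r) [vI, 1920, vI, aI, 1920, aI]).prod = r * r * rTwo e r := by
      simp [l0, la, lvv, rTwo, hrr, mul_assoc]
    rw [e1]
    match b, hb with
    | 0, _ => simpa using h2
    | 1, _ => simpa [lx] using h2
    | 2, _ => simpa [lxx, hx2, pow_two] using h2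
  | n + 5 => simp [stdRels] at hw

theorem false_of_fact {P : Cert} {k : ℕ} (hk : (P.fact k).Holds P e r) (hR : (P.fact k).R = false)
    (ha : (P.fact k).a = (P.fact k).d) (hi : (P.fact k).i = (P.fact k).j)
    (hf : (P.fact k).f ≠ 0) (hf' : (P.fact k).f < 1920) : False := by
  rw [Fact.Holds, hR, cond_false, one_mul, ha, hi] at hk
  exact h.ne_one hf' hf (mul_left_cancel (hk.symm.trans (mul_one _).symm))

end Amal

end Cfsg.Agent.J3Uniq
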