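import Cfsg.Agent.Lib.J3Uniq.Cases.C541Words
import Cfsg.Agent.Lib.J3Uniq.Rels
import Cfsg.Agent.Lib.J3Uniq.Bound
import Mathlib.Algebra.Group.Conj
import Mathlib.GroupTheory.OrderOfElement

/-!
The case of the Hall–Janko group has an element of order five centralising a four group, which one class of
involutions forbids.
-/

set_option autoImplicit false
set_option maxRecDepth 20000
set_option Elab.async false

namespace Cfsg.Agent.J3Uniq

/-- The power in the model. -/
def powC (c : ℕ) : ℕ → ℕ
  | 0 => 0
  | n + 1 => mulC (powC c n) c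

/-- A central involution and a non-identity element of order five centralise no further involution. -/
def fiveOK : Bool :=
  allUpTo (fun f => !Nat.beq (powC f 5) 0 || Nat.beq f 0 ||
    allUpTo (fun j => !Nat.beq (mulC j j) 0 || Nat.beq j 0 || Nat.beq j tI ||
      !Nat.beq (mulC f j) (mulC j f)) 1920) 1920

theorem five_ok : fiveOK = true := by decide +kernel

theorem moves_t : (allUpTo (fun c => Nat.beq (mulC c tI) (mulC tI c) && !Nat.beq (mulC tI c) (mulC uI c) &&
    okC (mulC tI c) && okC (mulC uI c)) 1920) = true := by decide +kernel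

theorem t_cv : cvList.getD (cvList.findIdx (· == tI)) 0 = tI ∧
    alList.getD (cvList.findIdx (· == tI)) 0 = uI ∧ cvList.findIdx (· == tI) < 192 := by decide +kernel

variable {G : Type*} [Group G] {e : ℕ → G} {r : G}

theorem readW_letters (l : List ℕ) : ∀ u v : List ℕ, l = u ++ v →
    readW e r l = readW e r v * readW e r u := fun u v h => h ▸ readW_append e r u v

theorem run_eq {P : Cert} {N : ℕ} (hR : Rules e r) (hf : ∀ k, k < N → (P.fact k).Holds P e r)
    {A : List Op} {u : List ℕ} {s : St}
    (h : (match run P N A ⟨0, 0, 0⟩ with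
      | some (s', u') => eqL u' u && Nat.beq s'.c s.c && Nat.beq s'.i s.i && Nat.beq s'.f s.f
      | none => false) = true) : readW e r u = s.val P e r := by
  cases hA : run P N A ⟨0, 0, 0⟩ with
  | none => rw [hA] at h; simp at h
  | some p =>
    obtain ⟨s', u'⟩ := p
    rw [hA] at h
    simp only [Bool.and_eq_true, Nat.beq_eq] at h
    have h1 := run_sound P N hR hf A hA
    obtain ⟨⟨⟨hu, hc⟩, hi⟩, hfv⟩ := h
    rw [← eqL_eq hu]
    obtain ⟨c, i, f⟩ := s'
    dsimp only at hc hi hfv
    subst hc hi hfv
    rw [h1]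
    simp [St.val, hR.e_zero, node_zero]

namespace Amal

variable (h : Amal e r)
include h

theorem r_not_mem {c : ℕ} (hc : c < 1920) : r ≠ e c := by
  intro hr
  have h1 := h.rules.conj _ t_cv.2.2
  rw [t_cv.1, t_cv.2.1, hr] at h1
  have hm := allUpTo_spec moves_t hc
  simp only [okC, Bool.and_eq_true, Nat.beq_eq, Bool.not_eq_true', Nat.blt_eq] at hm
  obtain ⟨⟨⟨h2, h3⟩, h4⟩, h5⟩ := hm
  rw [← h.hom c tI hc (by decide), ← h.hom uI c (by decide) hc, h2] at h1
  exact absurd (h.inj _ _ h4 h5 h1) (Nat.ne_of_beq_eq_false h3)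

/-- One class of involutions excludes the case of the Hall–Janko group. -/
theorem false_541 (hone : ∀ x y : G, orderOf x = 2 → orderOf y = 2 → IsConj x y)
    (h1 : (r * rTwo e r) ^ 5 = 1) (h2 : (r * r * rTwo e r) ^ 4 * e xI ^ 1 = 1) : False := by
  have hF := C541.holds h.rules (h.rels_ok (b := 1) (by norm_num) h1 h2 (P := C541.P) (by decide +kernel))
  have hR := h.rules
  have lv : ∀ {x : ℕ}, x < 1920 → letter e r x = e x := fun hx => if_neg (by omega)
  have e0 := h.e_zero
  set F := readW e r C541.W with hFdef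
  -- the two commutation relations
  have comm : ∀ {i : ℕ} {p q : List Op} {s : St}, i < 1920 →
      ((match run C541.P 90 p ⟨0, 0, 0⟩ with
        | some (s', u') => eqL u' (i :: C541.W) && Nat.beq s'.c s.c && Nat.beq s'.i s.i && Nat.beq s'.f s.f
        | none => false) = true) →
      ((match run C541.P 90 q ⟨0, 0, 0⟩ with
        | some (s', u') => eqL u' (C541.W ++ [i]) && Nat.beq s'.c s.c && Nat.beq s'.i s.i && Nat.beq s'.f s.f
        | none => false) = true) → F * e i = e i * F := by
    intro i p q s hi hp hq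
    have hp' := run_eq hR hF hp
    have hq' := run_eq hR hF hq
    rw [readW, lv hi] at hp'
    rw [readW_append, readW, readW, one_mul, lv hi] at hq'
    exact hp'.trans hq'.symm
  have hFi : F * e C541.iI = e C541.iI * F :=
    comm (p := C541.pI1) (q := C541.pI2) (s := ⟨1021, 4, 879⟩) (by decide) (by decide +kernel) (by decide +kernel)
  have hFj : F * e C541.jI = e C541.jI * F :=
    comm (p := C541.pJ1) (q := C541.pJ2) (s := ⟨1021, 4, 65⟩) (by decide) (by decide +kernel) (by decide +kernel)
  have hF5 : F ^ 5 = 1 := by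
    have h5 := run_eq hR hF (A := C541.pF5) (s := ⟨0, 0, 0⟩)
      (u := C541.W ++ (C541.W ++ (C541.W ++ (C541.W ++ C541.W)))) (by decide +kernel)
    simp only [readW_append, St.val, node_zero, e0, mul_one] at h5
    rw [← h5]; simp only [pow_succ, pow_zero, one_mul, mul_assoc, ← hFdef]
  have hF1 : F ≠ 1 := by
    intro e1
    obtain ⟨b, hb⟩ : ∃ b, back C541.W = some b := Option.isSome_iff_exists.1 (by decide +kernel)
    have hA := run_eq hR hF (A := C541.pA) (s := ⟨61, 1, 1874⟩)
      (u := (back C541.W).getD [] ++ ([C541.cI] ++ C541.W)) (by decide +kernel)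
    rw [hb, Option.getD_some, readW_append, readW_append, back_sound hR _ _ hb, ← hFdef, e1, inv_one,
      mul_one, one_mul, readW, readW, one_mul, lv (by decide), St.val] at hA
    rw [node_succ C541.P e r (n := 0) (by decide) (by decide), show (C541.P.nodes.getD 0 (0, 0)).1 = 0 from rfl,
      node_zero] at hA
    -- hence `r` lies in the centraliser
    have hr : r = (e 61)⁻¹ * e C541.cI * (e 1874)⁻¹ * (e (C541.P.nodes.getD 0 (0, 0)).2)⁻¹ := by
      rw [hA]; group
    rw [inv_eq_of_mul_eq_one_right (hR.e_inv (a := 61) (b := invC 61) (by decide) (by decide +kernel) (by decide +kernel)),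
      inv_eq_of_mul_eq_one_right (hR.e_inv (a := 1874) (b := invC 1874) (by decide) (by decide +kernel) (by decide +kernel)),
      inv_eq_of_mul_eq_one_right (hR.e_inv (a := (C541.P.nodes.getD 0 (0, 0)).2)
        (b := invC (C541.P.nodes.getD 0 (0, 0)).2) (by decide) (by decide +kernel) (by decide +kernel)),
      ← h.hom _ _ (by decide +kernel) (by decide), ← h.hom _ _ (by decide +kernel) (by decide +kernel),
      ← h.hom _ _ (by decide +kernel) (by decide +kernel)] at hr
    exact h.r_not_mem (by decide +kernel) hr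
  -- move the first involution to the centre
  have hi2 : e C541.iI * e C541.iI = 1 := hR.e_inv (by decide) (by decide) (by decide +kernel)
  have hj2 : e C541.jI * e C541.jI = 1 := hR.e_inv (by decide) (by decide) (by decide +kernel)
  have hij : e C541.iI * e C541.jI = e C541.jI * e C541.iI := by
    rw [← h.hom _ _ (by decide) (by decide), ← h.hom _ _ (by decide) (by decide),
      show mulC C541.iI C541.jI = mulC C541.jI C541.iI by decide +kernel]
  obtain ⟨g, hg⟩ := isConj_iff.1 (hone (e C541.iI) (e tI)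
    (orderOf_eq_prime (by rw [pow_two, hi2]) (h.ne_one (by decide) (by decide)))
    (orderOf_eq_prime (by rw [pow_two, hR.e_inv (by decide) (by decide) (by decide +kernel)])
      (h.ne_one (by decide) (by decide))))
  have cen : ∀ z : G, z * e C541.iI = e C541.iI * z → ∃ a, a < 1920 ∧ e a = g * z * g⁻¹ := fun z hz => by
    refine h.cent _ ?_
    rw [← hg]
    calc g * z * g⁻¹ * (g * e C541.iI * g⁻¹) = g * (z * e C541.iI) * g⁻¹ := by group
      _ = g * (e C541.iI * z) * g⁻¹ := by rw [hz]
      _ = _ := by group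
  obtain ⟨f', hf', ef⟩ := cen F hFi
  obtain ⟨j', hj', ej⟩ := cen (e C541.jI) hij.symm
  have five : ∀ n, n ≤ 5 → powC f' n < 1920 ∧ e (powC f' n) = (g * F * g⁻¹) ^ n := by
    intro n
    induction n with
    | zero => intro _; exact ⟨Nat.zero_lt_succ _, by rw [powC, e0, pow_zero]⟩
    | succ n ih =>
      intro hn
      obtain ⟨hl, he⟩ := ih (by omega)
      exact ⟨mulC_bound hl hf', by rw [powC, h.hom _ _ hl hf', he, ef, pow_succ]⟩
  obtain ⟨h5l, h5⟩ := five 5 le_rfl
  have p5 : powC f' 5 = 0 := h.inj _ _ h5l (by norm_num) (by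
    rw [h5, conj_pow, hF5, mul_one, mul_inv_cancel, e0])
  have f0 : f' ≠ 0 := fun e1 => hF1 (conj_eq_one_iff.1 (by rw [← ef, e1, e0]))
  have j2 : mulC j' j' = 0 := h.inj _ _ (mulC_bound hj' hj') (by norm_num) (by
    rw [h.hom _ _ hj' hj', ej, conj_mul, hj2, mul_one, mul_inv_cancel, e0])
  have j0 : j' ≠ 0 := fun e1 => h.ne_one (f := C541.jI) (by decide) (by decide)
    (conj_eq_one_iff.1 (by rw [← ej, e1, e0]))
  have jt : j' ≠ tI := fun e1 => by
    have : e C541.jI = e C541.iI := by
      have e2 : g * e C541.jI * g⁻¹ = g * e C541.iI * g⁻¹ := by rw [hg, ← ej, e1]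
      exact mul_left_cancel (mul_right_cancel e2)
    exact absurd (h.inj _ _ (by decide) (by decide) this) (by decide)
  have hfive := allUpTo_spec five_ok hf'
  rw [Bool.or_eq_true, Bool.or_eq_true] at hfive
  rcases hfive with (hq | hq) | hq
  · rw [Bool.not_eq_true'] at hq; exact absurd p5 (Nat.ne_of_beq_eq_false hq)
  · exact f0 (Nat.eq_of_beq_eq_true hq)
  have hq := allUpTo_spec hq hj'
  simp only [Bool.or_eq_true, Bool.not_eq_true', Nat.beq_eq] at hq
  rcases hq with ((hq | hq) | hq) | hq
  · exact absurd j2 (Nat.ne_of_beq_eq_false hq)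
  · exact j0 hq
  · exact jt hq
  · refine absurd (h.inj _ _ ?_ ?_ ?_) (Nat.ne_of_beq_eq_false hq)
    · exact mulC_bound hf' hj'
    · exact mulC_bound hj' hf'
    · rw [h.hom _ _ hf' hj', h.hom _ _ hj' hf', ef, ej, conj_mul, hFj, ← conj_mul]

end Amal

end Cfsg.Agent.J3Uniq
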