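import Cfsg.Agent.Lib.J3Uniq.Small
import Cfsg.Agent.Lib.J3Uniq.HallJanko

/-!
The local interface with one class of involutions leaves the relations of the group of third Janko type.
-/

set_option autoImplicit false

namespace Cfsg.Agent.J3Uniq

variable {G : Type*} [Group G] {e : ℕ → G} {r : G}

/-- One class of involutions forces orders five and four and trivial exponent. -/
theorem relations_of_one_class (h : Amal e r) (ho : Orders e r)
    (hone : ∀ x y : G, orderOf x = 2 → orderOf y = 2 → IsConj x y) :
    (r * rTwo e r) ^ 5 = 1 ∧ (r * r * rTwo e r) ^ 4 = 1 := by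
  obtain ⟨b, hb, h1, h2⟩ := orders_five_four h ho
  match b, hb with
  | 0, _ => exact ⟨h1, by simpa using h2⟩
  | 1, _ => exact (h.false_541 hone h1 h2).elim

end Cfsg.Agent.J3Uniq
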