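import Cfsg.Agent.Lib.J3Uniq.Image
import Cfsg.Agent.Lib.J3Uniq.Reduce
import Cfsg.Agent.Lib.J3Invol.OutAut
import Mathlib.GroupTheory.SpecificGroups.Cyclic
import Mathlib.GroupTheory.Sylow

/-!
A subgroup isomorphic to the group on 6156 points that contains the centraliser of an involution is the
whole group, when there is one class of involutions.
-/

set_option autoImplicit false

namespace Cfsg.Agent.J3Uniq

open Cfsg.Agent.RigidGraph.J3 (j3Group card_j3Group isJ3_j3Group)
open Cfsg.Agent.J3Invol (sH isConj_sH xH orderOf_x centralizer_x)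

theorem centralizer_seventeen {P : Subgroup ↥j3Group} (hP : Nat.card P = 17) :
    Subgroup.centralizer (P : Set ↥j3Group) ≤ P := by
  classical
  haveI : _root_.Fact (Nat.Prime 17) := ⟨by norm_num⟩
  have hfac : (Nat.card ↥j3Group).factorization 17 = 1 := by
    rw [card_j3Group]
    refine le_antisymm ?_ ((Nat.Prime.pow_dvd_iff_le_factorization (by norm_num) (by norm_num)).1 (by norm_num))
    by_contra hlt
    have : 17 ^ 2 ∣ (50232960 : ℕ) :=
      (Nat.Prime.pow_dvd_iff_le_factorization (by norm_num) (by norm_num)).2 (by omega)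
    norm_num at this
  have hx : Nat.card (Subgroup.zpowers xH) = 17 ^ (Nat.card ↥j3Group).factorization 17 := by
    rw [Nat.card_zpowers, orderOf_x, hfac, pow_one]
  have hp : Nat.card P = 17 ^ (Nat.card ↥j3Group).factorization 17 := by rw [hP, hfac, pow_one]
  obtain ⟨g, hg⟩ := MulAction.exists_smul_eq ↥j3Group (Sylow.ofCard P hp) (Sylow.ofCard _ hx)
  have hg' : Subgroup.map (MulAut.conj g).toMonoidHom P = Subgroup.zpowers xH := by
    exact congrArg (fun S : Sylow 17 ↥j3Group => (S : Subgroup ↥j3Group)) hg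
  intro c hc
  have hxm : xH ∈ Subgroup.map (MulAut.conj g).toMonoidHom P := hg' ▸ Subgroup.mem_zpowers xH
  obtain ⟨p, hpP, hpx⟩ := Subgroup.mem_map.1 hxm
  have hcp : p * c = c * p := Subgroup.mem_centralizer_iff.1 hc p hpP
  simp only [MulEquiv.coe_toMonoidHom, MulAut.conj_apply] at hpx
  obtain ⟨i, hi⟩ := centralizer_x (c := g * c * g⁻¹) (by
    rw [← hpx]
    calc g * c * g⁻¹ * (g * p * g⁻¹) = g * (c * p) * g⁻¹ := by group
      _ = g * (p * c) * g⁻¹ := by rw [hcp]
      _ = g * p * g⁻¹ * (g * c * g⁻¹) := by group)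
  have hcm : g * c * g⁻¹ ∈ Subgroup.map (MulAut.conj g).toMonoidHom P := by
    rw [hg', hi]; exact Subgroup.npow_mem_zpowers _ _
  obtain ⟨q, hqP, hq⟩ := Subgroup.mem_map.1 hcm
  simp only [MulEquiv.coe_toMonoidHom, MulAut.conj_apply] at hq
  rwa [← mul_left_cancel (mul_right_cancel hq)]

/-- Subgroups of odd order are small. -/
theorem odd_small {D : Subgroup ↥j3Group} (hodd : Odd (Nat.card D)) : Nat.card D < 26163 := by
  classical
  by_contra hlt
  push Not at hlt
  haveI : _root_.Fact (Nat.Prime 17) := ⟨by norm_num⟩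
  have hdvd : Nat.card D ∣ 392445 := by
    have h := Subgroup.card_subgroup_dvd_card D
    rw [card_j3Group, show (50232960 : ℕ) = 2 ^ 7 * 392445 by norm_num] at h
    exact (Nat.Coprime.pow_right 7 hodd.coprime_two_right).dvd_of_dvd_mul_left h
  obtain ⟨k, hk⟩ := hdvd
  have hk15 : k ≤ 15 := by nlinarith
  obtain ⟨P⟩ : Nonempty (Sylow 17 D) := inferInstance
  have h17 : 17 ∣ Nat.card D := by
    have h : 17 ∣ Nat.card D * k := by rw [← hk]; norm_num
    rcases (Nat.Prime.dvd_mul (by norm_num)).1 h with h | h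
    · exact h
    · exfalso
      have h0 : k ≠ 0 := by rintro rfl; simp at hk
      have := Nat.le_of_dvd (by omega) h
      omega
  have hfac : (Nat.card D).factorization 17 = 1 := by
    refine le_antisymm ?_ ((Nat.Prime.pow_dvd_iff_le_factorization (by norm_num) (by omega)).1 (by simpa using h17))
    by_contra hlt2
    have h2 : 17 ^ 2 ∣ Nat.card D :=
      (Nat.Prime.pow_dvd_iff_le_factorization (by norm_num) (by omega)).2 (by omega)
    have : 17 ^ 2 ∣ 392445 := h2.trans ⟨k, hk⟩
    norm_num at this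
  have hPc : Nat.card (P : Subgroup D) = 17 := by rw [P.card_eq_multiplicity, hfac, pow_one]
  set N := Subgroup.normalizer ((P : Subgroup D) : Set D)
  -- the normaliser centralises
  have hN : N ≤ (P : Subgroup D) := by
    haveI : IsCyclic (P : Subgroup D) := isCyclic_of_prime_card hPc
    let f := (P : Subgroup D).normalizerMonoidHom
    have hcard : Nat.card (MulAut (P : Subgroup D)) = 16 := by
      rw [IsCyclic.card_mulAut, hPc]; rfl
    have hrange : Nat.card f.range = 1 := by
      have d1 : Nat.card f.range ∣ 2 ^ 4 := by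
        have := Subgroup.card_subgroup_dvd_card f.range; rwa [hcard] at this
      have d2 : Nat.card f.range ∣ Nat.card D :=
        (Subgroup.card_range_dvd f).trans (Subgroup.card_subgroup_dvd_card _)
      exact Nat.eq_one_of_dvd_coprimes (Nat.Coprime.pow_left 4 hodd.coprime_two_left) d1 d2
    intro d hd
    have hbot : f.range = ⊥ := Subgroup.eq_bot_of_card_eq _ hrange
    have hd1 : (⟨d, hd⟩ : N) ∈ f.ker := by
      have hm : f ⟨d, hd⟩ ∈ f.range := ⟨_, rfl⟩
      rw [hbot] at hm
      exact hm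
    rw [Subgroup.normalizerMonoidHom_ker] at hd1
    have hc : d ∈ Subgroup.centralizer ((P : Subgroup D) : Set D) := hd1
    have hP' : Nat.card ((P : Subgroup D).map D.subtype) = 17 := by
      rw [Subgroup.card_map_of_injective D.subtype_injective, hPc]
    have : (d : ↥j3Group) ∈ (P : Subgroup D).map D.subtype :=
      centralizer_seventeen hP' (Subgroup.mem_centralizer_iff.2 (by
        rintro _ ⟨q, hq, rfl⟩
        exact congrArg Subtype.val (Subgroup.mem_centralizer_iff.1 hc q hq)))
    obtain ⟨q, hq, he⟩ := Subgroup.mem_map.1 this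
    rwa [← Subtype.ext he]
  have hNeq : N = (P : Subgroup D) := le_antisymm hN Subgroup.le_normalizer
  have hn : Nat.card (Sylow 17 D) * 17 = Nat.card D := by
    rw [P.card_eq_index_normalizer]
    show N.index * 17 = _
    rw [hNeq, mul_comm]
    calc 17 * (P : Subgroup D).index = Nat.card (P : Subgroup D) * (P : Subgroup D).index :=
          congrArg (fun m => m * (P : Subgroup D).index) hPc.symm
      _ = Nat.card D := Subgroup.card_mul_index _
  have hmod := card_sylow_modEq_one 17 D
  unfold Nat.ModEq at hmod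
  have hn1 : Nat.card (Sylow 17 D) * k = 23085 := by rw [← hn] at hk; linarith
  have hk1 : 1 ≤ k := by rcases Nat.eq_zero_or_pos k with rfl | h <;> omega
  interval_cases k <;> omega

section Counting

variable {G : Type*} [Group G] [Finite G]

theorem card_conj (t : G) :
    Nat.card {x : G // IsConj t x} * Nat.card (Subgroup.centralizer ({t} : Set G)) = Nat.card G := by
  rw [← Subgroup.card_mul_index (Subgroup.centralizer ({t} : Set G)), mul_comm, Nat.mul_right_inj Nat.card_pos.ne',
    Subgroup.index_eq_card]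
  refine Nat.card_congr ?_
  refine Equiv.trans ?_ ((MulAction.orbitEquivQuotientStabilizer (ConjAct G) t).trans (Subgroup.quotientEquivOfEq ?_))
  · exact Equiv.subtypeEquivRight fun x => by
      rw [ConjAct.mem_orbit_conjAct]; exact ⟨IsConj.symm, IsConj.symm⟩
  · ext g; simp [MulAction.mem_stabilizer_iff, Subgroup.mem_centralizer_singleton_iff, ConjAct.smul_def,
      mul_inv_eq_iff_eq_mul]
    exact Subgroup.mem_centralizer_singleton_iff.symm

theorem top_of_iso (H : Subgroup G) (φ : ↥H ≃* ↥j3Group) (hone : ∀ x y : G, orderOf x = 2 → orderOf y = 2 → IsConj x y)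
    (t : G) (ht : orderOf t = 2) (hC : Subgroup.centralizer ({t} : Set G) ≤ H)
    (hcard : Nat.card (Subgroup.centralizer ({t} : Set G)) = 1920) : H = ⊤ := by
  classical
  by_contra hH
  have htH : t ∈ H := hC (Subgroup.mem_centralizer_singleton_iff.2 rfl)
  have conjH : ∀ x y : G, x ∈ H → y ∈ H → orderOf x = 2 → orderOf y = 2 → ∃ h ∈ H, h * x * h⁻¹ = y := by
    intro x y hx hy ox oy
    have o' : ∀ z (hz : z ∈ H), orderOf z = 2 → IsConj (φ ⟨z, hz⟩) sH := fun z hz oz =>
      isConj_sH (by rw [MulEquiv.orderOf_eq, Subgroup.orderOf_mk, oz])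
    obtain ⟨c, hc⟩ := isConj_iff.1 ((o' x hx ox).trans (o' y hy oy).symm)
    refine ⟨(φ.symm c : G), (φ.symm c).2, ?_⟩
    have := congrArg φ.symm hc
    simp only [map_mul, map_inv, MulEquiv.symm_apply_apply] at this
    exact congrArg Subtype.val this
  have embedded : ∀ g x : G, x ∈ H → orderOf x = 2 → g * x * g⁻¹ ∈ H → g ∈ H := by
    intro g x hx ox hy
    have oy : orderOf (g * x * g⁻¹) = 2 := by
      rw [← ox]; exact orderOf_injective (MulAut.conj g).toMonoidHom (MulAut.conj g).injective x
    obtain ⟨h, hh, e⟩ := conjH _ x hy hx oy ox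
    obtain ⟨a, ha, ea⟩ := conjH x t hx htH ox ht
    have hm : a * (h * g) * a⁻¹ ∈ H := hC (Subgroup.mem_centralizer_singleton_iff.2 (by
      have e1 : h * g * x = x * (h * g) := by
        calc h * g * x = h * (g * x * g⁻¹) * h⁻¹ * (h * g) := by group
          _ = x * (h * g) := by rw [e]
      rw [← ea]
      calc a * (h * g) * a⁻¹ * (a * x * a⁻¹) = a * (h * g * x) * a⁻¹ := by group
        _ = a * (x * (h * g)) * a⁻¹ := by rw [e1]
        _ = a * x * a⁻¹ * (a * (h * g) * a⁻¹) := by group))
    have := H.mul_mem (H.mul_mem (H.inv_mem hh) (H.mul_mem (H.mul_mem (H.inv_mem ha) hm) ha)) H.one_mem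
    simpa [mul_assoc] using this
  -- numbers of involutions
  let I := {x : G // orderOf x = 2}
  have hI : Nat.card I = 26163 * H.index := by
    have e : Nat.card I = Nat.card {x : G // IsConj t x} := Nat.card_congr (Equiv.subtypeEquivRight fun x =>
      ⟨fun ox => hone t x ht ox, fun hx => by
        obtain ⟨g, rfl⟩ := isConj_iff.1 hx
        rw [← ht]; exact orderOf_injective (MulAut.conj g).toMonoidHom (MulAut.conj g).injective t⟩)
    have h1 := card_conj t
    rw [← e, hcard, ← H.card_mul_index, Nat.card_congr φ.toEquiv, card_j3Group] at h1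
    omega
  have hIH : Nat.card {x : I // x.1 ∈ H} = 26163 := by
    have e : Nat.card {x : I // x.1 ∈ H} = Nat.card {x : ↥H // IsConj (⟨t, htH⟩ : ↥H) x} := by
      refine Nat.card_congr ⟨fun x => ⟨⟨x.1.1, x.2⟩, ?_⟩, fun x => ⟨⟨x.1.1, ?_⟩, x.1.2⟩, fun _ => rfl, fun _ => rfl⟩
      · obtain ⟨h, hh, e⟩ := conjH t x.1.1 htH x.2 ht x.1.2
        exact isConj_iff.2 ⟨⟨h, hh⟩, Subtype.ext e⟩
      · obtain ⟨g, hg⟩ := isConj_iff.1 x.2
        have hg' := congrArg Subtype.val hg
        simp only [Subgroup.coe_mul, Subgroup.coe_inv] at hg'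
        rw [← hg', ← ht]
        exact orderOf_injective (MulAut.conj (g : G)).toMonoidHom (MulAut.conj (g : G)).injective t
    have h1 := card_conj (⟨t, htH⟩ : ↥H)
    have hc : Nat.card (Subgroup.centralizer ({⟨t, htH⟩} : Set ↥H)) = 1920 := by
      rw [← hcard]
      exact Nat.card_congr ⟨fun x => ⟨x.1.1, Subgroup.mem_centralizer_singleton_iff.2
          (congrArg Subtype.val (Subgroup.mem_centralizer_singleton_iff.1 x.2) :)⟩,
        fun x => ⟨⟨x.1, hC x.2⟩, Subgroup.mem_centralizer_singleton_iff.2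
          (Subtype.ext (Subgroup.mem_centralizer_singleton_iff.1 x.2))⟩, fun _ => rfl, fun _ => rfl⟩
    rw [← e, hc, Nat.card_congr φ.toEquiv, card_j3Group] at h1
    omega
  -- the fibres over the other cosets are small
  have small : ∀ j : I, j.1 ∉ H → Nat.card {x : I // x.1 * j.1⁻¹ ∈ H} < 26163 := by
    intro j hj
    have j2 : j.1 * j.1 = 1 := by
      have := pow_orderOf_eq_one j.1
      rwa [j.2, pow_two] at this
    have jinv : j.1⁻¹ = j.1 := inv_eq_of_mul_eq_one_right j2
    let D := H ⊓ H.comap (MulAut.conj j.1).toMonoidHom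
    have hodd : Odd (Nat.card D) := by
      rw [Nat.odd_iff, ← Nat.two_dvd_ne_zero]
      intro h2
      haveI : _root_.Fact (Nat.Prime 2) := ⟨Nat.prime_two⟩
      obtain ⟨d, hd⟩ := exists_prime_orderOf_dvd_card' 2 h2
      rw [← Subgroup.orderOf_coe] at hd
      exact hj (embedded j.1 d d.2.1 hd d.2.2)
    have hle : Nat.card {x : I // x.1 * j.1⁻¹ ∈ H} ≤ Nat.card D := by
      refine Nat.card_le_card_of_injective (fun x => ⟨x.1.1 * j.1⁻¹, x.2, ?_⟩) fun x y e =>
        Subtype.ext (Subtype.ext (mul_right_cancel (congrArg Subtype.val e :)))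
      show j.1 * (x.1.1 * j.1⁻¹) * j.1⁻¹ ∈ H
      have x2 : x.1.1 * x.1.1 = 1 := by
        have := pow_orderOf_eq_one x.1.1
        rwa [x.1.2, pow_two] at this
      have hx := H.inv_mem x.2
      rw [mul_inv_rev, inv_inv, inv_eq_of_mul_eq_one_right x2] at hx
      rw [mul_assoc, mul_assoc, ← mul_inv_rev, j2, inv_one, mul_one]
      exact hx
    have hDH : Nat.card D = Nat.card ((D.subgroupOf H).map φ.toMonoidHom) := by
      rw [Subgroup.card_map_of_injective φ.injective, Nat.card_congr (Subgroup.subgroupOfEquivOfLe inf_le_left).toEquiv]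
    exact hle.trans_lt (hDH ▸ odd_small (hDH ▸ hodd))
  -- counting over the cosets
  let π : I → Quotient (QuotientGroup.rightRel H) := fun x => Quotient.mk _ x.1
  have hπ : ∀ x y : I, π x = π y ↔ y.1 * x.1⁻¹ ∈ H := fun x y => by
    rw [Quotient.eq, QuotientGroup.rightRel_apply]
  haveI : Fintype (Quotient (QuotientGroup.rightRel H)) := Fintype.ofFinite _
  haveI : Fintype I := Fintype.ofFinite _
  have hQ : Fintype.card (Quotient (QuotientGroup.rightRel H)) = H.index := by
    rw [← Nat.card_eq_fintype_card, Nat.card_congr (QuotientGroup.quotientRightRelEquivQuotientLeftRel H)]; rfl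
  have hindex : 2 ≤ H.index := by
    have h0 := H.index_ne_zero_of_finite
    have : H.index ≠ 1 := fun e => hH (Subgroup.index_eq_one.1 e)
    omega
  let q₀ : Quotient (QuotientGroup.rightRel H) := Quotient.mk _ 1
  have hsum : Nat.card I = ∑ q, Nat.card {x : I // π x = q} := by
    rw [← Nat.card_sigma, Nat.card_congr (Equiv.sigmaFiberEquiv π)]
  rw [← Finset.add_sum_erase _ _ (Finset.mem_univ q₀)] at hsum
  have hq₀ : Nat.card {x : I // π x = q₀} = 26163 := by
    rw [← hIH]
    refine Nat.card_congr (Equiv.subtypeEquivRight fun x => ?_)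
    rw [Quotient.eq, QuotientGroup.rightRel_apply, one_mul, inv_mem_iff]
  have hle : ∀ q ∈ Finset.univ.erase q₀, Nat.card {x : I // π x = q} ≤ 26162 := by
    intro q hq
    rcases isEmpty_or_nonempty {x : I // π x = q} with he | ⟨⟨j, hj⟩⟩
    · simp [Nat.card_of_isEmpty]
    · have hjH : j.1 ∉ H := fun hm => Finset.ne_of_mem_erase hq (hj ▸ (by
        rw [Quotient.eq, QuotientGroup.rightRel_apply, one_mul]; exact H.inv_mem hm))
      refine Nat.le_of_lt_succ ((Nat.card_congr (Equiv.subtypeEquivRight fun x => ?_)).trans_lt (small j hjH))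
      rw [← hj, eq_comm, hπ]
  have hbound := Finset.sum_le_card_nsmul _ _ _ hle
  rw [Finset.card_erase_of_mem (Finset.mem_univ _), Finset.card_univ, hQ, smul_eq_mul] at hbound
  omega

end Counting

section Main

variable {G : Type*} [Group G] {e : ℕ → G} {r : G}

theorem t_central : allUpTo (fun c => Nat.beq (mulC c tI) (mulC tI c)) 1920 = true := by decide +kernel

theorem t_sq : mulC tI tI = 0 ∧ tI < 1920 := by decide +kernel

/-- The local interface and one class of involutions give the group on 6156 points. -/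
theorem iso_j3 [Finite G] (h : Amal e r) (ho : Orders e r)
    (hone : ∀ x y : G, orderOf x = 2 → orderOf y = 2 → IsConj x y) : Nonempty (G ≃* ↥j3Group) := by
  classical
  obtain ⟨h1, h2⟩ := relations_of_one_class h ho hone
  obtain ⟨φ⟩ := genSub_iso h h1 h2
  haveI : _root_.Fact (Nat.Prime 2) := ⟨Nat.prime_two⟩
  have ht : orderOf (e tI) = 2 := orderOf_eq_prime (by
    rw [pow_two, ← h.hom _ _ t_sq.2 t_sq.2, t_sq.1, h.e_zero]) (h.ne_one t_sq.2 (by decide))
  have hmem : ∀ g : G, g ∈ Subgroup.centralizer ({e tI} : Set G) ↔ ∃ a, a < 1920 ∧ e a = g := by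
    refine fun g => ⟨fun hg => h.cent g (Subgroup.mem_centralizer_singleton_iff.1 hg), ?_⟩
    rintro ⟨a, ha, rfl⟩
    rw [Subgroup.mem_centralizer_singleton_iff, ← h.hom _ _ ha t_sq.2, ← h.hom _ _ t_sq.2 ha,
      Nat.eq_of_beq_eq_true (allUpTo_spec t_central ha)]
  have hC : Subgroup.centralizer ({e tI} : Set G) ≤ genSub e r := fun g hg => by
    obtain ⟨a, ha, rfl⟩ := (hmem g).1 hg
    exact Subgroup.subset_closure (Or.inr ⟨a, ha, rfl⟩)
  have hcard : Nat.card (Subgroup.centralizer ({e tI} : Set G)) = 1920 := by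
    rw [← Nat.card_fin 1920]
    refine (Nat.card_congr (Equiv.ofBijective (fun a : Fin 1920 =>
      (⟨e a, (hmem _).2 ⟨a, a.2, rfl⟩⟩ : Subgroup.centralizer ({e tI} : Set G))) ⟨?_, ?_⟩)).symm
    · exact fun a b hab => Fin.ext (h.inj a b a.2 b.2 (congrArg Subtype.val hab))
    · rintro ⟨g, hg⟩
      obtain ⟨a, ha, rfl⟩ := (hmem g).1 hg
      exact ⟨⟨a, ha⟩, rfl⟩
  have htop := top_of_iso (genSub e r) φ hone (e tI) ht hC hcard
  exact ⟨(Subgroup.topEquiv.symm.trans (MulEquiv.subgroupCongr htop.symm)).trans φ⟩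

end Main

end Cfsg.Agent.J3Uniq
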