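import Cfsg.Agent.Lib.J3Uniq.ModelWords
import Cfsg.Agent.Lib.J3Uniq.Rels
import Cfsg.Agent.Lib.HJUniq.Transfer
import Cfsg.Agent.Lib.J3Invol.Class

/-!
The interface holds inside the group on 6156 points, whose generators are then in the generated subgroup.
-/

set_option autoImplicit false
set_option maxRecDepth 100000
set_option Elab.async false

namespace Cfsg.Agent.J3Uniq

open Cfsg.Agent.J3Invol (wordVal keyOf okWord okWord_mem eq_of_key eq_one_iff append_lt wordVal_append)
open Cfsg.Agent.RigidGraph.J3 (j3Group)
open Cfsg.Agent.CosetCert (wprod wprod_cons wprod_nil)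

/-- Equal values of two words, decided on four points. -/
def sameVal (u v : List ℕ) : Bool := okWord u && okWord v && keyOf u == keyOf v

theorem sameVal_eq {u v : List ℕ} (h : sameVal u v = true) : wordVal u = wordVal v := by
  simp only [sameVal, Bool.and_eq_true, beq_iff_eq] at h
  exact eq_of_key (okWord_mem h.1.1) (okWord_mem h.1.2) h.2

theorem base_A5 : (CosetData.HJA.base.all fun w => sameVal (w.flatMap fun x => genW.getD x []) []) = true := by
  decide +kernel

theorem base_H : (CosetData.HJH.base.all fun w => sameVal (w.flatMap fun x => genW.getD x []) []) = true := by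
  decide +kernel

theorem gen_invol : ((List.range 4).all fun x => sameVal (genW.getD x [] ++ genW.getD x []) []) = true := by
  decide +kernel

theorem conj_check : ((cvList.zip alList).all fun p => sameVal (rW ++ modW p.1) (modW p.2 ++ rW)) = true := by
  decide +kernel

theorem rel_check : (stdRels 5 4 0).all (fun w => sameVal (w.flatMap letW) []) = true := by decide +kernel

theorem exp_check : sameVal (expA.flatMap letW) [0] = true ∧ sameVal (expB.flatMap letW) [2] = true ∧
    expA.all (fun x => Nat.ble x 1920) = true ∧ expB.all (fun x => Nat.ble x 1920) = true := by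
  refine ⟨?_, ?_, ?_, ?_⟩ <;> decide +kernel

/-- The four generators. -/
noncomputable def fJ (x : ℕ) : ↥j3Group := wordVal (genW.getD x [])

theorem wprod_fJ (w : List ℕ) : wprod fJ w = wordVal (w.flatMap fun x => genW.getD x []) := by
  induction w with
  | nil => rfl
  | cons x w ih => rw [wprod_cons, List.flatMap_cons, wordVal_append, ih]; rfl

theorem relH_fJ : HJUniq.RelH fJ := by
  refine ⟨fun x => ?_, fun w hw => ?_, fun w hw => ?_⟩
  · by_cases hx : x < 4
    · rw [fJ, ← wordVal_append]
      exact sameVal_eq (List.all_eq_true.1 gen_invol x (List.mem_range.2 hx))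
    · rw [fJ, List.getD_eq_default _ _ (show genW.length ≤ x by simp [genW]; omega)]
      exact mul_one _
  · rw [wprod_fJ]; exact sameVal_eq (List.all_eq_true.1 base_A5 w hw)
  · rw [wprod_fJ]; exact sameVal_eq (List.all_eq_true.1 base_H w hw)

/-- The model inside the group. -/
noncomputable def eJ (c : ℕ) : ↥j3Group := wordVal (modW c)

/-- The element of order three inside the group. -/
noncomputable def rJ : ↥j3Group := wordVal rW

theorem eJ_hom : ∀ a b, a < 1920 → b < 1920 → eJ (mulC a b) = eJ a * eJ b := by
  obtain ⟨ψ, hψ⟩ := HJUniq.exists_homH relH_fJ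
  have he : ∀ c, ∀ h : c < 1920, eJ c = ψ ⟨perm c, perm_mem h⟩ := fun c h => by
    rw [eJ, modW, ← wprod_fJ, ← HJUniq.hom_wprod hψ (word_facts h).1]
    exact congrArg ψ (Subtype.ext (word_facts h).2.symm)
  intro a b ha hb
  rw [he _ (mulC_facts ha hb).1, he a ha, he b hb, ← map_mul]
  exact congrArg ψ (Subtype.ext (mulC_facts ha hb).2)

theorem letter_J (x : ℕ) : letter eJ rJ x = wordVal (letW x) := by
  by_cases h : x = 1920
  · subst h; rfl
  · rw [letter, if_neg h, letW]
    cases hb : Nat.beq x 1920
    · rfl
    · exact absurd (Nat.eq_of_beq_eq_true hb) h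

theorem prod_letters (w : List ℕ) : (w.map (letter eJ rJ)).prod = wordVal (w.flatMap letW) := by
  induction w with
  | nil => rfl
  | cons x w ih => rw [List.map_cons, List.prod_cons, List.flatMap_cons, wordVal_append, ih, letter_J]

theorem rels_J {P : Cert} (hP : P.rels = stdRels 5 4 0) :
    ∀ w, w < P.rels.length → readW eJ rJ (P.rels.getD w []).reverse = 1 := by
  intro w hw
  rw [readW_reverse, prod_letters, List.getD_eq_getElem _ _ hw]
  exact sameVal_eq (List.all_eq_true.1 rel_check _ (hP ▸ List.getElem_mem hw))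

theorem cube_J : rJ * rJ * rJ = 1 := by
  have h := rels_J (P := ⟨[], stdRels 5 4 0, []⟩) rfl 0 (by simp [stdRels])
  simpa [stdRels, readW, letter, mul_assoc] using h

theorem inv_J : eJ vI * rJ * eJ vI = rJ⁻¹ := by
  have h := rels_J (P := ⟨[], stdRels 5 4 0, []⟩) rfl 1 (by simp [stdRels])
  refine eq_inv_of_mul_eq_one_left ?_
  rw [readW_reverse] at h
  simp only [stdRels, List.getD_cons_zero, List.getD_cons_succ, List.map_cons, List.map_nil, List.prod_cons,
    List.prod_nil, mul_one, letter, if_true, if_neg (show ¬ vI = 1920 by decide)] at h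
  rw [mul_assoc, mul_assoc]
  exact h

theorem rules_J : Rules eJ rJ := by
  refine ⟨eJ_hom, fun p hp => ?_, inv_J⟩
  have h1 : p < cvList.length := by rw [cv_lists.1]; exact hp
  have h2 : p < alList.length := by rw [cv_lists.2]; exact hp
  have hm : (cvList.getD p 0, alList.getD p 0) ∈ cvList.zip alList := by
    rw [List.getD_eq_getElem _ _ h1, List.getD_eq_getElem _ _ h2]
    exact List.mem_iff_getElem.2 ⟨p, by simp [h1, h2], by simp⟩
  have h := sameVal_eq (List.all_eq_true.1 conj_check _ hm)
  rwa [wordVal_append, wordVal_append] at h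

section
attribute [local irreducible] RigidGraph.J3.nodes

theorem alpha_node : RigidGraph.getN RigidGraph.J3.nodes (J3Invol.alpha.getD 0 0) = RigidGraph.J3.nodes.getD 0 (0, 0) ∧
    RigidGraph.getN RigidGraph.J3.nodes (J3Invol.alpha.getD 2 0) = RigidGraph.J3.nodes.getD 1 (0, 0) :=
  ⟨rfl, rfl⟩

end

attribute [local irreducible] RigidGraph.J3.nodes RigidGraph.permOf in
theorem gen_top : Subgroup.closure (insert rJ (eJ '' {c | c < 1920})) = ⊤ := by
  set S := Subgroup.closure (insert rJ (eJ '' {c | c < 1920}))
  have hmem : ∀ w : List ℕ, w.all (fun x => Nat.ble x 1920) = true → (w.map (letter eJ rJ)).prod ∈ S := by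
    intro w hw
    refine S.list_prod_mem fun g hg => ?_
    obtain ⟨x, hx, rfl⟩ := List.mem_map.1 hg
    have hle := Nat.le_of_ble_eq_true (List.all_eq_true.1 hw x hx)
    by_cases h : x = 1920
    · subst h; exact Subgroup.subset_closure (Or.inl rfl)
    · exact Subgroup.subset_closure (Or.inr ⟨x, show x < 1920 by omega, by rw [letter, if_neg h]⟩)
  have hA := hmem _ exp_check.2.2.1
  have hB := hmem _ exp_check.2.2.2
  rw [prod_letters, sameVal_eq exp_check.1] at hA
  rw [prod_letters, sameVal_eq exp_check.2.1] at hB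
  have v1 : ∀ i, wordVal [i] = J3Invol.gen i := fun i => by simp [wordVal]
  rw [v1] at hA hB
  rw [eq_top_iff]
  have hle : j3Group ≤ S.map j3Group.subtype := by
    show RigidGraph.grp 6156 RigidGraph.J3.nodes ≤ _
    rw [RigidGraph.grp, Subgroup.closure_le, Set.insert_subset_iff, Set.singleton_subset_iff]
    refine ⟨⟨_, hA, ?_⟩, ⟨_, hB, ?_⟩⟩
    · rw [Subgroup.coe_subtype, J3Invol.gen_val (i := 0) (by norm_num), alpha_node.1]
    · rw [Subgroup.coe_subtype, J3Invol.gen_val (i := 2) (by norm_num), alpha_node.2]
  intro g _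
  obtain ⟨g', hg', e⟩ := hle g.2
  rwa [← Subtype.ext e]

end Cfsg.Agent.J3Uniq
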