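import Cfsg.Agent.Lib.J3Uniq.Cases.C540Cover
import Cfsg.Agent.Lib.J3Uniq.ModelJ3
import Cfsg.Agent.Lib.J3Uniq.HallJanko

/-!
The relations of the group of third Janko type give a subgroup isomorphic to the group on 6156 points.
-/

set_option autoImplicit false
set_option maxRecDepth 100000

namespace Cfsg.Agent.J3Uniq

open Cfsg.Agent.RigidGraph.J3 (j3Group card_j3Group isJ3_j3Group)
open Cfsg.Agent.J3Invol (wordVal okWord_mem eq_one_iff)

theorem inv_check : allUpTo (fun c => okC (invC c) && Nat.beq (mulC c (invC c)) 0) 1920 = true := by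
  decide +kernel

theorem t_facts : alList.getD (cvList.findIdx (· == uI)) 0 = mulC tI uI ∧
    cvList.getD (cvList.findIdx (· == uI)) 0 = uI ∧ cvList.findIdx (· == uI) < 192 ∧
    mulC tI (mulC tI uI) = uI := by decide +kernel

theorem eJ_ne : allUpTo (fun c => Nat.beq c 0 ||
    (J3Invol.okWord (modW c) && !(J3Invol.keyOf (modW c) == J3Invol.base))) 1920 = true := by
  decide +kernel

theorem eJ_eq_one {c : ℕ} (hc : c < 1920) (h : eJ c = 1) : c = 0 := by
  have h1 := allUpTo_spec eJ_ne hc
  simp only [Bool.or_eq_true, Bool.and_eq_true, Nat.beq_eq, Bool.not_eq_true'] at h1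
  rcases h1 with h1 | ⟨hw, hk⟩
  · exact h1
  · rw [eJ, eq_one_iff (okWord_mem hw)] at h
    rw [h] at hk
    simp at hk

theorem rules_inv {G : Type*} [Group G] {e : ℕ → G} {r : G} (hR : Rules e r) :
    ∀ c, c < 1920 → ∃ c', c' < 1920 ∧ e c * e c' = 1 := by
  intro c hc
  have h := allUpTo_spec inv_check hc
  simp only [okC, Bool.and_eq_true, Nat.blt_eq, Nat.beq_eq] at h
  exact ⟨invC c, h.1, hR.e_inv hc h.1 h.2⟩

theorem readW_prod {A B : Type*} [Group A] [Group B] (e : ℕ → A) (r : A) (e' : ℕ → B) (r' : B) (w : List ℕ) :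
    readW (fun c => (e c, e' c)) (r, r') w = (readW e r w, readW e' r' w) := by
  induction w with
  | nil => rfl
  | cons x w ih =>
    rw [readW, readW, readW, ih]
    by_cases h : x = 1920 <;> simp [letter, h]

variable {G : Type*} [Group G] {e : ℕ → G} {r : G}

/-- The subgroup generated by the model and the element of order three. -/
def genSub (e : ℕ → G) (r : G) : Subgroup G := Subgroup.closure (insert r (e '' {c | c < 1920}))

/-- The relations give a copy of the group on 6156 points. -/
theorem genSub_iso (h : Amal e r) (h1 : (r * rTwo e r) ^ 5 = 1) (h2 : (r * r * rTwo e r) ^ 4 = 1) :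
    Nonempty (genSub e r ≃* ↥j3Group) := by
  classical
  let E : ℕ → G × ↥j3Group := fun c => (e c, eJ c)
  let R : G × ↥j3Group := (r, rJ)
  have hP : C540.P.rels = stdRels 5 4 0 := by decide +kernel
  have hR : Rules E R := ⟨fun a b ha hb => Prod.ext (h.hom a b ha hb) (eJ_hom a b ha hb),
    fun p hp => Prod.ext (h.rules.conj p hp) (rules_J.conj p hp), Prod.ext h.rules.inv inv_J⟩
  have hrels : ∀ w, w < C540.P.rels.length → readW E R (C540.P.rels.getD w []).reverse = 1 := fun w hw => by
    rw [readW_prod, h.rels_ok (b := 0) (by norm_num) h1 (by simpa using h2) hP w hw, rels_J hP w hw]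
    rfl
  obtain ⟨hfin, hcard⟩ := C540.card_le hR (C540.holds hR hrels) (Prod.ext h.cube cube_J) (rules_inv hR)
  set S := Subgroup.closure (insert R (E '' {c | c < 1920})) with hS
  haveI : Finite S := hfin
  haveI : IsSimpleGroup ↥j3Group := isJ3_j3Group.1
  -- the two projections
  let p₁ : ↥S →* G := (MonoidHom.fst G ↥j3Group).comp S.subtype
  let p₂ : ↥S →* ↥j3Group := (MonoidHom.snd G ↥j3Group).comp S.subtype
  have hr₁ : p₁.range = genSub e r := by
    rw [MonoidHom.range_comp, Subgroup.range_subtype, hS, MonoidHom.map_closure, genSub, Set.image_insert_eq,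
      Set.image_image]
    rfl
  have hs₂ : Function.Surjective p₂ := by
    rw [← MonoidHom.range_eq_top, MonoidHom.range_comp, Subgroup.range_subtype, hS, MonoidHom.map_closure,
      Set.image_insert_eq, Set.image_image]
    exact gen_top
  have hcard' : Nat.card S ≤ 3 * 50232960 := hcard.trans (by norm_num)
  haveI : Finite p₁.range := Finite.of_surjective p₁.rangeRestrict p₁.rangeRestrict_surjective
  have hH : 1920 ≤ Nat.card p₁.range := by
    have hmem : ∀ c : Fin 1920, e c ∈ p₁.range := fun c => by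
      rw [hr₁]; exact Subgroup.subset_closure (Or.inr ⟨c, c.2, rfl⟩)
    have := Nat.card_le_card_of_injective (fun c : Fin 1920 => (⟨e c, hmem c⟩ : p₁.range))
      fun a b hab => Fin.ext (h.inj a b a.2 b.2 (congrArg Subtype.val hab))
    simpa using this
  -- the first projection is injective
  have hinj₁ : Function.Injective p₁ := by
    rw [← MonoidHom.ker_eq_bot_iff]
    rcases IsSimpleGroup.eq_bot_or_eq_top_of_normal _
        ((MonoidHom.normal_ker p₁).map p₂ hs₂) with hk | hk
    · rw [eq_bot_iff]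
      intro z hz
      have h2z := Subgroup.mem_bot.1 (hk ▸ Subgroup.mem_map_of_mem p₂ hz)
      exact Subgroup.mem_bot.2 (Subtype.ext (Prod.ext hz h2z))
    · exfalso
      have h50 : 50232960 ≤ Nat.card p₁.ker := by
        have := Nat.card_le_card_of_surjective (fun z : p₁.ker => (⟨p₂ z, Subgroup.mem_map_of_mem p₂ z.2⟩ :
          p₁.ker.map p₂)) (by rintro ⟨_, z, hz, rfl⟩; exact ⟨⟨z, hz⟩, rfl⟩)
        rwa [hk, Subgroup.card_top, card_j3Group] at this
      have := p₁.ker.card_mul_index
      rw [Subgroup.index_ker] at this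
      nlinarith
  -- the second kernel
  have hker : Nat.card p₂.ker ≤ 3 := by
    have := p₂.ker.card_mul_index
    rw [Subgroup.index_ker, MonoidHom.range_eq_top.2 hs₂, Subgroup.card_top, card_j3Group] at this
    omega
  have memE : ∀ c, c < 1920 → E c ∈ S := fun c hc => Subgroup.subset_closure (Or.inr ⟨c, hc, rfl⟩)
  have hinj₂ : Function.Injective p₂ := by
    rw [← MonoidHom.ker_eq_bot_iff, eq_bot_iff]
    intro z hz
    by_contra hz1
    rw [Subgroup.mem_bot] at hz1
    have hn := MonoidHom.normal_ker p₂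
    let a : G := p₁ z
    have ha1 : a ≠ 1 := fun e1 => hz1 (hinj₁ (e1.trans (map_one p₁).symm))
    have himg : ∀ s : S, ∃ w ∈ p₂.ker, p₁ w = p₁ s * a * (p₁ s)⁻¹ := fun s =>
      ⟨s * z * s⁻¹, hn.conj_mem z hz s, by simp [a]⟩
    -- at most two elements in the orbit
    have two : ∀ x y w : G, (∃ v ∈ p₂.ker, p₁ v = x) → (∃ v ∈ p₂.ker, p₁ v = y) → (∃ v ∈ p₂.ker, p₁ v = w) →
        x ≠ 1 → y ≠ 1 → w ≠ 1 → x ≠ y → w = x ∨ w = y := by
      rintro _ _ _ ⟨x, hx, rfl⟩ ⟨y, hy, rfl⟩ ⟨w, hw, rfl⟩ hx1 hy1 hw1 hxy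
      by_contra hne
      push Not at hne
      have hsub : Nat.card ({1, x, y, w} : Finset S) ≤ Nat.card p₂.ker :=
        Nat.card_le_card_of_injective (fun v => ⟨v.1, by
          have hv := v.2
          simp only [Finset.mem_insert, Finset.mem_singleton] at hv
          rcases hv with e | e | e | e <;> rw [e]
          exacts [p₂.ker.one_mem, hx, hy, hw]⟩) fun u v e => Subtype.ext (congrArg Subtype.val e :)
      have n1 : ∀ v : S, p₁ v ≠ 1 → (1 : S) ≠ v := fun v hv e1 => hv (by rw [← e1, map_one])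
      rw [Nat.card_eq_finsetCard, Finset.card_insert_of_notMem (by simp [n1 x hx1, n1 y hy1, n1 w hw1]),
        Finset.card_insert_of_notMem (by
          simp only [Finset.mem_insert, Finset.mem_singleton, not_or]
          exact ⟨fun e1 => hxy (congrArg p₁ e1), fun e1 => hne.1 (congrArg p₁ e1).symm⟩),
        Finset.card_pair fun e1 => hne.2 (congrArg p₁ e1).symm] at hsub
      omega
    have conjE : ∀ g : G, (∃ s : S, p₁ s = g) → ∃ v ∈ p₂.ker, p₁ v = g * a * g⁻¹ := by
      rintro g ⟨s, rfl⟩; exact himg s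
    have cne : ∀ g : G, g * a * g⁻¹ ≠ 1 := fun g h => ha1 (conj_eq_one_iff.1 h)
    have memr : ∃ s : S, p₁ s = r := ⟨⟨R, Subgroup.subset_closure (Or.inl rfl)⟩, rfl⟩
    have memc : ∀ c, c < 1920 → ∃ s : S, p₁ s = e c := fun c hc => ⟨⟨E c, memE c hc⟩, rfl⟩
    -- the central involution centralises the kernel
    have hta : e tI * a * (e tI)⁻¹ = a := by
      by_contra hne
      set b := e tI * a * (e tI)⁻¹ with hb
      have orbit : ∀ g : G, (∃ s : S, p₁ s = g) → g * a * g⁻¹ = a ∨ g * a * g⁻¹ = b := fun g hg =>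
        two a b _ ⟨z, hz, rfl⟩ (conjE _ (memc tI (by decide))) (conjE g hg) ha1 (cne _) (cne g) (Ne.symm hne)
      have hrr : r * a * r⁻¹ = a := by
        refine (orbit r memr).resolve_right fun hrb => ?_
        have hrb2 : r * b * r⁻¹ = a := by
          have e2 : r * r * a * (r * r)⁻¹ = r * b * r⁻¹ := by rw [← hrb]; group
          rcases orbit (r * r) (memr.elim fun s hs => ⟨s * s, by rw [map_mul, hs]⟩) with e1 | e1
          · rw [← e2, e1]
          · exact absurd (mul_left_cancel (mul_right_cancel ((hrb.trans (e1.symm.trans e2)))))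
              (Ne.symm hne)
        refine hne (Eq.symm ?_)
        calc a = (r * r * r) * a * (r * r * r)⁻¹ := by rw [h.cube]; group
          _ = r * (r * (r * a * r⁻¹) * r⁻¹) * r⁻¹ := by group
          _ = b := by rw [hrb, hrb2, hrb]
      have hrinv : r⁻¹ * a * r = a := by
        calc r⁻¹ * a * r = r⁻¹ * (r * a * r⁻¹) * r := by rw [hrr]
          _ = a := by group
      have hc1 := h.rules.conj _ t_cv.2.2
      rw [t_cv.1, t_cv.2.1] at hc1
      have hu : e uI * a * (e uI)⁻¹ = r * b * r⁻¹ := by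
        rw [show e uI = r * e tI * r⁻¹ by rw [hc1]; group, hb]
        calc r * e tI * r⁻¹ * a * (r * e tI * r⁻¹)⁻¹
            = r * (e tI * (r⁻¹ * a * r) * (e tI)⁻¹) * r⁻¹ := by group
          _ = _ := by rw [hrinv]
      have hrb : r * b * r⁻¹ = b := by
        rcases two a b _ ⟨z, hz, rfl⟩ (conjE _ (memc tI (by decide))) (hu ▸ conjE _ (memc uI (by decide)))
          ha1 (cne _) (hu ▸ cne _) (Ne.symm hne) with e1 | e1
        · exact absurd (mul_left_cancel (mul_right_cancel (e1.trans hrr.symm))) hne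
        · exact e1
      rw [hrb] at hu
      have hc2 := h.rules.conj _ t_facts.2.2.1
      rw [t_facts.2.1, t_facts.1] at hc2
      have htu : e (mulC tI uI) * a * (e (mulC tI uI))⁻¹ = b := by
        rw [show e (mulC tI uI) = r * e uI * r⁻¹ by rw [hc2]; group]
        calc r * e uI * r⁻¹ * a * (r * e uI * r⁻¹)⁻¹
            = r * (e uI * (r⁻¹ * a * r) * (e uI)⁻¹) * r⁻¹ := by group
          _ = b := by rw [hrinv, hu, hrb]
      refine hne ?_
      have hmu : e uI = e tI * e (mulC tI uI) := by
        rw [← h.hom _ _ (by decide) (by decide +kernel), t_facts.2.2.2]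
      have ht2 : e tI * e tI = 1 := h.rules.e_inv (by decide) (by decide) (by decide +kernel)
      have e2 : e uI * a * (e uI)⁻¹ = e tI * b * (e tI)⁻¹ := by rw [hmu, ← htu]; group
      rw [hu] at e2
      calc b = e tI * b * (e tI)⁻¹ := e2
        _ = (e tI * e tI) * a * (e tI * e tI)⁻¹ := by rw [hb]; group
        _ = a := by rw [ht2]; group
    obtain ⟨c, hc, hca⟩ := h.cent a (by
      calc a * e tI = (e tI * a * (e tI)⁻¹) * e tI := by rw [hta]
        _ = e tI * a := by group)
    have hzE : z = ⟨E c, memE c hc⟩ := hinj₁ hca.symm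
    have : eJ c = 1 := by
      have := MonoidHom.mem_ker.1 hz
      rw [hzE] at this
      exact this
    exact ha1 (by rw [← hca, eJ_eq_one hc this, h.e_zero])
  exact ⟨((MulEquiv.subgroupCongr hr₁).symm.trans (MonoidHom.ofInjective hinj₁).symm).trans
    (MulEquiv.ofBijective p₂ ⟨hinj₂, hs₂⟩)⟩

end Cfsg.Agent.J3Uniq
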