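import Cfsg.Agent.Lib.J3Invol.Words
import Cfsg.Agent.Lib.U34.Field
import Cfsg.Agent.Lib.SL2Pres.Universal
import Cfsg.Agent.Lib.SL2Pres.Torus
import Cfsg.Agent.Lib.Classical.SL
import Cfsg.Agent.Lib.Classical.DicksonProper

/-!
A point stabiliser of the group on 6156 points has a subgroup of index two isomorphic to `SL(2,16)`:
words for root elements satisfy the rank one Steinberg relations.
-/

set_option autoImplicit false
set_option maxRecDepth 100000

namespace Cfsg.Agent.J3Uniq.L216

open Cfsg.Agent.J3Invol Matrix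
open Cfsg.Agent.U34 (F16 fmul getC invTable)
open Cfsg.Agent.RigidGraph.J3 (j3Group card_stab_j3Group nodes graph)
open Cfsg.Agent.PermCert (allBelow allBelow_spec)

/-- words for a basis of the upper root group -/
def xBasis : List (List ℕ) := [
  [5],
  [5, 4, 4, 5, 4, 4, 4, 5, 4, 4, 4, 5, 4, 4, 4, 4],
  [4, 4, 4, 4, 4, 5, 4, 5, 4, 5, 4, 4, 5, 4, 4, 4, 5, 4, 4],
  [5, 4, 4, 4, 5, 4, 4, 4, 4, 5, 4, 4, 5, 4, 4, 4]]

/-- words for a basis of the lower root group -/
def yBasis : List (List ℕ) := [
  [4, 4, 4, 4, 4, 5, 4, 4, 4, 4, 5, 4, 4, 5, 4],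
  [4, 4, 5, 4, 4, 4, 4],
  [4, 4, 5, 4, 4, 5, 4, 4, 4, 5, 4, 4, 4, 5, 4, 4],
  [4, 5, 4, 5, 4, 5, 4, 4, 5, 4, 4, 4, 5]]

/-- the word of a field element -/
def combo (B : List (List ℕ)) (a : ℕ) : List ℕ :=
  ((List.range 4).map fun i => bif a.testBit i then B.getD i [] else []).flatten

/-- additivity -/
def addOK (B : List (List ℕ)) : Bool :=
  allBelow (fun a => allBelow (fun b =>
    keyOf (combo B a ++ combo B b) == keyOf (combo B (a ^^^ b))) 16) 16

/-- the conjugation relations -/
def relOK (B B' : List (List ℕ)) : Bool :=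
  allBelow (fun a => Nat.beq a 0 || allBelow (fun u =>
    let i := getC invTable a
    let w := combo B a ++ combo B' i ++ combo B a
    keyOf (w ++ combo B u) == keyOf (combo B' (fmul (fmul i i) u) ++ w)) 16) 16

/-- letters and the fixed point -/
def fixOK (B : List (List ℕ)) : Bool :=
  allBelow (fun a => okWord (combo B a) && Nat.beq (evW (combo B a) 0) 0) 16

theorem addX_ok : addOK xBasis = true := by decide +kernel
theorem addY_ok : addOK yBasis = true := by decide +kernel
theorem relX_ok : relOK xBasis yBasis = true := by decide +kernel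
theorem relY_ok : relOK yBasis xBasis = true := by decide +kernel
theorem fixX_ok : fixOK xBasis = true := by decide +kernel
theorem fixY_ok : fixOK yBasis = true := by decide +kernel
theorem one_ne : (keyOf (combo xBasis 1) != base) = true := by decide +kernel

attribute [local irreducible] lets nodes graph Cfsg.Agent.RigidGraph.J3.gapLevels xBasis yBasis

/-- the root elements -/
noncomputable def root (B : List (List ℕ)) (t : F16) : ↥j3Group := wordVal (combo B t.toN)

theorem toN_inv : ∀ t : F16, (t⁻¹).toN = getC invTable t.toN := by decide +kernel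

theorem toN_eq_zero {t : F16} (h : t.toN = 0) : t = 0 := F16.toN_injective (by rw [h, F16.toN_zero])

theorem neg_eq (t : F16) : -t = t := rfl

section
variable {B B' : List (List ℕ)} (hf : fixOK B = true)
include hf

theorem letters_lt (t : F16) : ∀ i ∈ combo B t.toN, i < 8 := by
  have h := allBelow_spec _ _ hf t.toN t.toN_lt
  simp only [Bool.and_eq_true] at h
  exact okWord_mem h.1

theorem root_fix (t : F16) : root B t ∈ MulAction.stabilizer ↥j3Group (0 : Fin 6156) := by
  have h := allBelow_spec _ _ hf t.toN t.toN_lt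
  simp only [Bool.and_eq_true, Nat.beq_eq] at h
  refine MulAction.mem_stabilizer_iff.2 (Fin.ext ?_)
  show (((root B t : ↥j3Group) : Equiv.Perm (Fin 6156)) 0 : ℕ) = 0
  rw [root, act_word _ (letters_lt hf t)]
  exact h.2

theorem root_add (ha : addOK B = true) (t u : F16) : root B t * root B u = root B (t + u) := by
  have h := allBelow_spec _ _ (allBelow_spec _ _ ha t.toN t.toN_lt) u.toN u.toN_lt
  rw [root, root, root, ← wordVal_append, F16.toN_add]
  refine eq_of_key (append_lt (letters_lt hf t) (letters_lt hf u)) ?_ (beq_iff_eq.1 h)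
  rw [← F16.toN_add]
  exact letters_lt hf _

theorem root_rel (hf' : fixOK B' = true) (hr : relOK B B' = true) (t u : F16) (ht : t ≠ 0) :
    (root B t * root B' (-t⁻¹) * root B t) * root B u * (root B t * root B' (-t⁻¹) * root B t)⁻¹ =
      root B' (-(t⁻¹ ^ 2 * u)) := by
  have h := allBelow_spec _ _ hr t.toN t.toN_lt
  simp only [Bool.or_eq_true, Nat.beq_eq] at h
  have h' := allBelow_spec _ _ (h.resolve_left fun h0 => ht (toN_eq_zero h0)) u.toN u.toN_lt
  rw [mul_inv_eq_iff_eq_mul, neg_eq, neg_eq, sq]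
  simp only [root, ← wordVal_append]
  have e : (t⁻¹ * t⁻¹ * u).toN = fmul (fmul (getC invTable t.toN) (getC invTable t.toN)) u.toN := by
    rw [F16.toN_mul, F16.toN_mul, toN_inv]; rfl
  refine eq_of_key ?_ ?_ ?_
  · exact append_lt (append_lt (append_lt (letters_lt hf t) (letters_lt hf' _)) (letters_lt hf t))
      (letters_lt hf u)
  · exact append_lt (letters_lt hf' _) (append_lt (append_lt (letters_lt hf t) (letters_lt hf' _))
      (letters_lt hf t))
  · rw [e, toN_inv]
    exact beq_iff_eq.1 h'

end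

/-- the Steinberg data -/
noncomputable def sData : SL2Pres.SData F16 ↥j3Group where
  X := root xBasis
  Y := root yBasis
  addX := root_add fixX_ok addX_ok
  addY := root_add fixY_ok addY_ok
  relX := root_rel fixX_ok fixY_ok relX_ok
  relY := root_rel fixY_ok fixX_ok relY_ok

theorem isSimple_sl16 : IsSimpleGroup (SpecialLinearGroup (Fin 2) F16) := by
  haveI : IsSimpleGroup (ProjectiveSpecialLinearGroup (Fin 2) F16) :=
    ProjectiveSpecialLinearGroup.rank_two_simple (by rw [Nat.card_eq_fintype_card, F16.card]; norm_num)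
  have hc : Subgroup.center (SpecialLinearGroup (Fin 2) F16) = ⊥ := by
    refine Subgroup.card_eq_one.1 ?_
    rw [ClassicalSL.card_center_sl, Fintype.card_fin, Nat.card_eq_fintype_card, F16.card]
    norm_num
  have e : SpecialLinearGroup (Fin 2) F16 ≃* ProjectiveSpecialLinearGroup (Fin 2) F16 :=
    ((QuotientGroup.quotientMulEquivOfEq hc).trans QuotientGroup.quotientBot).symm
  exact e.isSimpleGroup

/-- A point stabiliser is an extension of `SL(2,16)` of index two. -/
theorem stab_sl16 : ∃ N : Subgroup ↥(MulAction.stabilizer ↥j3Group (0 : Fin 6156)),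
    N.Normal ∧ N.index = 2 ∧ Nonempty (↥N ≃* SpecialLinearGroup (Fin 2) F16) := by
  classical
  obtain ⟨ψ, hX, hY⟩ := SL2Pres.exists_hom sData
  haveI := isSimple_sl16
  have hinj : Function.Injective ψ := by
    rw [← MonoidHom.ker_eq_bot_iff]
    refine ((inferInstance : ψ.ker.Normal).eq_bot_or_eq_top).resolve_right fun h => ?_
    have h1 : root xBasis 1 = 1 := by
      rw [show root xBasis 1 = sData.X 1 from rfl, ← hX 1]
      exact MonoidHom.mem_ker.1 (h ▸ Subgroup.mem_top _)
    rw [root, eq_one_iff (letters_lt fixX_ok 1), F16.toN_one] at h1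
    exact bne_iff_ne.1 one_ne h1
  have hle : ψ.range ≤ MulAction.stabilizer ↥j3Group (0 : Fin 6156) := by
    rw [MonoidHom.range_eq_map, ← SL2Pres.closure_up_low, MonoidHom.map_closure, Subgroup.closure_le]
    rintro _ ⟨g, ⟨t, rfl⟩ | ⟨t, rfl⟩, rfl⟩
    · rw [hX]; exact root_fix fixX_ok t
    · rw [hY]; exact root_fix fixY_ok t
  set N := ψ.range.subgroupOf (MulAction.stabilizer ↥j3Group (0 : Fin 6156))
  let e : ↥N ≃* SpecialLinearGroup (Fin 2) F16 :=
    (Subgroup.subgroupOfEquivOfLe hle).trans (MonoidHom.ofInjective hinj).symm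
  have hN : Nat.card ↥N = 4080 := by
    rw [Nat.card_congr e.toEquiv, Dickson.card_sl2_eq, Nat.card_eq_fintype_card, F16.card]; norm_num
  have hi : N.index = 2 := by
    have h := N.card_mul_index
    rw [hN, card_stab_j3Group] at h
    omega
  exact ⟨N, Subgroup.normal_of_index_eq_two hi, hi, ⟨e⟩⟩

/-- The same inside every isomorphic group. -/
theorem exists_sl16_of_equiv {G : Type*} [Group G] (f : G ≃* ↥j3Group) :
    ∃ (H : Subgroup G) (N : Subgroup H) (K : Type) (_ : Field K) (_ : Fintype K),
      N.Normal ∧ N.index = 2 ∧ Fintype.card K = 16 ∧ Nonempty (N ≃* SpecialLinearGroup (Fin 2) K) := by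
  obtain ⟨N, -, hi, ⟨e⟩⟩ := stab_sl16
  let S := MulAction.stabilizer ↥j3Group (0 : Fin 6156)
  let H : Subgroup G := S.map f.symm.toMonoidHom
  let g : ↥S ≃* ↥H := f.symm.subgroupMap S
  refine ⟨H, N.map g.toMonoidHom, F16, inferInstance, inferInstance, ?_, ?_, F16.card,
    ⟨(g.subgroupMap N).symm.trans e⟩⟩
  · exact Subgroup.normal_of_index_eq_two ((Subgroup.index_map_equiv N g).trans hi)
  · exact (Subgroup.index_map_equiv N g).trans hi

end Cfsg.Agent.J3Uniq.L216
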