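import Cfsg.Agent.Lib.J3Uniq.LocalTarget

/-!
Local analysis of a group of third Janko type: the model of the centraliser, the element of order three
permuting a four group, and the relations in the centraliser of an element of order three.
-/

set_option autoImplicit false
set_option linter.style.haveILetI false
set_option linter.unusedSectionVars false
set_option synthInstance.maxSize 4000
set_option synthInstance.maxHeartbeats 400000

namespace Cfsg.Agent.J3Uniq

open Cfsg.Agent.HJ
open Cfsg.Agent.HJUniq (Base)

universe u

variable {G : Type u} [Group G] [Finite G] [IsSimpleGroup G] {t : G} {Q : Subgroup G}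
  {φ : ↥(Subgroup.centralizer ({t} : Set G)) →* A5}

/-- A non-central involution of the normal subgroup which is conjugate to the central one. -/
theorem exists_fusion (B : Base t Q φ)
    (hone : ∀ a b : G, orderOf a = 2 → orderOf b = 2 → ∃ g, g * a * g⁻¹ = b) :
    ∃ u g, Nci t Q u ∧ g * t * g⁻¹ = u := by
  classical
  obtain ⟨x, hx, h1, hz⟩ : ∃ x ∈ Q, x ≠ 1 ∧ x ≠ t := by
    by_contra h
    push Not at h
    have := Nat.card_le_card_of_injective (β := ({1, t} : Finset G)) (fun y : Q => ⟨y.1, by
      rcases em (y.1 = 1) with e | e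
      · simp [e]
      · simp [h y.1 y.2 e]⟩) fun a b e => Subtype.ext (congrArg Subtype.val e :)
    rw [B.card, Nat.card_eq_finsetCard] at this
    exact absurd (this.trans Finset.card_le_two) (by norm_num)
  have h16 := card_centB B hx h1 hz
  obtain ⟨u, hu⟩ : ∃ u, Nci t Q u := by
    rcases B.sq x hx with h | h
    · exact ⟨x, hx, h, h1, hz⟩
    · obtain ⟨y, ⟨hy, hyx⟩, hy'⟩ : ∃ y ∈ Q ⊓ Subgroup.centralizer ({x} : Set G),
          y ∉ ({1, t, x, x * t} : Finset G) := by
        by_contra h'
        push Not at h'
        have := Nat.card_le_card_of_injective (β := ({1, t, x, x * t} : Finset G))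
          (fun y : ↥(Q ⊓ Subgroup.centralizer ({x} : Set G)) => ⟨y.1, h' y.1 y.2⟩)
          fun a b e => Subtype.ext (congrArg Subtype.val e :)
        rw [h16, Nat.card_eq_finsetCard] at this
        exact absurd (this.trans Finset.card_le_four) (by norm_num)
      simp only [Finset.mem_insert, Finset.mem_singleton, not_or] at hy'
      obtain ⟨n1, n2, n3, n4⟩ := hy'
      have hc := mem_cent.1 hyx
      rcases B.sq y hy with e | e
      · exact ⟨y, hy, e, n1, n2⟩
      · refine ⟨y * x, Q.mul_mem hy hx, ?_, fun e' => n4 ?_, fun e' => n3 ?_⟩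
        · calc y * x * (y * x) = y * (x * y) * x := by group
            _ = y * y * (x * x) := by rw [← hc]; group
            _ = 1 := by rw [e, h, B.tt]
        · calc y = y * x * x⁻¹ := by group
            _ = x * (x * x)⁻¹ := by rw [e']; group
            _ = x * t := by rw [h, inv_of_sq B.tt]
        · calc y = y * x * x⁻¹ := by group
            _ = t * (x * x)⁻¹ * x := by rw [e']; group
            _ = x := by rw [h, mul_inv_cancel, one_mul]
  obtain ⟨g, hg⟩ := hone t u (orderOf_eq_two_iff'.2 ⟨B.tt, B.t1⟩) (orderOf_eq_two_iff'.2 ⟨hu.2.1, hu.2.2.1⟩)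
  exact ⟨u, g, hu, hg⟩

/-- The local structure: the centraliser is the model and the two kinds of data of the certificates hold. -/
theorem exists_local (B : Base t Q φ)
    (hone : ∀ a b : G, orderOf a = 2 → orderOf b = 2 → ∃ g, g * a * g⁻¹ = b) :
    ∃ emb r, emb tI = t ∧ Amal emb r ∧ Orders emb r := by
  obtain ⟨u, g, hu, hg⟩ := exists_fusion B hone
  obtain ⟨u', g', ι, C⟩ := exists_cmp B hu hg
  obtain ⟨emb, M⟩ := exists_model B C
  obtain ⟨r, A⟩ := exists_amal B M C.nci C.gt
  exact ⟨emb, r, M.t_eq, A, exists_orders M A⟩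

end Cfsg.Agent.J3Uniq
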