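import Cfsg.Agent.Lib.J3Uniq.Model

/-!
Words for the automorphism of the centraliser of a four group in the model exchanging `tI` and `uI`.
-/

set_option autoImplicit false

namespace Cfsg.Agent.J3Uniq

/-- Conjugators of the involutions of the normal subgroup to `uI`. -/
def nciConj : List (ℕ × ℕ) := [(960, 187), (1080, 191), (1320, 11), (1380, 7), (1500, 180), (1560, 181), (1620, 183), (1740, 0), (1800, 1), (1860, 3)]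

/-- The candidates for the image of `60` that are excluded, with a violated relation. -/
def badList : List (ℕ × List ℕ × List ℕ) := [(83, [0, 1, 0, 1], [1, 0, 0]), (263, [0, 1, 0, 1], [1, 0, 0]), (409, [0, 1, 0, 1], [1, 0, 0]), (467, [0, 1, 0, 1], [1, 0, 0]), (649, [0, 1, 0, 1], [1, 0, 0]), (707, [0, 1, 0, 1], [1, 0, 0]), (949, [0, 1, 0, 1], [1, 0, 0]), (1067, [0, 1, 0, 1], [1, 0, 0]), (1309, [0, 1, 2, 0, 1], [1, 0, 2, 0]), (1463, [0, 2, 1, 0, 1], [1, 0, 2, 0]), (1703, [0, 1, 0, 1], [1, 0, 0])]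

/-- Words of the conjugates of the elements of `cvList` by `vI`. -/
def alW : List (List ℕ) := [[], [0], [0, 0], [0, 1, 0, 2, 0], [0, 1, 0, 2, 0, 0], [0, 0, 1, 0, 2, 0], [0, 1, 0, 2], [1, 0, 1, 2, 0, 2], [1, 0, 2, 0], [0, 0, 1, 0, 2], [1, 0, 2, 0, 0], [1, 0, 2], [1], [1, 0], [1, 0, 0], [0, 0, 1, 2, 0], [0, 0, 1, 2, 0, 0], [2, 0, 1, 4], [0, 0, 1, 2], [2, 0, 1, 0, 4], [0, 2, 0, 3], [0, 1, 0, 0, 2, 3], [0, 2, 0, 0, 3], [0, 2, 3], [3], [0, 3], [0, 0, 3], [0, 1, 0, 2, 0, 3], [2, 0, 1, 2, 4], [1, 2, 0, 1, 4], [0, 1, 0, 2, 3], [2, 0, 0, 1, 4], [1, 0, 2, 0, 3], [0, 0, 1, 0, 2, 3], [0, 2, 0, 0, 1, 4], [1, 0, 2, 3], [1, 3], [1, 0, 3], [1, 0, 0, 3], [0, 0, 1, 2, 0, 3], [1, 2, 0, 1, 2, 4], [2, 0, 1, 3, 4], [0, 0, 1, 2, 3], [0, 1, 2, 0, 2], [0, 2, 0], [0,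 1, 0, 0, 2], [0, 2, 0, 0], [0, 2], [0, 0, 1, 0], [1, 0, 1], [0, 0, 1], [0, 0, 2, 0, 1, 4], [1, 2, 0, 2, 3], [2, 0, 3], [1, 0, 0, 2, 3], [2, 0, 0, 3], [0, 1, 2, 0], [2, 3], [0, 1, 2, 0, 0], [0, 1, 2], [0, 1, 0, 0], [0, 1], [0, 1, 0], [0, 0, 2, 0, 3], [2, 0, 2, 3], [1, 2, 0], [0, 0, 2, 3], [1, 2, 0, 0], [0, 2, 0, 1, 4], [1, 2], [0, 2, 0, 1, 0, 4], [1, 0, 1, 2, 3], [0, 0, 1, 0, 3], [1, 0, 1, 3], [0, 0, 1, 3], [1, 0, 0, 2, 0], [1, 2, 0, 2], [2, 0], [1, 0, 0, 2], [2, 0, 0], [0, 1, 2, 0, 3], [2], [0, 1, 2, 0, 0, 3], [0, 1, 2, 3], [0, 1, 0, 0, 3], [0, 1, 3], [0, 1, 0, 3], [0, 0, 2, 0], [2, 0, 2], [1, 2, 0, 3], [0, 0, 2], [1, 2, 0, 0, 3], [1, 0, 1, 2, 0], [1, 2, 3], [0, 0, 1, 2, 0, 2], [1, 0, 1, 2], [0, 1, 0, 0, 3, 4], [0, 1, 3, 4], [0, 1, 0, 3, 4], [0,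 0, 2, 0, 4], [2, 0, 2, 4], [1, 2, 0, 3, 4], [0, 0, 2, 4], [0, 1, 2, 0, 1, 2], [0, 2, 0, 1, 3], [1, 2, 3, 4], [0, 1, 2, 0, 0, 1], [1, 0, 1, 2, 4], [0, 0, 1, 0, 4], [1, 0, 1, 4], [0, 0, 1, 4], [0, 0, 2, 0, 1], [0, 0, 2, 0, 1, 0], [2, 0, 3, 4], [1, 0, 0, 2, 3, 4], [2, 0, 0, 3, 4], [0, 1, 2, 0, 4], [2, 3, 4], [0, 1, 2, 0, 0, 4], [0, 1, 2, 4], [0, 1, 0, 0, 4], [0, 1, 4], [0, 1, 0, 4], [0, 0, 2, 0, 3, 4], [2, 0, 2, 3, 4], [1, 2, 0, 4], [0, 0, 2, 3, 4], [1, 2, 0, 0, 4], [0, 2, 0, 1], [1, 2, 4], [0, 2, 0, 1, 0], [0, 2, 0, 1, 0, 0], [0, 0, 1, 0, 3, 4], [1, 0, 1, 3, 4], [0, 0, 1, 3, 4], [0, 0, 2, 0, 1, 3], [1, 2, 0, 2, 4], [2, 0, 4], [1, 0, 0, 2, 4], [2, 0, 0, 4], [0, 1, 2, 0, 3, 4], [2, 4], [0, 0, 1, 2, 0, 1, 2], [0, 1, 2, 3, 4], [1, 3, 4], [1, 0, 3, 4],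 [1, 0, 0, 3, 4], [0, 0, 1, 2, 0, 3, 4], [1, 2, 0, 1, 2], [2, 0, 1, 3], [0, 0, 1, 2, 3, 4], [1, 2, 0, 0, 1], [0, 2, 0, 4], [0, 1, 0, 0, 2, 4], [0, 2, 0, 0, 4], [0, 2, 4], [4], [0, 4], [0, 0, 4], [0, 1, 0, 2, 0, 4], [2, 0, 1, 2, 3], [1, 2, 0, 1, 3], [0, 1, 0, 2, 4], [2, 0, 0, 1, 3], [1, 0, 2, 0, 4], [0, 0, 1, 0, 2, 4], [0, 2, 0, 0, 1, 3], [1, 0, 2, 4], [1, 4], [1, 0, 4], [1, 0, 0, 4], [0, 0, 1, 2, 0, 4], [1, 2, 0, 1, 2, 3], [2, 0, 1], [0, 0, 1, 2, 4], [2, 0, 1, 0], [0, 2, 0, 3, 4], [2, 0, 1, 0, 0], [0, 2, 0, 0, 3, 4], [0, 2, 3, 4], [3, 4], [0, 3, 4], [0, 0, 3, 4], [0, 0, 1, 2, 0, 1], [2, 0, 1, 2], [1, 2, 0, 1], [2, 0, 1, 2, 0], [2, 0, 0, 1], [0, 1, 2, 0, 1], [2, 0, 0, 1, 0], [0, 2, 0, 0, 1], [1, 0, 2, 3, 4]]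

end Cfsg.Agent.J3Uniq
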