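import Cfsg.Agent.Lib.J3Uniq.LocalModel
import Cfsg.Agent.Lib.J3Uniq.LocalWords
import Cfsg.Agent.Lib.J3Uniq.Amal

/-!
Local analysis of a group of third Janko type: the element of order three permuting a four group and
its action on the centraliser of the four group.
-/

set_option autoImplicit false
set_option linter.style.haveILetI false
set_option linter.unusedSectionVars false
set_option synthInstance.maxSize 4000
set_option synthInstance.maxHeartbeats 400000
set_option maxRecDepth 20000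

namespace Cfsg.Agent.J3Uniq

open Cfsg.Agent.HJ
open Cfsg.Agent.HJUniq (Base)

/-- The code of a word in a list of codes. -/
def cw (g : List ℕ) : List ℕ → ℕ
  | [] => 0
  | i :: w => mulC (g.getD i 0) (cw g w)

/-- The generators of the centraliser of the four group, a candidate in third place. -/
def gA (c : ℕ) : List ℕ := [xI, 60, c, tI, uI]

/-- Their images. -/
def gB (c : ℕ) : List ℕ := [xI, c, 60, uI, tI]

theorem nci_check : (List.range 32).all (fun q => decide (q = 0 ∨ 60 * q = tI ∨ mulC (60 * q) (60 * q) ≠ 0) ||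
    nciConj.any (fun p => p.1 == 60 * q && (decide (p.2 < 1920) && mulC p.2 p.1 == mulC uI p.2))) = true := by
  decide +kernel

theorem cv_check : (List.range 1920).all (fun a => mulC a uI != mulC uI a || cvList.contains a) = true ∧
    cvList.all (fun a => decide (a < 1920) && mulC a uI == mulC uI a) = true := by
  constructor <;> decide +kernel

theorem three_check : cvList.all (fun a => a == 0 || mulC (mulC a a) a != 0 ||
    cvList.any (fun b => mulC b a == mulC xI b || mulC b a == mulC (mulC xI xI) b)) = true := by decide +kernel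

theorem bad_check : cvList.all (fun a => mulC a a != uI || a == 767 || badList.any (fun p => p.1 == a &&
    (cw (gA a) p.2.1 == cw (gA a) p.2.2 && cw (gB a) p.2.1 != cw (gB a) p.2.2))) = true := by decide +kernel

theorem al_check : (List.range 192).all (fun i =>
    cw (gA 767) (alW.getD i []) == mulC (mulC vI (cvList.getD i 0)) vI &&
      cw (gB 767) (alW.getD i []) == alList.getD i 0) = true ∧
    cvList.length = 192 ∧ alList.length = 192 ∧ alList.all (fun a => decide (a < 1920)) = true := by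
  refine ⟨?_, ?_, ?_, ?_⟩ <;> decide +kernel

theorem cube_check : (cvList.zip alList).all (fun p => p.1 == 0 || p.1 != p.2 ||
    mulC p.1 xI != mulC xI p.1 || mulC (mulC (mulC vI p.1) vI) p.1 != 0) = true := by decide +kernel

theorem small_check : mulC vI vI = 0 ∧ mulC vI xI = mulC xI vI ∧ mulC (mulC vI uI) vI = mulC uI tI ∧
    mulC 60 60 = tI ∧ mulC 60 uI = mulC uI 60 ∧ mulC uI uI = 0 ∧ mulC (mulC xI xI) xI = 0 ∧
    mulC xI uI = mulC uI xI ∧ mulC 767 767 = uI := by decide +kernel

theorem gA_lt {c : ℕ} (hc : c < 1920) (i : ℕ) : (gA c).getD i 0 < 1920 ∧ (gB c).getD i 0 < 1920 := by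
  rcases i with _ | _ | _ | _ | _ | i <;> simp [gA, gB, xI, tI, uI, hc]

universe u

variable {G : Type u} [Group G] [Finite G] [IsSimpleGroup G] {t : G} {Q : Subgroup G}
  {φ : ↥(Subgroup.centralizer ({t} : Set G)) →* A5} {emb : ℕ → G}

theorem Mdl.lt_mul (_M : Mdl t Q emb) {a b : ℕ} (ha : a < 1920) (hb : b < 1920) : mulC a b < 1920 :=
  (mulC_facts ha hb).1

theorem Mdl.mul3 (M : Mdl t Q emb) {a b c : ℕ} (ha : a < 1920) (hb : b < 1920) (hc : c < 1920) :
    emb (mulC (mulC a b) c) = emb a * emb b * emb c := by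
  rw [M.hom _ _ (M.lt_mul ha hb) hc, M.hom _ _ ha hb]

theorem Mdl.comm (M : Mdl t Q emb) {a b : ℕ} (ha : a < 1920) (hb : b < 1920) (h : mulC a b = mulC b a) :
    emb a * emb b = emb b * emb a := by
  rw [← M.hom _ _ ha hb, h, M.hom _ _ hb ha]

theorem Mdl.ofComm (M : Mdl t Q emb) {a b : ℕ} (ha : a < 1920) (hb : b < 1920)
    (h : emb a * emb b = emb b * emb a) : mulC a b = mulC b a :=
  M.inj _ _ (M.lt_mul ha hb) (M.lt_mul hb ha) (by rw [M.hom _ _ ha hb, M.hom _ _ hb ha, h])

theorem cw_lt {g : List ℕ} (hg : ∀ i, g.getD i 0 < 1920) : ∀ w, cw g w < 1920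
  | [] => by show (0 : ℕ) < 1920; norm_num
  | i :: w => (mulC_facts (hg i) (cw_lt hg w)).1

theorem conj_cw (M : Mdl t Q emb) {e : G} {g h : List ℕ} (hg : ∀ i, g.getD i 0 < 1920)
    (hh : ∀ i, h.getD i 0 < 1920) (he : ∀ i, e * emb (g.getD i 0) = emb (h.getD i 0) * e) :
    ∀ w, e * emb (cw g w) = emb (cw h w) * e
  | [] => by simp [cw, M.one]
  | i :: w => by
    rw [cw, cw, M.hom _ _ (hg i) (cw_lt hg w), M.hom _ _ (hh i) (cw_lt hh w), ← mul_assoc, he i, mul_assoc,
      conj_cw M hg hh he w, mul_assoc]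

theorem exists_conj_uI (B : Base t Q φ) (M : Mdl t Q emb) {w : G} (hw : Nci t Q w) :
    ∃ c, c * t = t * c ∧ c * w * c⁻¹ = emb uI := by
  obtain ⟨a, ha, rfl⟩ := M.cent w (B.comm_t hw.1)
  have h0 := (M.inQ a ha).1 hw.1
  have hq : 60 * (a / 60) = a := by omega
  have h := List.all_eq_true.1 nci_check (a / 60) (List.mem_range.2 (by omega))
  rw [hq, Bool.or_eq_true, decide_eq_true_eq] at h
  rcases h with h | h
  · exfalso
    rcases h with h | h | h
    · exact hw.2.2.1 (by rw [show a = 0 by omega, M.one])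
    · exact hw.2.2.2 (by rw [h, M.t_eq])
    · exact h (M.inj _ _ (M.lt_mul ha ha) (by norm_num) (by rw [M.hom _ _ ha ha, hw.2.1, M.one]))
  · simp only [List.any_eq_true, Bool.and_eq_true, beq_iff_eq, decide_eq_true_eq] at h
    obtain ⟨p, -, hp1, hp, hc⟩ := h
    refine ⟨emb p.2, M.ct _ hp, ?_⟩
    rw [hp1] at hc
    rw [mul_inv_eq_iff_eq_mul, ← M.hom _ _ hp ha, hc, M.hom _ _ (by decide) hp]

theorem Mdl.mem_cv (M : Mdl t Q emb) {h : G} (h1 : h * t = t * h) (h2 : h * emb uI = emb uI * h) :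
    ∃ a, a ∈ cvList ∧ a < 1920 ∧ emb a = h := by
  obtain ⟨a, ha, rfl⟩ := M.cent h h1
  have hc := List.all_eq_true.1 cv_check.1 a (List.mem_range.2 ha)
  rw [Bool.or_eq_true, bne_iff_ne, List.contains_iff_mem] at hc
  exact ⟨a, hc.resolve_left fun h => h (M.ofComm ha (by decide) h2), ha, rfl⟩

theorem Mdl.cv (M : Mdl t Q emb) {a : ℕ} (ha : a ∈ cvList) :
    a < 1920 ∧ emb a * t = t * emb a ∧ emb a * emb uI = emb uI * emb a := by
  have h := List.all_eq_true.1 cv_check.2 a ha
  simp only [Bool.and_eq_true, decide_eq_true_eq, beq_iff_eq] at h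
  exact ⟨h.1, M.ct a h.1, M.comm h.1 (by decide) h.2⟩

/-- An element exchanging `t` with `emb uI` which normalises the cyclic group of `emb xI`. -/
theorem exists_swap (B : Base t Q φ) (M : Mdl t Q emb) {u₀ g₀ : G} (hu : Nci t Q u₀)
    (hg : g₀ * t * g₀⁻¹ = u₀) : ∃ g : G, g * t * g⁻¹ = emb uI ∧ g * emb uI * g⁻¹ = t ∧
      (g * emb xI * g⁻¹ = emb xI ∨ g * emb xI * g⁻¹ = (emb xI)⁻¹) := by
  obtain ⟨c, hc, hcu⟩ := exists_conj_uI B M hu
  have hg1 : c * g₀ * t * (c * g₀)⁻¹ = emb uI := by rw [← hcu, ← hg]; group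
  have hU : Nci t Q (emb uI) := by
    rw [← hcu]
    exact ⟨B.conj_Q hc hu.1, conj_sq c hu.2.1, conj_ne_one c hu.2.2.1,
      fun e => hu.2.2.2 (conj_inj' (e.trans (conj_eq_iff_comm.2 hc).symm))⟩
  obtain ⟨c', hc', hw⟩ := exists_conj_uI B M (w_nci B hU hg1)
  set g₁ := c * g₀ * c'⁻¹ with hg₁
  have e1 : g₁ * t * g₁⁻¹ = emb uI := by
    rw [← hg1, hg₁]
    calc c * g₀ * c'⁻¹ * t * (c * g₀ * c'⁻¹)⁻¹ = c * g₀ * (c'⁻¹ * t * c'⁻¹⁻¹) * (c * g₀)⁻¹ := by group
      _ = _ := by rw [conj_eq_iff_comm.2 (ct_inv hc')]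
  have e2 : g₁ * emb uI * g₁⁻¹ = t := by rw [← hw, hg₁]; group
  obtain ⟨hxv, -, -⟩ : mulC xI uI = mulC uI xI ∧ True ∧ True := ⟨small_check.2.2.2.2.2.2.2.1, trivial, trivial⟩
  have hx : xI < 1920 := by decide
  have xt := M.ct xI hx
  have xu := M.comm hx (by decide) hxv
  have x3 : emb xI * emb xI * emb xI = 1 := by
    rw [← M.mul3 hx hx hx, small_check.2.2.2.2.2.2.1, M.one]
  have y1 : g₁ * emb xI * g₁⁻¹ * t = t * (g₁ * emb xI * g₁⁻¹) := by rw [← e2]; exact conj_comm g₁ xu
  have y2 : g₁ * emb xI * g₁⁻¹ * emb uI = emb uI * (g₁ * emb xI * g₁⁻¹) := by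
    rw [← e1]; exact conj_comm g₁ xt
  obtain ⟨a, hav, ha, hay⟩ := M.mem_cv y1 y2
  have h := List.all_eq_true.1 three_check a hav
  simp only [Bool.or_eq_true, beq_iff_eq, bne_iff_ne, List.any_eq_true] at h
  rcases h with (h | h) | ⟨b, hb, h⟩
  · exfalso
    rw [h, M.one] at hay
    exact absurd (M.inj xI 0 hx (by norm_num) ((conj_inj' (a := g₁) (hay.symm.trans (by group))).trans M.one.symm))
      (by decide)
  · exact absurd (M.inj _ 0 (M.lt_mul (M.lt_mul ha ha) ha) (by norm_num) (by
      rw [M.mul3 ha ha ha, M.one, hay]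
      calc g₁ * emb xI * g₁⁻¹ * (g₁ * emb xI * g₁⁻¹) * (g₁ * emb xI * g₁⁻¹) =
          g₁ * (emb xI * emb xI * emb xI) * g₁⁻¹ := by group
        _ = 1 := by rw [x3]; group)) h
  obtain ⟨hb1, hbt, hbu⟩ := M.cv hb
  refine ⟨emb b * g₁, ?_, ?_, ?_⟩
  · calc emb b * g₁ * t * (emb b * g₁)⁻¹ = emb b * (g₁ * t * g₁⁻¹) * (emb b)⁻¹ := by group
      _ = emb uI := by rw [e1, conj_eq_iff_comm.2 hbu]
  · calc emb b * g₁ * emb uI * (emb b * g₁)⁻¹ = emb b * (g₁ * emb uI * g₁⁻¹) * (emb b)⁻¹ := by group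
      _ = t := by rw [e2, conj_eq_iff_comm.2 hbt]
  · have e : emb b * g₁ * emb xI * (emb b * g₁)⁻¹ = emb b * emb a * (emb b)⁻¹ := by rw [hay]; group
    rw [e]
    rcases h with h | h
    · left
      rw [mul_inv_eq_iff_eq_mul, ← M.hom _ _ hb1 ha, h, M.hom _ _ hx hb1]
    · right
      rw [mul_inv_eq_iff_eq_mul, ← M.hom _ _ hb1 ha, h, M.mul3 hx hx hb1]
      congr 1
      exact eq_inv_of_mul_eq_one_left x3

/-- The involution exchanging `t` with `emb uI`, with its action. -/
theorem exists_e (B : Base t Q φ) (M : Mdl t Q emb) {u₀ g₀ : G} (hu : Nci t Q u₀)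
    (hg : g₀ * t * g₀⁻¹ = u₀) : ∃ e : G, e * e = 1 ∧ ∀ i, e * emb ((gA 767).getD i 0) = emb ((gB 767).getD i 0) * e := by
  obtain ⟨g, gt, gu, gx⟩ := exists_swap B M hu hg
  obtain ⟨s1, s2, s3, s4, s5, s6, s7, s8, s9⟩ := small_check
  have hv : vI < 1920 := by decide
  have hx : xI < 1920 := by decide
  have hU : uI < 1920 := by decide
  set V := emb vI with hV
  set X := emb xI with hX
  set U := emb uI with hUdef
  have VV : V * V = 1 := by rw [hV, ← M.hom _ _ hv hv, s1, M.one]
  have VX : V * X = X * V := M.comm hv hx s2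
  have Vt : V * t = t * V := M.ct vI hv
  have VUV : V * U * V⁻¹ = U * t := by
    rw [inv_of_sq VV, hV, hUdef, ← M.mul3 hv hU hv, s3, M.hom _ _ hU (by decide), M.t_eq]
  have UU : U * U = 1 := by rw [hUdef, ← M.hom _ _ hU hU, s6, M.one]
  have Ut : U * t = t * U := M.ct uI hU
  set d := g * V * g⁻¹ with hd
  have dd : d * d = 1 := conj_sq g VV
  have dU : d * U = U * d := by rw [hd, ← gt]; exact conj_comm g Vt
  have dt : d * t * d⁻¹ = t * U := by
    calc d * t * d⁻¹ = g * (V * (g⁻¹ * t * g) * V⁻¹) * g⁻¹ := by rw [hd]; group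
      _ = g * (V * U * V⁻¹) * g⁻¹ := by rw [show g⁻¹ * t * g = U by rw [← gu]; group]
      _ = t * U := by rw [VUV, conj_mul', gu, gt]
  have dX : d * X = X * d := by
    rcases gx with h | h
    · rw [hd, ← h]; exact conj_comm g VX
    · have h' : d * X⁻¹ = X⁻¹ * d := by rw [hd, ← h]; exact conj_comm g VX
      exact (Commute.inv_right_iff.1 (show Commute d X⁻¹ from h')).eq
  set e := V * d * V⁻¹ with he
  have ee : e * e = 1 := conj_sq V dd
  have eX : e * X = X * e := by
    rw [he, ← conj_eq_iff_comm.2 VX]; exact conj_comm V dX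
  have et : e * t * e⁻¹ = U := by
    calc e * t * e⁻¹ = V * (d * (V⁻¹ * t * V⁻¹⁻¹) * d⁻¹) * V⁻¹ := by rw [he]; group
      _ = t * (U * t) := by rw [conj_eq_iff_comm.2 (ct_inv Vt), dt, conj_mul', conj_eq_iff_comm.2 Vt, VUV]
      _ = U := by rw [Ut, ← mul_assoc, B.tt, one_mul]
  have et' : e * t = U * e := mul_inv_eq_iff_eq_mul.1 et
  have eU : e * U = t * e := by
    calc e * U = e * U * (e * e) := by rw [ee, mul_one]
      _ = e * (U * e) * e := by group
      _ = e * (e * t) * e := by rw [et']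
      _ = e * e * (t * e) := by group
      _ = t * e := by rw [ee, one_mul]
  -- the image of `60`
  have h60 : (60 : ℕ) < 1920 := by norm_num
  have p60t : emb 60 * t = t * emb 60 := M.ct 60 h60
  have p60u : emb 60 * U = U * emb 60 := M.comm h60 hU s5
  have q1 : e * emb 60 * e⁻¹ * U = U * (e * emb 60 * e⁻¹) := by rw [← et]; exact conj_comm e p60t
  have q2 : e * emb 60 * e⁻¹ * t = t * (e * emb 60 * e⁻¹) := by
    rw [show t = e * U * e⁻¹ from (eq_mul_inv_iff_mul_eq.2 eU.symm)]; exact conj_comm e p60u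
  obtain ⟨a, hav, ha, hay⟩ := M.mem_cv q2 q1
  have e60 : e * emb 60 = emb a * e := by rw [hay]; group
  have ea : e * emb a = emb 60 * e := by
    calc e * emb a = e * emb a * (e * e) := by rw [ee, mul_one]
      _ = e * (emb a * e) * e := by group
      _ = e * (e * emb 60) * e := by rw [e60]
      _ = e * e * (emb 60 * e) := by group
      _ = _ := by rw [ee, one_mul]
  have hgA : ∀ i, e * emb ((gA a).getD i 0) = emb ((gB a).getD i 0) * e := by
    intro i
    rcases i with _ | _ | _ | _ | _ | i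
    · exact eX
    · exact e60
    · exact ea
    · show e * emb tI = U * e
      rw [M.t_eq]; exact et'
    · show e * U = emb tI * e
      rw [M.t_eq]; exact eU
    · simp [gA, gB, M.one]
  suffices a = 767 from ⟨e, ee, this ▸ hgA⟩
  have haa : mulC a a = uI := M.inj _ _ (M.lt_mul ha ha) hU (by
    rw [M.hom _ _ ha ha, hay]
    calc e * emb 60 * e⁻¹ * (e * emb 60 * e⁻¹) = e * (emb 60 * emb 60) * e⁻¹ := by group
      _ = U := by rw [← M.hom _ _ h60 h60, s4, M.t_eq, et])
  have h := List.all_eq_true.1 bad_check a hav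
  simp only [Bool.or_eq_true, bne_iff_ne, beq_iff_eq, List.any_eq_true, Bool.and_eq_true] at h
  rcases h with (h | h) | ⟨p, -, -, h1, h2⟩
  · exact absurd haa h
  · exact h
  · exfalso
    apply h2
    have hA := fun i => (gA_lt ha i).1
    have hB := fun i => (gA_lt ha i).2
    refine M.inj _ _ (cw_lt hB _) (cw_lt hB _) (mul_right_cancel (b := e) ?_)
    rw [← conj_cw M hA hB hgA, ← conj_cw M hA hB hgA, h1]

/-- The element of order three permuting the four group. -/
theorem exists_amal (B : Base t Q φ) (M : Mdl t Q emb) {u₀ g₀ : G} (hu : Nci t Q u₀)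
    (hg : g₀ * t * g₀⁻¹ = u₀) : ∃ r, Amal emb r := by
  obtain ⟨e, ee, hgA⟩ := exists_e B M hu hg
  obtain ⟨s1, s2, s3, s4, s5, s6, s7, s8, s9⟩ := small_check
  have hv : vI < 1920 := by decide
  have hx : xI < 1920 := by decide
  have hU : uI < 1920 := by decide
  have VV : emb vI * emb vI = 1 := by rw [← M.hom _ _ hv hv, s1, M.one]
  set r := e * emb vI with hr
  have h767 : (767 : ℕ) < 1920 := by norm_num
  have conj : ∀ p ∈ cvList.zip alList, r * emb p.1 = emb p.2 * r := by
    intro p hp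
    obtain ⟨i, hi, rfl⟩ := List.getElem_of_mem hp
    rw [List.getElem_zip]
    rw [List.length_zip, al_check.2.1, al_check.2.2.1, min_self] at hi
    have h := List.all_eq_true.1 al_check.1 i (List.mem_range.2 hi)
    simp only [Bool.and_eq_true, beq_iff_eq] at h
    rw [List.getD_eq_getElem cvList _ (al_check.2.1.symm ▸ hi), List.getD_eq_getElem alList _ (al_check.2.2.1.symm ▸ hi)] at h
    set p := cvList[i]'(al_check.2.1.symm ▸ hi)
    have hp1 : p < 1920 := (M.cv (List.getElem_mem _)).1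
    have key := conj_cw M (fun i => (gA_lt h767 i).1) (fun i => (gA_lt h767 i).2) hgA (alW.getD i [])
    rw [h.1, h.2, M.mul3 hv hp1 hv] at key
    calc r * emb p = e * (emb vI * emb p * emb vI) * emb vI := by
          rw [hr, show e * (emb vI * emb p * emb vI) * emb vI = e * emb vI * emb p * (emb vI * emb vI) by group,
            VV, mul_one]
      _ = emb _ * e * emb vI := by rw [key]
      _ = _ := by rw [hr, mul_assoc]
  have inv : emb vI * r * (emb vI * r) = 1 := by
    calc emb vI * r * (emb vI * r) = emb vI * e * (emb vI * emb vI) * e * emb vI := by rw [hr]; group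
      _ = emb vI * (e * e) * emb vI := by rw [VV]; group
      _ = 1 := by rw [ee, mul_one, VV]
  refine ⟨r, M.hom, M.inj, fun h hh => M.cent h (by rwa [M.t_eq] at hh), conj, ?_, inv⟩
  -- the cube
  have et : e * t = emb uI * e := by have := hgA 3; rwa [show (gA 767).getD 3 0 = tI from rfl, M.t_eq] at this
  have eU : e * emb uI = t * e := by
    have := hgA 4; rwa [show (gB 767).getD 4 0 = tI from rfl, M.t_eq] at this
  have eX : e * emb xI = emb xI * e := hgA 0
  have Ut : emb uI * t = t * emb uI := M.ct uI hU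
  have rt : r * t = emb uI * r := by rw [hr, mul_assoc, M.ct vI hv, ← mul_assoc, et, mul_assoc]
  have rU : r * emb uI = t * emb uI * r := by
    have e3 : emb vI * emb uI = emb uI * t * emb vI := by
      have : emb vI * emb uI * emb vI = emb uI * t := by
        rw [← M.mul3 hv hU hv, s3, M.hom _ _ hU (by decide), M.t_eq]
      rw [← this, mul_assoc (emb vI * emb uI), VV, mul_one]
    calc r * emb uI = e * (emb vI * emb uI) := by rw [hr, mul_assoc]
      _ = e * emb uI * (t * emb vI) := by rw [e3]; group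
      _ = t * (e * t) * emb vI := by rw [eU]; group
      _ = _ := by rw [et, hr]; group
  have rtu : r * (t * emb uI) = t * r := by
    calc r * (t * emb uI) = emb uI * (r * emb uI) := by rw [← mul_assoc, rt, mul_assoc]
      _ = emb uI * (t * emb uI) * r := by rw [rU]; group
      _ = t * (emb uI * emb uI) * r := by rw [← mul_assoc (emb uI), Ut]; group
      _ = t * r := by rw [← M.hom _ _ hU hU, s6, M.one, mul_one]
  have r3t : r * r * r * t = t * (r * r * r) := by
    calc r * r * r * t = r * (r * emb uI) * r := by rw [mul_assoc, mul_assoc, rt]; group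
      _ = r * (t * emb uI) * r * r := by rw [rU]; group
      _ = _ := by rw [rtu]; group
  have r3u : r * r * r * emb uI = emb uI * (r * r * r) := by
    calc r * r * r * emb uI = r * (r * (t * emb uI)) * r := by rw [mul_assoc, mul_assoc, rU]; group
      _ = r * t * r * r := by rw [rtu]; group
      _ = _ := by rw [rt]; group
  have rX : r * emb xI = emb xI * r := by
    rw [hr, mul_assoc, M.comm hv hx s2, ← mul_assoc, eX, mul_assoc]
  obtain ⟨c, hcv, hc, hcr⟩ := M.mem_cv r3t r3u
  obtain ⟨i, hi, hci⟩ := List.getElem_of_mem hcv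
  have hzl : i < (cvList.zip alList).length := by
    rw [List.length_zip, al_check.2.2.1, al_check.2.1, min_self]; rwa [al_check.2.1] at hi
  have hmem := List.getElem_mem hzl
  rw [List.getElem_zip, hci] at hmem
  have h := List.all_eq_true.1 cube_check _ hmem
  simp only [Bool.or_eq_true, beq_iff_eq, bne_iff_ne] at h
  have e1 := conj _ hmem
  simp only at e1
  rw [hcr, show r * (r * r * r) = r * r * r * r by group] at e1
  rcases h with ((h | h) | h) | h
  · rw [← hcr, h, M.one]
  · exact absurd (M.inj _ _ hc (of_decide_eq_true (List.all_eq_true.1 al_check.2.2.2 _ (List.getElem_mem _)))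
      (hcr.trans (mul_right_cancel e1))) h
  · exact absurd (M.ofComm hc hx (by
      rw [hcr]; exact (Commute.mul_left (Commute.mul_left rX rX) rX).eq)) h
  · refine absurd (M.inj _ _ (M.lt_mul (M.lt_mul (M.lt_mul hv hc) hv) hc) (by norm_num) ?_) h
    have hinv : emb vI * r * emb vI = r⁻¹ := eq_inv_of_mul_eq_one_left (by rw [mul_assoc (emb vI * r)]; exact inv)
    rw [M.hom _ _ (M.lt_mul (M.lt_mul hv hc) hv) hc, M.mul3 hv hc hv, M.one, hcr]
    have : emb vI * (r * r * r) * emb vI = r⁻¹ * r⁻¹ * r⁻¹ := by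
      rw [← hinv]
      simp only [mul_assoc]
      simp only [← mul_assoc (emb vI) (emb vI), VV, one_mul]
    rw [this]; group

end Cfsg.Agent.J3Uniq
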