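import Cfsg.Agent.Lib.HJUniq.Reduce

/-!
Local analysis of a group of third Janko type: elementary facts about the centraliser `2^{1+4}.A₅` of an
involution, its non-central involutions and the existence of an involution outside the normal subgroup.
-/

set_option autoImplicit false
set_option linter.style.haveILetI false
set_option linter.unusedSectionVars false
set_option synthInstance.maxSize 4000
set_option synthInstance.maxHeartbeats 400000
set_option maxRecDepth 8000

namespace Cfsg.Agent.J3Uniq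

open Cfsg.Agent.HJ
open Cfsg.Agent.HJUniq (Base)

theorem cent_invol_card : ∀ σ : A5, σ * σ = 1 → σ ≠ 1 →
    (Finset.univ.filter fun τ : A5 => τ * σ = σ * τ).card = 4 := by decide +kernel

theorem five_pair : ∀ σ : A5, σ * σ = 1 → σ ≠ 1 → ∃ g : A5, (σ * (g * σ * g⁻¹)) ^ 5 = 1 ∧
    σ * (g * σ * g⁻¹) ≠ 1 := by decide +kernel

universe u

variable {G : Type u} [Group G] [Finite G] {t : G} {Q : Subgroup G}
  {φ : ↥(Subgroup.centralizer ({t} : Set G)) →* A5}

section Psi

variable (B : Base t Q φ)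
include B

theorem psiB_mul {a b : G} (ha : a * t = t * a) (hb : b * t = t * b) : psi φ (a * b) = psi φ a * psi φ b := by
  have ha' := mem_cent.2 ha
  have hb' := mem_cent.2 hb
  rw [psi, psi, psi, dif_pos ha', dif_pos hb', dif_pos (mul_mem ha' hb'), ← map_mul]
  rfl

theorem psiB_inv {a : G} (ha : a * t = t * a) : psi φ a⁻¹ = (psi φ a)⁻¹ := by
  have ha' := mem_cent.2 ha
  rw [psi, psi, dif_pos ha', dif_pos (inv_mem ha'), ← map_inv]
  rfl

theorem psiB_pow {a : G} (ha : a * t = t * a) (n : ℕ) : psi φ (a ^ n) = psi φ a ^ n := by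
  have ha' := mem_cent.2 ha
  rw [psi, psi, dif_pos ha', dif_pos (pow_mem ha' n), ← map_pow]
  rfl

theorem psiB_eq_one {a : G} (ha : a * t = t * a) : psi φ a = 1 ↔ a ∈ Q := by
  rw [psi, dif_pos (mem_cent.2 ha)]
  exact B.ker ⟨a, mem_cent.2 ha⟩

theorem psiB_surj (g : A5) : ∃ h, h * t = t * h ∧ psi φ h = g := by
  obtain ⟨⟨h, hh⟩, rfl⟩ := B.surj g
  exact ⟨h, mem_cent.1 hh, by rw [psi, dif_pos hh]⟩

omit B in
theorem ct_mul {a b : G} (ha : a * t = t * a) (hb : b * t = t * b) : a * b * t = t * (a * b) :=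
  Commute.mul_left (show Commute a t from ha) hb

omit B in
theorem ct_inv {a : G} (ha : a * t = t * a) : a⁻¹ * t = t * a⁻¹ := Commute.inv_left (show Commute a t from ha)

omit B in
theorem ct_pow {a : G} (ha : a * t = t * a) (n : ℕ) : a ^ n * t = t * a ^ n :=
  (Commute.pow_left (show Commute a t from ha) n).eq

omit B in
theorem ct_conj {a b : G} (ha : a * t = t * a) (hb : b * t = t * b) : a * b * a⁻¹ * t = t * (a * b * a⁻¹) :=
  ct_mul (ct_mul ha hb) (ct_inv ha)

/-- Conjugation inside the normal subgroup. -/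
theorem conjQ2 {a x : G} (ha : a ∈ Q) (hx : x ∈ Q) : a * x * a⁻¹ = x ∨ a * x * a⁻¹ = x * t := by
  rcases B.comm a ha x hx with h | h
  · left; rw [h]; group
  · right; rw [h, mul_assoc (x * a), ← B.comm_t (Q.inv_mem ha)]; group

/-- A subgroup meets the centraliser of an element of `Q` in index at most two. -/
theorem half_le (A : Subgroup G) (hA : A ≤ Q) {x : G} (hx : x ∈ Q) :
    Nat.card A ≤ 2 * Nat.card ↥(A ⊓ Subgroup.centralizer ({x} : Set G)) := by
  classical
  have h := card_conj_orbit A x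
  have h2 : Nat.card {y : G // ∃ g ∈ A, g * x * g⁻¹ = y} ≤ 2 := by
    refine le_trans (Nat.card_le_card_of_injective (β := ({x, x * t} : Finset G)) (fun y => ⟨y.1, ?_⟩)
      fun a b h => Subtype.ext (congrArg Subtype.val h :)) ?_
    · obtain ⟨q, hq, hy⟩ := y.2
      rw [Finset.mem_insert, Finset.mem_singleton, ← hy]
      exact conjQ2 B (hA hq) hx
    · rw [Nat.card_eq_finsetCard]; exact Finset.card_le_two
  rw [← h]
  exact Nat.mul_le_mul_right _ h2

theorem exists_ncB {x : G} (hx : x ∈ Q) (h1 : x ≠ 1) (hz : x ≠ t) : ∃ y ∈ Q, x * y ≠ y * x := by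
  by_contra h
  push Not at h
  rcases B.center x hx h with h | h
  exacts [h1 h, hz h]

/-- The centraliser of a non-central element has index two. -/
theorem card_centB {x : G} (hx : x ∈ Q) (h1 : x ≠ 1) (hz : x ≠ t) :
    Nat.card ↥(Q ⊓ Subgroup.centralizer ({x} : Set G)) = 16 := by
  have h := half_le B Q le_rfl hx
  rw [B.card] at h
  have hd : Nat.card ↥(Q ⊓ Subgroup.centralizer ({x} : Set G)) ∣ 32 :=
    B.card ▸ Subgroup.card_dvd_of_le inf_le_left
  have hne : Nat.card ↥(Q ⊓ Subgroup.centralizer ({x} : Set G)) ≠ 32 := fun e => by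
    have heq := Subgroup.eq_of_le_of_card_ge (inf_le_left : Q ⊓ Subgroup.centralizer ({x} : Set G) ≤ Q)
      (by rw [e, B.card])
    obtain ⟨y, hy, hne⟩ := exists_ncB B hx h1 hz
    rw [← heq] at hy
    exact hne (mem_cent.1 hy.2).symm
  obtain ⟨m, hm, e⟩ := (Nat.dvd_prime_pow Nat.prime_two).1 (show _ ∣ 2 ^ 5 from hd)
  interval_cases m <;> omega

/-- The relation of fixing modulo the centre. -/
def Fix2 (t c q : G) : Prop := c * q * c⁻¹ = q ∨ c * q * c⁻¹ = q * t

theorem fix2_mul {a b q : G} (ha : a * t = t * a) (h1 : Fix2 t a q) (h2 : Fix2 t b q) : Fix2 t (a * b) q := by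
  have e : a * b * q * (a * b)⁻¹ = a * (b * q * b⁻¹) * a⁻¹ := by group
  rw [Fix2, e]
  rcases h2 with h | h <;> rw [h]
  · exact h1
  · rw [conj_mul', conj_eq_iff_comm.2 ha]
    rcases h1 with h' | h' <;> rw [h']
    · exact Or.inr rfl
    · exact Or.inl (by rw [mul_assoc, B.tt, mul_one])

theorem fix2_pow {a q : G} (ha : a * t = t * a) (h1 : Fix2 t a q) (n : ℕ) : Fix2 t (a ^ n) q := by
  induction n with
  | zero => left; simp
  | succ n ih => rw [pow_succ']; exact fix2_mul B ha h1 ih

theorem pow_four_one {q : G} (hq : q ∈ Q) : q ^ 4 = 1 := by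
  rw [show q ^ 4 = q * q * (q * q) by simp only [pow_succ, pow_zero, one_mul, mul_assoc]]
  rcases B.sq q hq with h | h <;> simp [h, B.tt]

variable [IsSimpleGroup G]

/-- An element of order five fixes only the centre, even modulo the centre. -/
theorem fix_five {c q : G} (hc : c * t = t * c) (hc5 : c ^ 5 = 1) (hc1 : c ≠ 1) (hq : q ∈ Q)
    (h : Fix2 t c q) : q = 1 ∨ q = t := by
  classical
  haveI : Fact (Nat.Prime 5) := ⟨by norm_num⟩
  have hcq : c * q = q * c := by
    rcases h with h | h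
    · exact conj_eq_iff_comm.1 h
    exfalso
    have step : ∀ n : ℕ, c ^ n * q * (c ^ n)⁻¹ = q * t ^ n := by
      intro n
      induction n with
      | zero => simp
      | succ n ih =>
        rw [pow_succ', show c * c ^ n * q * (c * c ^ n)⁻¹ = c * (c ^ n * q * (c ^ n)⁻¹) * c⁻¹ by group, ih,
          conj_mul', h, conj_eq_iff_comm.2 ((Commute.pow_right (show Commute c t from hc) n).eq), mul_assoc,
          ← pow_succ']
    have h5 := step 5
    rw [hc5, one_mul, inv_one, mul_one, show t ^ 5 = t * (t * t) * (t * t) by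
      simp only [pow_succ, pow_zero, one_mul, mul_assoc], B.tt, mul_one, mul_one] at h5
    exact B.t1 (mul_left_cancel (h5.symm.trans (mul_one q).symm))
  have hm := card_fixed_modEq hc5 (Q : Set G) fun w hw => B.conj_Q hc hw
  let F := Q ⊓ Subgroup.centralizer ({c} : Set G)
  have e1 : Nat.card {w : G // w ∈ (Q : Set G) ∧ c * w = w * c} = Nat.card F :=
    Nat.card_congr (Equiv.subtypeEquivRight fun w => by
      simp [F, Subgroup.mem_inf, mem_cent, eq_comm])
  rw [e1, show Nat.card {w : G // w ∈ (Q : Set G)} = 32 from B.card, Nat.ModEq] at hm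
  have hd : Nat.card F ∣ 2 ^ 5 := (B.card ▸ Subgroup.card_dvd_of_le inf_le_left : Nat.card F ∣ 32)
  have hF : Nat.card F = 2 := by
    have hne : Nat.card F ≠ 32 := fun e => by
      have heq := Subgroup.eq_of_le_of_card_ge (inf_le_left : F ≤ Q) (by rw [e, B.card])
      have hcQ : c ∈ Q := B.self c hc fun w hw => by
        rw [← heq] at hw
        exact (mem_cent.1 hw.2).symm
      have h4 := pow_four_one B hcQ
      exact hc1 (by
        calc c = c ^ 5 * (c ^ 4)⁻¹ := by rw [eq_mul_inv_iff_mul_eq, ← pow_succ']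
          _ = 1 := by rw [hc5, h4]; simp)
    obtain ⟨m, hm', e⟩ := (Nat.dvd_prime_pow Nat.prime_two).1 hd
    interval_cases m <;> omega
  obtain ⟨w, -, huniq⟩ := (Nat.card_eq_two_iff' (1 : F)).1 hF
  by_cases h1 : q = 1
  · exact Or.inl h1
  · right
    have e1 := huniq ⟨q, hq, mem_cent.2 hcq.symm⟩ fun e => h1 (congrArg Subtype.val e)
    have e2 := huniq ⟨t, B.tQ, mem_cent.2 hc.symm⟩ fun e => B.t1 (congrArg Subtype.val e)
    exact congrArg Subtype.val (e1.trans e2.symm)

/-- An element of order five over a given one. -/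
theorem lift_five {d : G} (hd : d * t = t * d) (h5 : psi φ d ^ 5 = 1) :
    (d ^ 16) ^ 5 = 1 ∧ psi φ (d ^ 16) = psi φ d ∧ d ^ 16 * t = t * d ^ 16 := by
  have hQ : d ^ 5 ∈ Q := (psiB_eq_one B (ct_pow hd 5)).1 (by rw [psiB_pow B hd, h5])
  refine ⟨?_, ?_, ct_pow hd 16⟩
  · rw [← pow_mul, show 16 * 5 = 5 * (4 * 4) from rfl, pow_mul, pow_mul, pow_four_one B hQ, one_pow]
  · rw [psiB_pow B hd, show 16 = 5 * 3 + 1 from rfl, pow_succ, pow_mul, h5, one_pow, one_mul]

/-- An element outside `Q` does not centralise an index two subgroup modulo the centre. -/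
theorem exists_moved {u : G} (hu : u ∈ Q) {h : G}
    (ht : h * t = t * h) (h2 : psi φ h * psi φ h = 1) (hQ : h ∉ Q) :
    ∃ w ∈ Q, w * u = u * w ∧ ¬ Fix2 t h w := by
  by_contra hcon
  push Not at hcon
  have hψ : psi φ h ≠ 1 := fun e => hQ ((psiB_eq_one B ht).1 e)
  obtain ⟨σ, h5, hne⟩ := five_pair (psi φ h) h2 hψ
  obtain ⟨g, hg, rfl⟩ := psiB_surj B σ
  set h' := g * h * g⁻¹ with hh'
  have ht' : h' * t = t * h' := ct_conj hg ht
  have hψ' : psi φ h' = psi φ g * psi φ h * (psi φ g)⁻¹ := by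
    rw [hh', psiB_mul B (ct_mul hg ht) (ct_inv hg), psiB_mul B hg ht, psiB_inv B hg]
  rw [← hψ', ← psiB_mul B ht ht'] at h5 hne
  obtain ⟨hc5, hψc, hct⟩ := lift_five B (ct_mul ht ht') h5
  have hc1 : (h * h') ^ 16 ≠ 1 := fun e => hne (by
    rw [← hψc, e]; exact (psiB_eq_one B (by simp)).2 Q.one_mem)
  let u' := g * u * g⁻¹
  have hu' : u' ∈ Q := B.conj_Q hg hu
  let D := Q ⊓ Subgroup.centralizer ({u} : Set G) ⊓ Subgroup.centralizer ({u'} : Set G)
  have hD : 8 ≤ Nat.card D := by
    have a := half_le B Q le_rfl hu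
    have b := half_le B (Q ⊓ Subgroup.centralizer ({u} : Set G)) inf_le_left hu'
    rw [B.card] at a
    show 8 ≤ Nat.card ↥(Q ⊓ Subgroup.centralizer ({u} : Set G) ⊓ Subgroup.centralizer ({u'} : Set G))
    omega
  have key : ∀ w ∈ D, w = 1 ∨ w = t := by
    intro w hw
    obtain ⟨⟨hwQ, hwu⟩, hwu'⟩ := hw
    refine fix_five B hct hc5 hc1 hwQ (fix2_pow B (ct_mul ht ht') (fix2_mul B ht (hcon w hwQ (mem_cent.1 hwu)) ?_) 16)
    have hw0 : g⁻¹ * w * g * u = u * (g⁻¹ * w * g) := by
      have h' : w * (g * u * g⁻¹) = g * u * g⁻¹ * w := mem_cent.1 hwu'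
      calc g⁻¹ * w * g * u = g⁻¹ * (w * (g * u * g⁻¹)) * g := by group
        _ = g⁻¹ * (g * u * g⁻¹ * w) * g := by rw [h']
        _ = _ := by group
    have hw1 : g⁻¹ * w * g ∈ Q := by
      have := B.conj_Q (ct_inv hg) hwQ
      rwa [inv_inv] at this
    have e : h' * w * h'⁻¹ = g * (h * (g⁻¹ * w * g) * h⁻¹) * g⁻¹ := by rw [hh']; group
    rw [Fix2, e]
    rcases hcon _ hw1 hw0 with h1 | h1 <;> rw [h1]
    · left; group
    · right
      calc g * (g⁻¹ * w * g * t) * g⁻¹ = w * (g * t * g⁻¹) := by group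
        _ = w * t := by rw [conj_eq_iff_comm.2 hg]
  classical
  have hle : Nat.card D ≤ 2 := by
    refine le_trans (Nat.card_le_card_of_injective (β := ({1, t} : Finset G)) (fun y => ⟨y.1, by
      simpa using key y.1 y.2⟩) fun a b h => Subtype.ext (congrArg Subtype.val h :)) ?_
    rw [Nat.card_eq_finsetCard]; exact Finset.card_le_two
  omega

/-- The involutions of `Q` commuting with a given one. -/
theorem four_of_comm {u : G} (hu : Nci t Q u) {y : G} (hy : y ∈ Q) (hyu : y * u = u * y) (hy2 : y * y = 1) :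
    y = 1 ∨ y = t ∨ y = u ∨ y = u * t := by
  classical
  by_contra hcon
  push Not at hcon
  obtain ⟨h1, h2, h3, h4⟩ := hcon
  have hyt : y * t = t * y := B.comm_t hy
  have hut : u * t = t * u := B.comm_t hu.1
  let S : Set G := {t, u, y}
  have hSc : ∀ a ∈ S, ∀ b ∈ S, a * b = b * a := by
    rintro a (rfl | rfl | rfl) b (rfl | rfl | rfl)
    exacts [rfl, hut.symm, hyt.symm, hut, rfl, hyu.symm, hyt, hyu, rfl]
  have hA : Subgroup.closure S ≤ Q := (Subgroup.closure_le _).2 (by
    rintro a (rfl | rfl | rfl)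
    exacts [B.tQ, hu.1, hy])
  have hS2 : ∀ a ∈ S, a * a = 1 := by
    rintro a (rfl | rfl | rfl)
    exacts [B.tt, hu.2.1, hy2]
  have hcomm : ∀ a ∈ Subgroup.closure S, ∀ b ∈ Subgroup.closure S, a * b = b * a := by
    intro a ha b hb
    have hb' : ∀ c ∈ S, b * c = c * b := by
      intro c hc
      have : Subgroup.closure S ≤ Subgroup.centralizer ({c} : Set G) :=
        (Subgroup.closure_le _).2 fun d hd => mem_cent.2 (hSc d hd c hc)
      exact mem_cent.1 (this hb)
    have : Subgroup.closure S ≤ Subgroup.centralizer ({b} : Set G) :=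
      (Subgroup.closure_le _).2 fun d hd => mem_cent.2 (hb' d hd).symm
    exact mem_cent.1 (this ha)
  have hsq : ∀ a ∈ Subgroup.closure S, a * a = 1 := by
    intro a ha
    induction ha using Subgroup.closure_induction with
    | mem a ha => exact hS2 a ha
    | one => exact one_mul 1
    | mul a b ha hb ia ib =>
      calc a * b * (a * b) = a * (b * a) * b := by group
        _ = a * a * (b * b) := by rw [hcomm b hb a ha]; group
        _ = 1 := by rw [ia, ib, one_mul]
    | inv a _ ia => rw [← mul_inv_rev, ia, inv_one]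
  have hle := B.minus _ hA hsq
  have hsub : ({1, t, u, u * t, y} : Finset G) ⊆
      (Set.Finite.toFinset (Set.toFinite (Subgroup.closure S : Set G))) := by
    intro a ha
    simp only [Finset.mem_insert, Finset.mem_singleton] at ha
    simp only [Set.Finite.mem_toFinset, SetLike.mem_coe]
    rcases ha with rfl | rfl | rfl | rfl | rfl
    · exact one_mem _
    · exact Subgroup.subset_closure (Or.inl rfl)
    · exact Subgroup.subset_closure (Or.inr (Or.inl rfl))
    · exact mul_mem (Subgroup.subset_closure (Or.inr (Or.inl rfl))) (Subgroup.subset_closure (Or.inl rfl))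
    · exact Subgroup.subset_closure (Or.inr (Or.inr rfl))
  have hut1 : u * t ≠ 1 := fun e => hu.2.2.2 (by rw [← inv_of_sq B.tt]; exact eq_inv_of_mul_eq_one_left e)
  have hutt : u * t ≠ t := fun e => hu.2.2.1 (mul_right_cancel (e.trans (one_mul t).symm))
  have hutu : u * t ≠ u := fun e => B.t1 (mul_left_cancel (e.trans (mul_one u).symm))
  have h5 : ({1, t, u, u * t, y} : Finset G).card = 5 := by
    rw [Finset.card_insert_of_notMem (by simp [Ne.symm B.t1, Ne.symm hu.2.2.1, Ne.symm hut1, Ne.symm h1]),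
      Finset.card_insert_of_notMem (by simp [Ne.symm hu.2.2.2, Ne.symm hutt, Ne.symm h2]),
      Finset.card_insert_of_notMem (by simp [Ne.symm hutu, Ne.symm h3]),
      Finset.card_pair (Ne.symm h4)]
  have := Finset.card_le_card hsub
  rw [h5, ← Set.ncard_eq_toFinset_card _ _, ← Nat.card_coe_set_eq] at this
  exact absurd (this.trans hle) (by norm_num)

end Psi

section Swap

variable [IsSimpleGroup G] (B : Base t Q φ) {u g : G} (hu : Nci t Q u) (hg : g * t * g⁻¹ = u)
include B hu hg

theorem w_facts : (g⁻¹ * t * g) * t = t * (g⁻¹ * t * g) ∧ (g⁻¹ * t * g) * (g⁻¹ * t * g) = 1 ∧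
    g⁻¹ * t * g ≠ 1 ∧ g⁻¹ * t * g ≠ t := by
  have hut := B.comm_t hu.1
  refine ⟨?_, ?_, fun e => B.t1 ?_, fun e => hu.2.2.2 ?_⟩
  · calc g⁻¹ * t * g * t = g⁻¹ * (t * (g * t * g⁻¹)) * g := by group
      _ = g⁻¹ * (g * t * g⁻¹ * t) * g := by rw [hg, hut]
      _ = _ := by group
  · calc g⁻¹ * t * g * (g⁻¹ * t * g) = g⁻¹ * (t * t) * g := by group
      _ = 1 := by rw [B.tt]; group
  · calc t = g * (g⁻¹ * t * g) * g⁻¹ := by group
      _ = 1 := by rw [e]; group
  · rw [← hg]
    calc g * t * g⁻¹ = g * (g⁻¹ * t * g) * g⁻¹ := by rw [e]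
      _ = t := by group

/-- The orbit of a non-central involution is proper. -/
theorem not_all_invol : ∃ y ∈ Q, y * y ≠ 1 := by
  by_contra hcon
  push Not at hcon
  obtain ⟨y, hy, hne⟩ := exists_ncB B hu.1 hu.2.2.1 hu.2.2.2
  have h := inv_of_sq (hcon _ (Q.mul_mem hu.1 hy))
  rw [mul_inv_rev, inv_of_sq hu.2.1, inv_of_sq (hcon y hy)] at h
  exact hne h.symm

theorem orbit_lt : Nat.card {y : G // ∃ c ∈ Subgroup.centralizer ({t} : Set G), c * u * c⁻¹ = y} < 30 := by
  classical
  haveI := Fintype.ofFinite G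
  by_contra hge
  push Not at hge
  let QF : Finset G := Finset.univ.filter (· ∈ Q)
  let O : Finset G := Finset.univ.filter fun y => ∃ c ∈ Subgroup.centralizer ({t} : Set G), c * u * c⁻¹ = y
  have hO : 30 ≤ O.card := by
    refine hge.trans_eq ?_
    rw [Nat.card_eq_fintype_card, Fintype.card_subtype]
  have hQF : QF.card = 32 := by rw [← B.card, Nat.card_eq_fintype_card, Fintype.card_subtype]
  have hsub : O ⊆ QF \ {1, t} := by
    intro y hy
    simp only [O, Finset.mem_filter, Finset.mem_univ, true_and] at hy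
    obtain ⟨c, hc, rfl⟩ := hy
    have hct := mem_cent.1 hc
    simp only [Finset.mem_sdiff, QF, Finset.mem_filter, Finset.mem_univ, true_and, Finset.mem_insert,
      Finset.mem_singleton]
    refine ⟨B.conj_Q hct hu.1, ?_⟩
    rintro (e | e)
    · exact hu.2.2.1 (conj_inj' (a := c) (e.trans (by group)))
    · exact hu.2.2.2 (conj_inj' (a := c) (e.trans (conj_eq_iff_comm.2 hct).symm))
  have h30 : (QF \ {1, t}).card = 30 := by
    rw [Finset.card_sdiff_of_subset (by
      intro a ha
      simp only [Finset.mem_insert, Finset.mem_singleton] at ha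
      simp only [QF, Finset.mem_filter, Finset.mem_univ, true_and]
      rcases ha with rfl | rfl
      exacts [Q.one_mem, B.tQ]), hQF, Finset.card_pair (Ne.symm B.t1)]
  have heq := Finset.eq_of_subset_of_card_le hsub (by omega)
  obtain ⟨y, hy, hne⟩ := not_all_invol B hu hg
  have hmem : y ∈ QF \ {1, t} := by
    simp only [Finset.mem_sdiff, QF, Finset.mem_filter, Finset.mem_univ, true_and, Finset.mem_insert,
      Finset.mem_singleton]
    refine ⟨hy, ?_⟩
    rintro (rfl | rfl)
    exacts [hne (one_mul 1), hne B.tt]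
  rw [← heq] at hmem
  simp only [O, Finset.mem_filter, Finset.mem_univ, true_and] at hmem
  obtain ⟨c, -, rfl⟩ := hmem
  exact hne (conj_sq c hu.2.1)

/-- The symmetry of the relation between a central and a non-central involution. -/
theorem w_mem : g⁻¹ * t * g ∈ Q := by
  classical
  haveI := Fintype.ofFinite G
  obtain ⟨hwt, hw2, hw1, hwne⟩ := w_facts B hu hg
  set w := g⁻¹ * t * g with hw
  by_contra hwQ
  let H := Subgroup.centralizer ({t} : Set G) ⊓ Subgroup.centralizer ({u} : Set G)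
  let HF : Finset G := Finset.univ.filter fun y => y * t = t * y ∧ y * w = w * y
  have hle : Nat.card H ≤ HF.card := by
    rw [← Nat.card_eq_finsetCard]
    refine Nat.card_le_card_of_injective (fun y => ⟨g⁻¹ * y.1 * g, ?_⟩) fun a b e => ?_
    · have hyt := mem_cent.1 y.2.1
      have hyu := mem_cent.1 y.2.2
      rw [← hg] at hyu
      simp only [HF, Finset.mem_filter, Finset.mem_univ, true_and]
      refine ⟨?_, ?_⟩
      · calc g⁻¹ * y.1 * g * t = g⁻¹ * (y.1 * (g * t * g⁻¹)) * g := by group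
          _ = g⁻¹ * (g * t * g⁻¹ * y.1) * g := by rw [hyu]
          _ = _ := by group
      · rw [hw]
        calc g⁻¹ * y.1 * g * (g⁻¹ * t * g) = g⁻¹ * (y.1 * t) * g := by group
          _ = g⁻¹ * (t * y.1) * g := by rw [hyt]
          _ = _ := by group
    · have := congrArg Subtype.val e
      exact Subtype.ext (mul_left_cancel (mul_right_cancel this))
  let T4 : Finset A5 := Finset.univ.filter fun τ => τ * psi φ w = psi φ w * τ
  have hψw : psi φ w * psi φ w = 1 := by
    rw [← psiB_mul B hwt hwt, hw2]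
    exact (psiB_eq_one B (by simp)).2 Q.one_mem
  have hT4 : T4.card = 4 := cent_invol_card _ hψw fun e => hwQ ((psiB_eq_one B hwt).1 e)
  have h16 : Nat.card ↥(Q ⊓ Subgroup.centralizer ({w} : Set G)) ≤ 16 := by
    have hd : Nat.card ↥(Q ⊓ Subgroup.centralizer ({w} : Set G)) ∣ 2 ^ 5 :=
      (B.card ▸ Subgroup.card_dvd_of_le inf_le_left : _ ∣ 32)
    have hne : Nat.card ↥(Q ⊓ Subgroup.centralizer ({w} : Set G)) ≠ 32 := fun e => hwQ (by
      have heq := Subgroup.eq_of_le_of_card_ge (inf_le_left : Q ⊓ Subgroup.centralizer ({w} : Set G) ≤ Q)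
        (by rw [e, B.card])
      exact B.self w hwt fun x hx => by rw [← heq] at hx; exact (mem_cent.1 hx.2).symm)
    obtain ⟨m, hm, e⟩ := (Nat.dvd_prime_pow Nat.prime_two).1 hd
    interval_cases m <;> omega
  have h64 : HF.card ≤ 16 * T4.card := by
    refine Finset.card_le_mul_card_image_of_maps_to (f := psi φ) (fun y hy => ?_) _ fun τ _ => ?_
    · simp only [HF, Finset.mem_filter, Finset.mem_univ, true_and] at hy
      simp only [T4, Finset.mem_filter, Finset.mem_univ, true_and]
      rw [← psiB_mul B hy.1 hwt, ← psiB_mul B hwt hy.1, hy.2]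
    · rcases (HF.filter fun y => psi φ y = τ).eq_empty_or_nonempty with e | ⟨y0, hy0⟩
      · rw [e]; simp
      refine le_trans ?_ h16
      rw [← Nat.card_eq_finsetCard]
      refine Nat.card_le_card_of_injective (fun y => ⟨y0⁻¹ * y.1, ?_⟩) fun a b e =>
        Subtype.ext (mul_left_cancel (congrArg Subtype.val e))
      have hy := y.2
      simp only [HF, Finset.mem_filter, Finset.mem_univ, true_and] at hy hy0
      refine ⟨?_, mem_cent.2 ?_⟩
      · show y0⁻¹ * y.1 ∈ Q
        rw [← psiB_eq_one B (ct_mul (ct_inv hy0.1.1) hy.1.1), psiB_mul B (ct_inv hy0.1.1) hy.1.1,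
          psiB_inv B hy0.1.1, hy.2, hy0.2, inv_mul_cancel]
      · exact (Commute.mul_left (Commute.inv_left hy0.1.2) hy.1.2).eq
  have h := card_conj_orbit (Subgroup.centralizer ({t} : Set G)) u
  rw [B.card_H] at h
  have := orbit_lt B hu hg
  rw [hT4] at h64
  have hm := Nat.mul_le_mul (Nat.le_of_lt_succ (show _ < 29 + 1 from this)) (hle.trans h64)
  exact absurd (h.symm.le.trans hm) (by norm_num)

theorem w_nci : Nci t Q (g⁻¹ * t * g) :=
  ⟨w_mem B hu hg, (w_facts B hu hg).2.1, (w_facts B hu hg).2.2.1, (w_facts B hu hg).2.2.2⟩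

end Swap

end Cfsg.Agent.J3Uniq
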