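import Cfsg.Agent.Lib.Compute.PermCert
import Mathlib.GroupTheory.SpecificGroups.Alternating
import Mathlib.LinearAlgebra.Matrix.SpecialLinearGroup
import Mathlib.Data.ZMod.Basic
import Cfsg.Agent.Lib.J3Uniq.Amal

/-!
The orders of two products in the alternating group of degree six and in `SL₃(2)`, computed on codes.
-/

set_option autoImplicit false
set_option maxRecDepth 20000

namespace Cfsg.Agent.J3Uniq

open Cfsg.Agent.PermCert (pack get)

def l6 : List ℕ := [181896, 120968, 146056, 152776, 174280, 84680, 177416, 87816, 109320, 116040, 141128, 80200, 153168, 178256, 117328, 180944, 55504, 137936, 119568, 169744, 47888, 144208, 51024, 104784, 181336, 88152, 141912, 152216, 170136, 51864, 172824, 54552, 72472, 82776, 136536, 43352, 119904, 173664, 80480, 176800, 54944, 105120, 86752, 169184, 43744, 107360, 46432, 71520, 144488, 83560, 108648, 115368, 136872, 47272, 140008, 50408, 71912, 78632, 103720, 42792, 153217, 178305, 117377, 181441, 88257, 142017, 120065, 173825, 80641, 144705, 83777,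 108865, 181777, 120849, 145937, 151761, 166097, 19153, 176401, 22289, 101137, 115025, 132945, 14673, 152601, 174105, 84505, 180377, 22681, 133785, 86297, 165145, 11033, 139609, 17753, 67929, 177185, 87585, 109089, 118945, 165537, 15009, 172257, 21729, 68321, 78177, 99681, 10081, 115753, 140841, 79913, 143529, 18089, 100521, 82153, 132329, 10473, 106793, 13609, 67369, 181826, 120898, 145986, 152258, 170178, 51906, 176898, 55042, 105218, 115522, 137026, 47426, 153098, 178186, 117258, 180426, 22730, 133834, 119050, 165642, 15114, 143690, 18250, 100682, 180762, 55322, 137754, 151642, 165978, 19034, 168218, 21274, 35610, 49498, 131930, 6490, 119330, 169506, 47650, 176226, 22114, 100962, 53474, 164578, 6882, 102754, 13154, 34658, 143914, 50730, 104490, 114794, 132714, 14442, 135402, 17130, 35050, 45354, 99114, 5930, 152643, 174147, 84547, 180867, 55427, 137859, 86787, 169219, 43779, 140099, 50499, 72003, 181259, 88075, 141835, 151691, 166027, 19083, 172299, 21771, 68363, 82251, 132427, 10571, 152083,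 170003, 51731, 180307, 22611, 133715, 53523, 164627, 6931, 135507, 17235, 35155, 172579, 54307, 72227, 86115, 164963, 10851, 168099, 21155, 35491, 41315, 66403, 5475, 82475, 136235, 43051, 139371, 17515, 67691, 49323, 131755, 6315, 69931, 9003, 34091, 177220, 87620, 109124, 119428, 169604, 47748, 172740, 54468, 72388, 78660, 103748, 42820, 119820, 173580, 80396, 176268, 22156, 101004, 86220, 165068, 10956, 106828, 13644, 67404, 176660, 54804, 104980, 118868, 165460, 14932, 168148, 21204, 35540, 45396, 99156, 5972, 86556, 168988, 43548, 172124, 21596, 68188, 53404, 164508, 6812, 69980, 9052, 34140, 107052, 46124, 71212, 77932, 99436, 9836, 102572, 12972, 34476, 41196, 66284, 5356, 115781, 140869, 79941, 144005, 50821, 104581, 82629, 136389, 43205, 107269, 46341, 71429, 144397, 83469, 108557, 114829, 132749, 14477, 139469, 17613, 67789, 78093, 99597, 9997, 115221, 136725, 47125, 143445, 18005, 100437, 49365, 131797, 6357, 102677, 13077, 34581, 139805, 50205, 71709, 82013, 132189, 10333, 135325, 17053,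 34973, 41245, 66333, 5405, 78373, 103461, 42533, 106597, 13413, 67173, 45221, 98981, 5797, 69861, 8933, 34021]

def l3 : List ℕ := [84, 85, 86, 87, 92, 93, 94, 95, 98, 99, 102, 103, 106, 107, 110, 111, 114, 115, 116, 117, 122, 123, 124, 125, 140, 141, 142, 143, 156, 157, 158, 159, 161, 163, 165, 167, 169, 171, 172, 174, 177, 179, 181, 183, 185, 187, 188, 190, 204, 205, 206, 207, 212, 213, 214, 215, 225, 226, 229, 230, 233, 234, 236, 239, 241, 242, 244, 247, 249, 250, 253, 254, 266, 267, 270, 271, 273, 275, 277, 279, 281, 282, 285, 286, 298, 299, 302, 303, 305, 307, 309, 311, 313, 314, 317, 318, 330, 331, 334, 335, 337, 339, 340, 342, 345, 346, 348, 351, 354, 355, 358, 359, 369, 370, 372, 375, 377, 379, 380, 382, 394, 395, 396, 397, 401, 403, 405, 407, 409, 410, 412, 415, 417, 419, 421, 423, 425, 426, 428, 431, 442, 443, 444, 445, 458, 459, 460, 461, 465, 467, 468, 470, 473, 474, 477, 478, 481, 482, 485, 486, 489, 491, 492, 494, 498, 499, 500, 501]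

/-- A group with a faithful multiplicative coding by the members of a list. -/
structure Coded {N : Type*} [Group N] (enc : N → ℕ) (L : List ℕ) (mc : ℕ → ℕ → ℕ) (one : ℕ) : Prop where
  inj : Function.Injective enc
  mem : ∀ g, enc g ∈ L
  mul : ∀ g h, enc (g * h) = mc (enc g) (enc h)
  one_eq : enc 1 = one

/-- Powers of a code. -/
def cpow (mc : ℕ → ℕ → ℕ) (one a : ℕ) : ℕ → ℕ
  | 0 => one
  | n + 1 => mc a (cpow mc one a n)

/-- The configurations around the involution `T` all have the listed orders. -/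
def ordersOK (L : List ℕ) (mc : ℕ → ℕ → ℕ) (one T : ℕ) : Bool :=
  L.all fun U => !(mc U U == one && mc U T == mc T U && U != one && U != T) || L.all fun R =>
    !(cpow mc one R 3 == one && mc R T == mc U R && mc R U == mc (mc U T) R) || L.all fun V =>
    !(mc V V == one && mc V T == mc T V && cpow mc one (mc V R) 2 == one && cpow mc one (mc U V) 2 == T) ||
    L.all fun S =>
    !(cpow mc one S 3 == one && mc S T == mc V S && mc S V == mc (mc V T) S && cpow mc one (mc U S) 2 == one) ||
    orderCases.any fun n => cpow mc one (mc R S) n.1 == one && cpow mc one (mc (mc R R) S) n.2 == one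

theorem Coded.orders {N : Type*} [Group N] {enc : N → ℕ} {L : List ℕ} {mc : ℕ → ℕ → ℕ} {one : ℕ}
    (c : Coded enc L mc one) {T U V R S : N} (h : ordersOK L mc one (enc T) = true)
    (hU : U * U = 1) (hUT : U * T = T * U) (hU1 : U ≠ 1) (hUne : U ≠ T)
    (hR : R ^ 3 = 1) (hRT : R * T = U * R) (hRU : R * U = U * T * R)
    (hV : V * V = 1) (hVT : V * T = T * V) (hVR : (V * R) ^ 2 = 1) (hUV : (U * V) ^ 2 = T)
    (hS : S ^ 3 = 1) (hST : S * T = V * S) (hSV : S * V = V * T * S) (hUS : (U * S) ^ 2 = 1) :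
    ∃ n ∈ orderCases, (R * S) ^ n.1 = 1 ∧ (R * R * S) ^ n.2 = 1 := by
  have hp : ∀ (g : N) (n : ℕ), cpow mc one (enc g) n = enc (g ^ n) := by
    intro g n
    induction n with
    | zero => rw [pow_zero, c.one_eq]; rfl
    | succ n ih => rw [cpow, ih, ← c.mul, pow_succ']
  have h1 := List.all_eq_true.1 h (enc U) (c.mem U)
  have gU : (mc (enc U) (enc U) == one && mc (enc U) (enc T) == mc (enc T) (enc U) && enc U != one &&
      enc U != enc T) = true := by
    simp only [← c.mul, hU, hUT, c.one_eq, beq_self_eq_true, Bool.true_and, Bool.and_eq_true, bne_iff_ne, ne_eq]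
    exact ⟨fun e => hU1 (c.inj (e.trans c.one_eq.symm)), fun e => hUne (c.inj e)⟩
  rw [gU, Bool.not_true, Bool.false_or] at h1
  have h2 := List.all_eq_true.1 h1 (enc R) (c.mem R)
  have gR : (cpow mc one (enc R) 3 == one && mc (enc R) (enc T) == mc (enc U) (enc R) &&
      mc (enc R) (enc U) == mc (mc (enc U) (enc T)) (enc R)) = true := by
    simp only [← c.mul, hp, hR, hRT, hRU, c.one_eq, beq_self_eq_true, Bool.and_self]
  rw [gR, Bool.not_true, Bool.false_or] at h2
  have h3 := List.all_eq_true.1 h2 (enc V) (c.mem V)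
  have gV : (mc (enc V) (enc V) == one && mc (enc V) (enc T) == mc (enc T) (enc V) &&
      cpow mc one (mc (enc V) (enc R)) 2 == one && cpow mc one (mc (enc U) (enc V)) 2 == enc T) = true := by
    simp only [← c.mul, hp, hV, hVT, hVR, hUV, c.one_eq, beq_self_eq_true, Bool.and_self]
  rw [gV, Bool.not_true, Bool.false_or] at h3
  have h4 := List.all_eq_true.1 h3 (enc S) (c.mem S)
  have gS : (cpow mc one (enc S) 3 == one && mc (enc S) (enc T) == mc (enc V) (enc S) &&
      mc (enc S) (enc V) == mc (mc (enc V) (enc T)) (enc S) && cpow mc one (mc (enc U) (enc S)) 2 == one) = true := by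
    simp only [← c.mul, hp, hS, hST, hSV, hUS, c.one_eq, beq_self_eq_true, Bool.and_self]
  rw [gS, Bool.not_true, Bool.false_or, List.any_eq_true] at h4
  obtain ⟨n, hn, e⟩ := h4
  simp only [Bool.and_eq_true, beq_iff_eq, ← c.mul, hp] at e
  exact ⟨n, hn, c.inj (e.1.trans c.one_eq.symm), c.inj (e.2.trans c.one_eq.symm)⟩

/-- The code of a permutation of six points. -/
def enc6 (σ : ↥(alternatingGroup (Fin 6))) : ℕ :=
  pack 3 (fun i => if h : i < 6 then ((σ : Equiv.Perm (Fin 6)) ⟨i, h⟩ : ℕ) else 0) 6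

/-- The code of a matrix. -/
def enc3 (A : Matrix.SpecialLinearGroup (Fin 3) (ZMod 2)) : ℕ :=
  pack 1 (fun k => (A.1 (Fin.ofNat 3 (k / 3)) (Fin.ofNat 3 (k % 3))).val) 9

/-- Multiplication of matrix codes. -/
def mul3 (a b : ℕ) : ℕ :=
  pack 1 (fun k => (get 1 a (3 * (k / 3)) * get 1 b (k % 3) + get 1 a (3 * (k / 3) + 1) * get 1 b (3 + k % 3) +
    get 1 a (3 * (k / 3) + 2) * get 1 b (6 + k % 3)) % 2) 9

theorem pack_congr' {w : ℕ} {f g : ℕ → ℕ} : ∀ {n : ℕ}, (∀ i, i < n → f i = g i) → pack w f n = pack w g n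
  | 0, _ => rfl
  | n + 1, h => by
    rw [PermCert.pack_succ, PermCert.pack_succ, pack_congr' (n := n) (fun i hi => h i (Nat.lt_succ_of_lt hi)),
      h n (Nat.lt_succ_self n)]

theorem mem6 : ∀ σ : ↥(alternatingGroup (Fin 6)), l6.contains (enc6 σ) = true := by decide +kernel

theorem mem3 : ∀ A : Matrix.SpecialLinearGroup (Fin 3) (ZMod 2), l3.contains (enc3 A) = true := by decide +kernel

theorem coded6 : Coded enc6 l6 (PermCert.comp 3 6) (PermCert.idCode 3 6) where
  inj σ τ h := by
    refine Subtype.ext (Equiv.ext fun i => Fin.ext ?_)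
    have := congrArg (fun c => get 3 c i) h
    simp only [enc6, PermCert.get_pack _ _ _ _ i.2, dif_pos i.2] at this
    have h8 : ∀ x : Fin 6, (x : ℕ) % 2 ^ 3 = x := fun x => Nat.mod_eq_of_lt (x.2.trans (by norm_num))
    rwa [h8, h8] at this
  mem σ := List.contains_iff_mem.1 (mem6 σ)
  mul σ τ := by
    have h8 : ∀ x : Fin 6, (x : ℕ) % 2 ^ 3 = x := fun x => Nat.mod_eq_of_lt (x.2.trans (by norm_num))
    refine pack_congr' fun i hi => ?_
    rw [dif_pos hi, enc6, enc6, PermCert.get_pack _ _ _ _ hi, dif_pos hi, h8,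
      PermCert.get_pack _ _ _ _ (Fin.isLt _), dif_pos (Fin.isLt _), h8]
    try rfl
  one_eq := pack_congr' fun i hi => by rw [dif_pos hi]; rfl

theorem coded3 : Coded enc3 l3 mul3 273 where
  inj A B h := by
    refine Subtype.ext (Matrix.ext fun i j => ?_)
    have hi := i.2
    have hj := j.2
    have := congrArg (fun c => get 1 c (3 * (i : ℕ) + j)) h
    simp only [enc3, PermCert.get_pack _ _ _ _ (show 3 * (i : ℕ) + j < 9 by omega)] at this
    have ei : Fin.ofNat 3 ((3 * (i : ℕ) + j) / 3) = i := Fin.ext (by simp [Fin.ofNat] <;> omega)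
    have ej : Fin.ofNat 3 ((3 * (i : ℕ) + j) % 3) = j := Fin.ext (by simp [Fin.ofNat] <;> omega)
    rw [ei, ej, pow_one, Nat.mod_eq_of_lt (ZMod.val_lt _), Nat.mod_eq_of_lt (ZMod.val_lt _)] at this
    exact ZMod.val_injective 2 this
  mem A := List.contains_iff_mem.1 (mem3 A)
  mul A B := by
    refine pack_congr' fun k hk => ?_
    have g : ∀ (C : Matrix.SpecialLinearGroup (Fin 3) (ZMod 2)) (a b : ℕ) (ha : a < 3) (hb : b < 3),
        get 1 (enc3 C) (3 * a + b) = (C.1 ⟨a, ha⟩ ⟨b, hb⟩).val := by
      intro C a b ha hb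
      rw [enc3, PermCert.get_pack _ _ _ _ (show 3 * a + b < 9 by omega), pow_one,
        Nat.mod_eq_of_lt (ZMod.val_lt _), show Fin.ofNat 3 ((3 * a + b) / 3) = ⟨a, ha⟩ from
          Fin.ext (by simp [Fin.ofNat] <;> omega),
        show Fin.ofNat 3 ((3 * a + b) % 3) = ⟨b, hb⟩ from Fin.ext (by simp [Fin.ofNat] <;> omega)]
    have hq : k / 3 < 3 := by omega
    have hr : k % 3 < 3 := by omega
    have a0 := g A (k / 3) 0 hq (by norm_num)
    have b0 := g B 0 (k % 3) (by norm_num) hr
    rw [Nat.mul_zero, Nat.zero_add] at b0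
    rw [Nat.add_zero] at a0
    rw [a0, g A (k / 3) 1 hq (by norm_num), g A (k / 3) 2 hq (by norm_num), b0,
      show 3 + k % 3 = 3 * 1 + k % 3 from rfl, g B 1 _ (by norm_num) hr,
      show 6 + k % 3 = 3 * 2 + k % 3 from rfl, g B 2 _ (by norm_num) hr,
      show Fin.ofNat 3 (k / 3) = ⟨k / 3, hq⟩ from Fin.ext (by simp [Fin.ofNat] <;> omega),
      show Fin.ofNat 3 (k % 3) = ⟨k % 3, hr⟩ from Fin.ext (by simp [Fin.ofNat])]
    show ((A.1 * B.1) _ _).val = _
    rw [Matrix.mul_apply, Fin.sum_univ_three]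
    simp only [ZMod.val_add, ZMod.val_mul, Nat.add_mod, Nat.mul_mod, Nat.mod_mod]
    try rfl
  one_eq := by decide +kernel

theorem ok6 : ordersOK l6 (PermCert.comp 3 6) (PermCert.idCode 3 6) 181441 = true := by decide +kernel

theorem ok3 : ordersOK l3 mul3 273 277 = true := by decide +kernel

theorem t6_exists : ∃ T : ↥(alternatingGroup (Fin 6)), enc6 T = 181441 ∧ T * T = 1 ∧ T ≠ 1 := by decide +kernel

theorem t3_exists : ∃ T : Matrix.SpecialLinearGroup (Fin 3) (ZMod 2), enc3 T = 277 ∧ T * T = 1 ∧ T ≠ 1 := by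
  decide +kernel

end Cfsg.Agent.J3Uniq
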