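import Cfsg.Agent.Lib.J3Uniq.LocalBase

/-!
Local analysis of a group of third Janko type: the image of the centraliser of a four group is a point
stabiliser, and there is an involution outside the normal subgroup.
-/

set_option autoImplicit false
set_option linter.style.haveILetI false
set_option linter.unusedSectionVars false
set_option synthInstance.maxSize 4000
set_option synthInstance.maxHeartbeats 400000
set_option maxRecDepth 8000

namespace Cfsg.Agent.J3Uniq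

open Cfsg.Agent.HJ
open Cfsg.Agent.HJUniq (Base)

theorem pair_fix : ∀ p : A5, p * p = 1 → p ≠ 1 → ∀ q : A5, q * q = 1 → q ≠ 1 → p ≠ q → p * q = q * p →
    ∃ i, ap p i = i ∧ ap q i = i ∧ ∀ j, ap p j = j → ap q j = j → j = i := by decide +kernel

theorem pair_cent : ∀ p : A5, p * p = 1 → p ≠ 1 → ∀ q : A5, q * q = 1 → q ≠ 1 → p ≠ q → p * q = q * p →
    (Finset.univ.filter fun τ : A5 => τ * p = p * τ ∧ τ * q = q * τ).card = 4 ∧
      ∀ τ : A5, τ * p = p * τ → τ * q = q * τ → τ = 1 ∨ τ = p ∨ τ = q ∨ τ = p * q := by decide +kernel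

theorem stab_twelve : ∀ i : Fin 5, (Finset.univ.filter fun τ : A5 => ap τ i = i).card = 12 := by decide +kernel

universe u

variable {G : Type u} [Group G] [Finite G] [IsSimpleGroup G] {t : G} {Q : Subgroup G}
  {φ : ↥(Subgroup.centralizer ({t} : Set G)) →* A5} (B : Base t Q φ) {u g : G} (hu : Nci t Q u)
  (hg : g * t * g⁻¹ = u)
include B hu hg

/-- The conjugate of the normal subgroup, inside the centraliser. -/
def W2 (t : G) (Q : Subgroup G) (g : G) : Subgroup G :=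
  Q.comap (MulAut.conj g⁻¹).toMonoidHom ⊓ Subgroup.centralizer ({t} : Set G)

omit B hu hg in
theorem mem_W2 {y : G} : y ∈ W2 t Q g ↔ g⁻¹ * y * g ∈ Q ∧ y * t = t * y := by
  simp [W2, Subgroup.mem_inf, mem_cent]

theorem w2_comm_u {y : G} (hy : y ∈ W2 t Q g) : y * u = u * y := by
  have h := B.comm_t (mem_W2.1 hy).1
  rw [← hg]
  calc y * (g * t * g⁻¹) = g * (g⁻¹ * y * g * t) * g⁻¹ := by group
    _ = g * (t * (g⁻¹ * y * g)) * g⁻¹ := by rw [h]
    _ = _ := by group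

theorem card_W2 : Nat.card (W2 t Q g) = 16 := by
  obtain ⟨hwQ, -, hw1, hwne⟩ := w_nci B hu hg
  rw [← card_centB B hwQ hw1 hwne]
  exact Nat.card_congr
    { toFun := fun y => ⟨g⁻¹ * y.1 * g, (mem_W2.1 y.2).1, mem_cent.2 (by
        calc g⁻¹ * y.1 * g * (g⁻¹ * t * g) = g⁻¹ * (y.1 * t) * g := by group
          _ = g⁻¹ * (t * y.1) * g := by rw [(mem_W2.1 y.2).2]
          _ = _ := by group)⟩
      invFun := fun w => ⟨g * w.1 * g⁻¹, mem_W2.2 ⟨by
        have := w.2.1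
        rwa [show g⁻¹ * (g * w.1 * g⁻¹) * g = w.1 by group], by
        have h : w.1 * (g⁻¹ * t * g) = g⁻¹ * t * g * w.1 := mem_cent.1 w.2.2
        calc g * w.1 * g⁻¹ * t = g * (w.1 * (g⁻¹ * t * g)) * g⁻¹ := by group
          _ = g * (g⁻¹ * t * g * w.1) * g⁻¹ := by rw [h]
          _ = _ := by group⟩⟩
      left_inv := fun y => Subtype.ext (by group)
      right_inv := fun w => Subtype.ext (by group) }

theorem w2_four {y : G} (hy : y ∈ W2 t Q g) (hQ : y ∈ Q) : y = 1 ∨ y = t ∨ y = u ∨ y = u * t := by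
  obtain ⟨-, -, hw1, hwne⟩ := w_facts B hu hg
  refine four_of_comm B hu hQ (w2_comm_u B hu hg hy) ((B.sq y hQ).resolve_right fun e => ?_)
  have h := B.sq _ (mem_W2.1 hy).1
  rw [show g⁻¹ * y * g * (g⁻¹ * y * g) = g⁻¹ * (y * y) * g by group, e] at h
  exact h.elim hw1 hwne

/-- Two elements of the conjugate commute modulo the normal subgroup. -/
theorem w2_psi_comm {y z : G} (hy : y ∈ W2 t Q g) (hz : z ∈ W2 t Q g) :
    psi φ y * psi φ z = psi φ z * psi φ y := by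
  have hy' := mem_W2.1 hy
  have hz' := mem_W2.1 hz
  rw [← psiB_mul B hy'.2 hz'.2, ← psiB_mul B hz'.2 hy'.2]
  have hut := B.comm_t hu.1
  rcases B.comm _ hy'.1 _ hz'.1 with h | h
  · rw [show y * z = g * (g⁻¹ * y * g * (g⁻¹ * z * g)) * g⁻¹ by group, h]
    congr 1; group
  · rw [show y * z = z * y * u by
      rw [← hg]
      calc y * z = g * (g⁻¹ * y * g * (g⁻¹ * z * g)) * g⁻¹ := by group
        _ = g * (g⁻¹ * z * g * (g⁻¹ * y * g) * t) * g⁻¹ := by rw [h]
        _ = _ := by group]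
    rw [psiB_mul B (ct_mul hz'.2 hy'.2) hut, (psiB_eq_one B hut).2 hu.1, mul_one]

theorem w2_psi_sq {y : G} (hy : y ∈ W2 t Q g) : psi φ y * psi φ y = 1 := by
  have hy' := mem_W2.1 hy
  rw [← psiB_mul B hy'.2 hy'.2, psiB_eq_one B (ct_mul hy'.2 hy'.2)]
  have h : y * y = g * (g⁻¹ * y * g * (g⁻¹ * y * g)) * g⁻¹ := by group
  rw [h]
  rcases B.sq _ hy'.1 with e | e <;> rw [e]
  · simp
  · rw [hg]; exact hu.1

theorem w2_pair : ∃ w ∈ W2 t Q g, ∃ w' ∈ W2 t Q g, psi φ w ≠ 1 ∧ psi φ w' ≠ 1 ∧ psi φ w ≠ psi φ w' := by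
  classical
  obtain ⟨w, hw, hw1⟩ : ∃ w ∈ W2 t Q g, w ∉ Q := by
    by_contra h
    push Not at h
    have := Nat.card_le_card_of_injective (β := ({1, t, u, u * t} : Finset G))
      (fun y : W2 t Q g => ⟨y.1, by simpa using w2_four B hu hg y.2 (h y.1 y.2)⟩)
      fun a b e => Subtype.ext (congrArg Subtype.val e :)
    rw [card_W2 B hu hg, Nat.card_eq_finsetCard] at this
    exact absurd (this.trans Finset.card_le_four) (by norm_num)
  have hwt := (mem_W2.1 hw).2
  refine ⟨w, hw, ?_⟩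
  by_contra h
  push Not at h
  have hψw : psi φ w ≠ 1 := fun e => hw1 ((psiB_eq_one B hwt).1 e)
  have key : ∀ y ∈ W2 t Q g, y ∈ Q ∨ w⁻¹ * y ∈ Q := by
    intro y hy
    have hyt := (mem_W2.1 hy).2
    by_cases h1 : psi φ y = 1
    · exact Or.inl ((psiB_eq_one B hyt).1 h1)
    · right
      rw [← psiB_eq_one B (ct_mul (ct_inv hwt) hyt), psiB_mul B (ct_inv hwt) hyt, psiB_inv B hwt,
        ← h y hy hψw h1, inv_mul_cancel]
  have := Nat.card_le_card_of_injective (β := Bool × ({1, t, u, u * t} : Finset G))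
    (fun y : W2 t Q g => if h : y.1 ∈ Q then (true, ⟨y.1, by simpa using w2_four B hu hg y.2 h⟩)
      else (false, ⟨w⁻¹ * y.1, by
        simpa using w2_four B hu hg (mul_mem (inv_mem hw) y.2) ((key y.1 y.2).resolve_left h)⟩))
    (fun a b e => by
      dsimp only at e
      split_ifs at e <;> simp only [Prod.mk.injEq, Subtype.mk.injEq, true_and, false_and,
        Bool.false_eq_true, Bool.true_eq_false] at e
      · exact Subtype.ext e
      · exact Subtype.ext (mul_left_cancel e))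
  rw [card_W2 B hu hg, Nat.card_prod, Nat.card_eq_finsetCard, Nat.card_eq_fintype_card,
    Fintype.card_bool] at this
  have := Finset.card_le_four (a := (1 : G)) (b := t) (c := u) (d := u * t)
  omega

/-- The image of the centraliser of the four group is the stabiliser of a point. -/
theorem exists_point : ∃ i : Fin 5, ∀ τ : A5,
    (∃ h, h * t = t * h ∧ h * u = u * h ∧ psi φ h = τ) ↔ ap τ i = i := by
  classical
  obtain ⟨w, hw, w', hw', h1, h1', hne⟩ := w2_pair B hu hg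
  have hc := w2_psi_comm B hu hg hw hw'
  obtain ⟨i, hpi, hqi, huniq⟩ := pair_fix _ (w2_psi_sq B hu hg hw) h1 _ (w2_psi_sq B hu hg hw') h1' hne hc
  obtain ⟨h4, hlist⟩ := pair_cent _ (w2_psi_sq B hu hg hw) h1 _ (w2_psi_sq B hu hg hw') h1' hne hc
  have apm : ∀ a b : A5, ap (a * b) i = ap a (ap b i) := fun a b => rfl
  have apm' : ∀ (a b : A5) (j : Fin 5), ap (a * b) j = ap a (ap b j) := fun a b j => rfl
  have fixN : ∀ y ∈ W2 t Q g, ap (psi φ y) i = i := by
    intro y hy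
    refine huniq _ ?_ ?_
    · rw [← apm, w2_psi_comm B hu hg hw hy, apm, hpi]
    · rw [← apm, w2_psi_comm B hu hg hw' hy, apm, hqi]
  have hconj : ∀ h, h * t = t * h → h * u = u * h → ∀ y ∈ W2 t Q g, h⁻¹ * y * h ∈ W2 t Q g := by
    intro h ht hhu y hy
    refine mem_W2.2 ⟨?_, ?_⟩
    · have hc : g⁻¹ * h⁻¹ * g * t = t * (g⁻¹ * h⁻¹ * g) := by
        have e : h⁻¹ * u = u * h⁻¹ := Commute.inv_left hhu
        rw [← hg] at e
        calc g⁻¹ * h⁻¹ * g * t = g⁻¹ * (h⁻¹ * (g * t * g⁻¹)) * g := by group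
          _ = g⁻¹ * (g * t * g⁻¹ * h⁻¹) * g := by rw [e]
          _ = _ := by group
      have h' := B.conj_Q hc (mem_W2.1 hy).1
      rwa [show g⁻¹ * h⁻¹ * g * (g⁻¹ * y * g) * (g⁻¹ * h⁻¹ * g)⁻¹ = g⁻¹ * (h⁻¹ * y * h) * g by group] at h'
    · exact ct_mul (ct_mul (ct_inv ht) (mem_W2.1 hy).2) ht
  have hle : ∀ τ : A5, (∃ h, h * t = t * h ∧ h * u = u * h ∧ psi φ h = τ) → ap τ i = i := by
    rintro τ ⟨h, ht, hhu, rfl⟩
    have step : ∀ y ∈ W2 t Q g, ap (psi φ y) (ap (psi φ h) i) = ap (psi φ h) i := by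
      intro y hy
      have e := fixN _ (hconj h ht hhu y hy)
      rw [psiB_mul B (ct_mul (ct_inv ht) (mem_W2.1 hy).2) ht, psiB_mul B (ct_inv ht) (mem_W2.1 hy).2,
        psiB_inv B ht, apm, apm'] at e
      have e' := congrArg (ap (psi φ h)) e
      rw [← apm', mul_inv_cancel] at e'
      exact e'
    exact huniq _ (step w hw) (step w' hw')
  -- counting
  let Hs : Subgroup ↥(Subgroup.centralizer ({t} : Set G)) :=
    (Subgroup.centralizer ({u} : Set G)).subgroupOf _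
  let T : Subgroup A5 := Hs.map φ
  have hT : ∀ τ, τ ∈ T ↔ ∃ h, h * t = t * h ∧ h * u = u * h ∧ psi φ h = τ := by
    intro τ
    constructor
    · rintro ⟨⟨h, ht⟩, hh, rfl⟩
      exact ⟨h, mem_cent.1 ht, mem_cent.1 hh, by rw [psi, dif_pos ht]⟩
    · rintro ⟨h, ht, hh, rfl⟩
      exact ⟨⟨h, mem_cent.2 ht⟩, mem_cent.2 hh, by rw [psi, dif_pos (mem_cent.2 ht)]⟩
  let S : Subgroup A5 := (MulAction.stabilizer (Equiv.Perm (Fin 5)) i).subgroupOf _
  have hS : ∀ τ, τ ∈ S ↔ ap τ i = i := fun τ => Iff.rfl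
  have hTS : T ≤ S := fun τ hτ => (hS τ).2 (hle τ ((hT τ).1 hτ))
  have cS : Nat.card S = 12 := by
    rw [← stab_twelve i, ← Nat.card_eq_finsetCard]
    exact Nat.card_congr (Equiv.subtypeEquivRight fun τ => by simp [hS])
  have c4 : 4 ∣ Nat.card T := by
    let N : Subgroup A5 := Subgroup.centralizer ({psi φ w} : Set A5) ⊓ Subgroup.centralizer ({psi φ w'} : Set A5)
    have hN : Nat.card N = 4 := by
      rw [← h4, ← Nat.card_eq_finsetCard]
      exact Nat.card_congr (Equiv.subtypeEquivRight fun τ => by simp [N, Subgroup.mem_inf, mem_cent])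
    rw [← hN]
    refine Subgroup.card_dvd_of_le fun τ hτ => ?_
    have mw : psi φ w ∈ T := (hT _).2 ⟨w, (mem_W2.1 hw).2, w2_comm_u B hu hg hw, rfl⟩
    have mw' : psi φ w' ∈ T := (hT _).2 ⟨w', (mem_W2.1 hw').2, w2_comm_u B hu hg hw', rfl⟩
    rcases hlist τ (mem_cent.1 hτ.1) (mem_cent.1 hτ.2) with rfl | rfl | rfl | rfl
    exacts [T.one_mem, mw, mw', T.mul_mem mw mw']
  have cH : Nat.card ↥(Subgroup.centralizer ({t} : Set G) ⊓ Subgroup.centralizer ({u} : Set G)) =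
      16 * Nat.card T := by
    let f := φ.comp Hs.subtype
    have e1 : Nat.card f.ker = 16 := by
      rw [← card_centB B hu.1 hu.2.2.1 hu.2.2.2]
      exact Nat.card_congr
        { toFun := fun h => ⟨h.1.1.1, (B.ker h.1.1).1 h.2, h.1.2⟩
          invFun := fun x => ⟨⟨⟨x.1, B.le x.2.1⟩, x.2.2⟩, (B.ker ⟨x.1, B.le x.2.1⟩).2 x.2.1⟩
          left_inv := fun h => rfl
          right_inv := fun x => rfl }
    have e2 : f.range = T := by
      rw [MonoidHom.range_comp, Subgroup.range_subtype]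
    have e3 : Nat.card Hs = 16 * Nat.card T := by
      rw [← f.ker.card_mul_index, Subgroup.index_ker, e1, e2]
    rw [← e3]
    exact Nat.card_congr
      { toFun := fun x => ⟨⟨x.1, x.2.1⟩, x.2.2⟩
        invFun := fun h => ⟨h.1.1, h.1.2, h.2⟩
        left_inv := fun x => rfl
        right_inv := fun h => rfl }
  have horb := card_conj_orbit (Subgroup.centralizer ({t} : Set G)) u
  rw [B.card_H, cH] at horb
  have hlt := orbit_lt B hu hg
  have hd : Nat.card T ∣ 12 := cS ▸ Subgroup.card_dvd_of_le hTS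
  have hT12 : Nat.card T = 12 := by
    obtain ⟨k, hk⟩ := c4
    have hk3 : k ∣ 3 := Nat.dvd_of_mul_dvd_mul_left (by norm_num : 0 < 4) (hk ▸ hd : 4 * k ∣ 4 * 3)
    rcases (Nat.dvd_prime Nat.prime_three).1 hk3 with rfl | rfl
    · rw [hk] at horb; omega
    · exact hk
  have hTeq : T = S := Subgroup.eq_of_le_of_card_ge hTS (by rw [cS, hT12])
  exact ⟨i, fun τ => ⟨hle τ, fun h => (hT τ).1 (hTeq ▸ (hS τ).2 h)⟩⟩

/-- An involution of the centraliser outside the normal subgroup. -/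
theorem exists_outerB : ∃ a, a * t = t * a ∧ a * a = 1 ∧ a ∉ Q := by
  classical
  have hut := B.comm_t hu.1
  by_contra hno
  push Not at hno
  have hVc : ∀ v ∈ W2 t Q g, v ∈ Q → ∀ h, h * t = t * h → h * u = u * h → h * v = v * h := by
    intro v hv hvQ h ht hhu
    rcases w2_four B hu hg hv hvQ with rfl | rfl | rfl | rfl
    exacts [by simp, ht, hhu, (Commute.mul_right hhu ht).eq]
  have w1g : ∀ a, a ∈ Q → a * u = u * a → g⁻¹ * a * g * t = t * (g⁻¹ * a * g) := by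
    intro a ha hau
    rw [← hg] at hau
    calc g⁻¹ * a * g * t = g⁻¹ * (a * (g * t * g⁻¹)) * g := by group
      _ = g⁻¹ * (g * t * g⁻¹ * a) * g := by rw [hau]
      _ = _ := by group
  -- the commutator map
  have hc : ∀ a, a ∈ Q → a * u = u * a → ∀ y ∈ W2 t Q g,
      y * a * y⁻¹ * a⁻¹ ∈ W2 t Q g ∧ y * a * y⁻¹ * a⁻¹ ∈ Q := by
    intro a ha hau y hy
    have h1 : y * a * y⁻¹ * a⁻¹ ∈ Q := Q.mul_mem (B.conj_Q (mem_W2.1 hy).2 ha) (Q.inv_mem ha)
    refine ⟨mem_W2.2 ⟨?_, B.comm_t h1⟩, h1⟩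
    have := Q.mul_mem (mem_W2.1 hy).1 (B.conj_Q (w1g a ha hau) (Q.inv_mem (mem_W2.1 hy).1))
    rwa [show g⁻¹ * y * g * (g⁻¹ * a * g * (g⁻¹ * y * g)⁻¹ * (g⁻¹ * a * g)⁻¹) =
      g⁻¹ * (y * a * y⁻¹ * a⁻¹) * g by group] at this
  have hnotut : ∀ a, a ∈ Q → a * u = u * a → ∀ y ∈ W2 t Q g, y ∉ Q → y * a * y⁻¹ * a⁻¹ ≠ u * t := by
    intro a ha hau y hy hyQ e
    have ha2 : a * a = t := by
      refine (B.sq a ha).resolve_left fun h2 => ?_
      have hcy : y * a = a * y := by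
        rcases four_of_comm B hu ha hau h2 with rfl | rfl | rfl | rfl
        exacts [by simp, (mem_W2.1 hy).2, w2_comm_u B hu hg hy,
          (Commute.mul_right (w2_comm_u B hu hg hy) (mem_W2.1 hy).2).eq]
      rw [hcy, show a * y * y⁻¹ * a⁻¹ = 1 by group] at e
      exact hu.2.2.2 (by rw [← inv_of_sq B.tt]; exact eq_inv_of_mul_eq_one_left e.symm)
    have hy2 : y * y = 1 ∨ y * y = u := by
      rcases B.sq _ (mem_W2.1 hy).1 with h | h
      · left
        calc y * y = g * (g⁻¹ * y * g * (g⁻¹ * y * g)) * g⁻¹ := by group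
          _ = 1 := by rw [h]; group
      · right
        calc y * y = g * (g⁻¹ * y * g * (g⁻¹ * y * g)) * g⁻¹ := by group
          _ = u := by rw [h, hg]
    rcases hy2 with h | h
    · exact hyQ (hno y (mem_W2.1 hy).2 h)
    · have hay : a * y ∉ Q := fun h' => hyQ (by simpa using Q.mul_mem (Q.inv_mem ha) h')
      refine hay (hno _ (ct_mul (B.comm_t ha) (mem_W2.1 hy).2) ?_)
      have hza : u * t * a = a * (u * t) := (Commute.mul_right hau (B.comm_t ha)).eq.symm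
      calc a * y * (a * y) = a * (y * a * y⁻¹ * a⁻¹) * a * (y * y) := by group
        _ = a * (u * t) * a * u := by rw [e, h]
        _ = u * t * (a * a) * u := by rw [← hza]; group
        _ = u * (t * t) * u := by rw [ha2]; group
        _ = 1 := by rw [B.tt, mul_one, hu.2.1]
  have hmul : ∀ a b, a ∈ Q → a * u = u * a → b ∈ Q → b * u = u * b → ∀ y ∈ W2 t Q g,
      y * (a * b) * y⁻¹ * (a * b)⁻¹ = y * a * y⁻¹ * a⁻¹ * (y * b * y⁻¹ * b⁻¹) := by
    intro a b ha hau hb hbu y hy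
    obtain ⟨h1, h2⟩ := hc b hb hbu y hy
    have e := hVc _ h1 h2 a (B.comm_t ha) hau
    calc y * (a * b) * y⁻¹ * (a * b)⁻¹ = y * a * y⁻¹ * (y * b * y⁻¹ * b⁻¹) * a⁻¹ := by group
      _ = y * a * y⁻¹ * a⁻¹ * (a * (y * b * y⁻¹ * b⁻¹)) * a⁻¹ := by group
      _ = y * a * y⁻¹ * a⁻¹ * ((y * b * y⁻¹ * b⁻¹) * a) * a⁻¹ := by rw [e]
      _ = _ := by group
  have hall : ∀ a, a ∈ Q → a * u = u * a → ∀ y ∈ W2 t Q g,
      y * a * y⁻¹ * a⁻¹ = 1 ∨ y * a * y⁻¹ * a⁻¹ = u := by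
    intro a ha hau y hy
    by_cases hyQ : y ∈ Q
    · left
      rw [← hVc y hy hyQ a (B.comm_t ha) hau]
      group
    obtain ⟨b, hb, hbu, hmoved⟩ := exists_moved B hu.1 (mem_W2.1 hy).2 (w2_psi_sq B hu hg hy) hyQ
    obtain ⟨hb1, hb2⟩ := hc b hb hbu y hy
    have ebu : y * b * y⁻¹ * b⁻¹ = u := by
      rcases w2_four B hu hg hb1 hb2 with e | e | e | e
      · exact absurd (Or.inl (mul_inv_eq_one.1 e)) hmoved
      · exact absurd (Or.inr ((mul_inv_eq_iff_eq_mul.1 e).trans (B.comm_t hb).symm)) hmoved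
      · exact e
      · exact absurd e (hnotut b hb hbu y hy hyQ)
    obtain ⟨ha1, ha2⟩ := hc a ha hau y hy
    rcases w2_four B hu hg ha1 ha2 with e | e | e | e
    · exact Or.inl e
    · exfalso
      refine hnotut (b * a) (Q.mul_mem hb ha) (Commute.mul_left hbu hau).eq y hy hyQ ?_
      rw [hmul b a hb hbu ha hau y hy, ebu, e]
    · exact Or.inr e
    · exact absurd e (hnotut a ha hau y hy hyQ)
  obtain ⟨a, ⟨haQ, hau'⟩, haV⟩ : ∃ a ∈ Q ⊓ Subgroup.centralizer ({u} : Set G), g⁻¹ * a * g ∉ Q := by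
    by_contra h
    push Not at h
    have := Nat.card_le_card_of_injective (β := ({1, t, u, u * t} : Finset G))
      (fun y : ↥(Q ⊓ Subgroup.centralizer ({u} : Set G)) => ⟨y.1, by
        simpa using w2_four B hu hg (mem_W2.2 ⟨h y.1 y.2, B.comm_t y.2.1⟩) y.2.1⟩)
      fun a b e => Subtype.ext (congrArg Subtype.val e :)
    rw [card_centB B hu.1 hu.2.2.1 hu.2.2.2, Nat.card_eq_finsetCard] at this
    exact absurd (this.trans Finset.card_le_four) (by norm_num)
  have hau := mem_cent.1 hau'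
  have hht := w1g a haQ hau
  obtain ⟨w, hwQ, hwc, hmoved⟩ := exists_moved B (w_mem B hu hg) hht (by
    rw [← psiB_mul B hht hht, psiB_eq_one B (ct_mul hht hht),
      show g⁻¹ * a * g * (g⁻¹ * a * g) = g⁻¹ * (a * a) * g by group]
    rcases B.sq a haQ with e | e <;> rw [e]
    · simp
    · exact w_mem B hu hg) haV
  have hy : g * w * g⁻¹ ∈ W2 t Q g := mem_W2.2 ⟨by
    rwa [show g⁻¹ * (g * w * g⁻¹) * g = w by group], by
    calc g * w * g⁻¹ * t = g * (w * (g⁻¹ * t * g)) * g⁻¹ := by group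
      _ = g * (g⁻¹ * t * g * w) * g⁻¹ := by rw [hwc]
      _ = _ := by group⟩
  apply hmoved
  rcases hall a haQ hau _ hy with e | e
  · left
    have e' : g * w * g⁻¹ * a = a * (g * w * g⁻¹) := by
      exact mul_inv_eq_iff_eq_mul.1 (mul_inv_eq_one.1 e)
    calc g⁻¹ * a * g * w * (g⁻¹ * a * g)⁻¹ = g⁻¹ * (a * (g * w * g⁻¹)) * a⁻¹ * g := by group
      _ = g⁻¹ * (g * w * g⁻¹ * a) * a⁻¹ * g := by rw [e']
      _ = w := by group
  · right
    have e' : a * (g * w * g⁻¹) = u * (g * w * g⁻¹) * a := by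
      have e1 : g * w * g⁻¹ * a = u * (a * (g * w * g⁻¹)) := by
        calc g * w * g⁻¹ * a = (g * w * g⁻¹ * a * (g * w * g⁻¹)⁻¹ * a⁻¹) * (a * (g * w * g⁻¹)) := by group
          _ = _ := by rw [e]
      calc a * (g * w * g⁻¹) = u * u * (a * (g * w * g⁻¹)) := by rw [hu.2.1, one_mul]
        _ = u * (g * w * g⁻¹ * a) := by rw [e1]; group
        _ = _ := by group
    have ug : g⁻¹ * u * g = t := by rw [← hg]; group
    calc g⁻¹ * a * g * w * (g⁻¹ * a * g)⁻¹ = g⁻¹ * (a * (g * w * g⁻¹)) * a⁻¹ * g := by group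
      _ = g⁻¹ * (u * (g * w * g⁻¹) * a) * a⁻¹ * g := by rw [e']
      _ = g⁻¹ * u * g * w := by group
      _ = w * t := by rw [ug, B.comm_t hwQ]

end Cfsg.Agent.J3Uniq
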