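import Cfsg.Agent.Lib.J3Uniq.LocalCodes
import Cfsg.Agent.Lib.HJUniq.Transfer

/-!
The numbers below `1920` with the multiplication of the model are the permutation model of the
centraliser of an involution.
-/

set_option autoImplicit false
set_option maxRecDepth 20000

namespace Cfsg.Agent.J3Uniq

open Cfsg.Agent.PermCert
open Cfsg.Agent.CosetCert (wprod wprod_cons wprod_nil wprod_append)
open Cfsg.Agent.HJUniq (permOf codesA MH validA rep_wcode wcode validCodes valid_getD)

/-- The permutation of an element of the normal subgroup. -/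
abbrev Pq (q : ℕ) : Equiv.Perm (Fin 100) := permOf qC q

/-- The permutation of an element of the complement. -/
abbrev Ph (h : ℕ) : Equiv.Perm (Fin 100) := permOf hC h

theorem validQ : validCodes qC = true := by decide +kernel
theorem validH : validCodes hC = true := by decide +kernel

/-- The products of two coded permutations agree. -/
def samePair (a b c d : Elt) : Bool :=
  allBelow (fun i => Nat.beq (get 7 a.1 (get 7 b.1 i)) (get 7 c.1 (get 7 d.1 i))) 100

theorem eq_of_samePair {a b c d : Elt} (va : validElt 7 100 a = true) (vb : validElt 7 100 b = true)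
    (vc : validElt 7 100 c = true) (vd : validElt 7 100 d = true) (h : samePair a b c d = true) :
    toPerm 7 100 a * toPerm 7 100 b = toPerm 7 100 c * toPerm 7 100 d := by
  ext i
  have e := Nat.eq_of_beq_eq_true (allBelow_spec _ _ h i i.2)
  rw [(rep_toPerm vb i).1, (rep_toPerm va _).1, (rep_toPerm vd i).1, (rep_toPerm vc _).1] at e
  exact e

theorem one_valid : validElt 7 100 (one 7 100) = true := by decide +kernel

theorem toPerm_one : toPerm 7 100 (one 7 100) = 1 :=
  rep_unique (rep_toPerm one_valid) (rep_one (by norm_num))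

/-- The code with number `x`. -/
def gq (x : ℕ) : Elt := qC.getD x (one 7 100)

/-- The code with number `x`. -/
def gh (x : ℕ) : Elt := hC.getD x (one 7 100)

theorem qTab_check : (allBelow (fun a => allBelow (fun b => Nat.blt (byte qTab (32 * a + b)) 32 &&
    samePair (gq a) (gq b) (gq (byte qTab (32 * a + b))) (one 7 100)) 32) 32) = true := by decide +kernel

theorem hTab_check : (allBelow (fun a => allBelow (fun b => Nat.blt (byte hTab (60 * a + b)) 60 &&
    samePair (gh a) (gh b) (gh (byte hTab (60 * a + b))) (one 7 100)) 60) 60) = true := by decide +kernel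

theorem aTab_check : (allBelow (fun a => allBelow (fun b => Nat.blt (byte aTab (32 * a + b)) 32 &&
    samePair (gh a) (gq b) (gq (byte aTab (32 * a + b))) (gh a)) 32) 60) = true := by decide +kernel

theorem qTab_spec {a b : ℕ} (ha : a < 32) (hb : b < 32) :
    byte qTab (32 * a + b) < 32 ∧ Pq a * Pq b = Pq (byte qTab (32 * a + b)) := by
  have e := allBelow_spec _ _ (allBelow_spec _ _ qTab_check a ha) b hb
  simp only [Bool.and_eq_true, Nat.blt_eq] at e
  refine ⟨e.1, ?_⟩
  have := eq_of_samePair (valid_getD validQ a) (valid_getD validQ b) (valid_getD validQ _) one_valid e.2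
  rwa [toPerm_one, mul_one] at this

theorem hTab_spec {a b : ℕ} (ha : a < 60) (hb : b < 60) :
    byte hTab (60 * a + b) < 60 ∧ Ph a * Ph b = Ph (byte hTab (60 * a + b)) := by
  have e := allBelow_spec _ _ (allBelow_spec _ _ hTab_check a ha) b hb
  simp only [Bool.and_eq_true, Nat.blt_eq] at e
  refine ⟨e.1, ?_⟩
  have := eq_of_samePair (valid_getD validH a) (valid_getD validH b) (valid_getD validH _) one_valid e.2
  rwa [toPerm_one, mul_one] at this

theorem aTab_spec {a b : ℕ} (ha : a < 60) (hb : b < 32) :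
    byte aTab (32 * a + b) < 32 ∧ Ph a * Pq b = Pq (byte aTab (32 * a + b)) * Ph a := by
  have e := allBelow_spec _ _ (allBelow_spec _ _ aTab_check a ha) b hb
  simp only [Bool.and_eq_true, Nat.blt_eq] at e
  exact ⟨e.1, eq_of_samePair (valid_getD validH a) (valid_getD validQ b) (valid_getD validQ _)
    (valid_getD validH a) e.2⟩

/-- The permutation of a number. -/
def perm (a : ℕ) : Equiv.Perm (Fin 100) := Pq (a / 60) * Ph (a % 60)

theorem mulC_facts {a b : ℕ} (ha : a < 1920) (hb : b < 1920) :
    mulC a b < 1920 ∧ perm (mulC a b) = perm a * perm b := by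
  have hq1 : a / 60 < 32 := by omega
  have hq2 : b / 60 < 32 := by omega
  have hh1 : a % 60 < 60 := Nat.mod_lt _ (by norm_num)
  have hh2 : b % 60 < 60 := Nat.mod_lt _ (by norm_num)
  obtain ⟨hA, eA⟩ := aTab_spec hh1 hq2
  obtain ⟨hQ, eQ⟩ := qTab_spec hq1 hA
  obtain ⟨hH, eH⟩ := hTab_spec hh1 hh2
  refine ⟨by rw [mulC]; omega, ?_⟩
  rw [perm, perm, perm]
  rw [show mulC a b / 60 = byte qTab (32 * (a / 60) + byte aTab (32 * (a % 60) + b / 60)) by
      rw [mulC]; omega,
    show mulC a b % 60 = byte hTab (60 * (a % 60) + b % 60) by rw [mulC]; omega, ← eQ, ← eH]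
  calc Pq (a / 60) * Pq (byte aTab (32 * (a % 60) + b / 60)) * (Ph (a % 60) * Ph (b % 60))
      = Pq (a / 60) * (Pq (byte aTab (32 * (a % 60) + b / 60)) * Ph (a % 60)) * Ph (b % 60) := by group
    _ = Pq (a / 60) * (Ph (a % 60) * Pq (b / 60)) * Ph (b % 60) := by rw [eA]
    _ = _ := by group

theorem word_check : ((List.range 32).all fun q => (qW.getD q []).all (fun x => Nat.blt x 4) &&
      allBelow (fun i => Nat.beq (get 7 (gq q).1 i) (get 7 (wcode codesA (qW.getD q [])).1 i)) 100) = true ∧
    ((List.range 60).all fun h => (hW.getD h []).all (fun x => Nat.blt x 4) &&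
      allBelow (fun i => Nat.beq (get 7 (gh h).1 i) (get 7 (wcode codesA (hW.getD h [])).1 i)) 100) = true := by
  constructor <;> decide +kernel

theorem pq_word {q : ℕ} (hq : q < 32) : (qW.getD q []).all (fun x => Nat.blt x 4) = true ∧
    Pq q = wprod (permOf codesA) (qW.getD q []) := by
  have e := List.all_eq_true.1 word_check.1 q (List.mem_range.2 hq)
  rw [Bool.and_eq_true] at e
  refine ⟨e.1, ?_⟩
  ext i
  show ((toPerm 7 100 (qC.getD q (one 7 100)) i : Fin 100) : ℕ) = _
  rw [← (rep_toPerm (valid_getD validQ q) i).1, ← (rep_wcode validA _ i).1]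
  exact Nat.eq_of_beq_eq_true (allBelow_spec _ _ e.2 i i.2)

theorem ph_word {h : ℕ} (hh : h < 60) : (hW.getD h []).all (fun x => Nat.blt x 4) = true ∧
    Ph h = wprod (permOf codesA) (hW.getD h []) := by
  have e := List.all_eq_true.1 word_check.2 h (List.mem_range.2 hh)
  rw [Bool.and_eq_true] at e
  refine ⟨e.1, ?_⟩
  ext i
  show ((toPerm 7 100 (hC.getD h (one 7 100)) i : Fin 100) : ℕ) = _
  rw [← (rep_toPerm (valid_getD validH h) i).1, ← (rep_wcode validA _ i).1]
  exact Nat.eq_of_beq_eq_true (allBelow_spec _ _ e.2 i i.2)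

/-- The word of a number. -/
def word (a : ℕ) : List ℕ := qW.getD (a / 60) [] ++ hW.getD (a % 60) []

theorem word_facts {a : ℕ} (ha : a < 1920) : (word a).all (fun x => Nat.blt x 4) = true ∧
    perm a = wprod (permOf codesA) (word a) := by
  obtain ⟨h1, e1⟩ := pq_word (show a / 60 < 32 by omega)
  obtain ⟨h2, e2⟩ := ph_word (Nat.mod_lt a (show 0 < 60 by norm_num))
  exact ⟨by rw [word, List.all_append, h1, h2]; rfl, by rw [perm, word, wprod_append, e1, e2]⟩

theorem perm_mem {a : ℕ} (ha : a < 1920) : perm a ∈ MH :=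
  (word_facts ha).2 ▸ HJUniq.wprod_mem_MH (word_facts ha).1

theorem gen_check : ((List.range 4).all fun x => Nat.blt (genI.getD x 0) 1920 &&
    samePair (gq (genI.getD x 0 / 60)) (gh (genI.getD x 0 % 60)) (codesA.getD x (one 7 100)) (one 7 100)) = true ∧
    samePair (gq 0) (gh 0) (one 7 100) (one 7 100) = true := by
  constructor <;> decide +kernel

theorem perm_zero : perm 0 = 1 := by
  have := eq_of_samePair (valid_getD validQ 0) (valid_getD validH 0) one_valid one_valid gen_check.2
  rwa [toPerm_one, mul_one] at this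

theorem perm_gen {x : ℕ} (hx : x < 4) : genI.getD x 0 < 1920 ∧ perm (genI.getD x 0) = permOf codesA x := by
  have e := List.all_eq_true.1 gen_check.1 x (List.mem_range.2 hx)
  simp only [Bool.and_eq_true, Nat.blt_eq] at e
  refine ⟨e.1, ?_⟩
  have := eq_of_samePair (valid_getD validQ _) (valid_getD validH _) (valid_getD validA x) one_valid e.2
  rwa [toPerm_one, mul_one] at this

theorem perm_surj {g : Equiv.Perm (Fin 100)} (hg : g ∈ MH) : ∃ a, a < 1920 ∧ perm a = g := by
  have step : ∀ (g : Equiv.Perm (Fin 100)) (x : ℕ), x < 4 → (∃ a, a < 1920 ∧ perm a = g) →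
      ∃ a, a < 1920 ∧ perm a = g * permOf codesA x := by
    rintro g x hx ⟨a, ha, rfl⟩
    obtain ⟨hg, eg⟩ := perm_gen hx
    exact ⟨_, (mulC_facts ha hg).1, by rw [(mulC_facts ha hg).2, eg]⟩
  induction hg using Subgroup.closure_induction_right with
  | one => exact ⟨0, by norm_num, perm_zero⟩
  | mul_right y z _ hz ih =>
    obtain ⟨x, hx, rfl⟩ := hz
    exact step y x hx ih
  | mul_inv_cancel y z _ hz ih =>
    obtain ⟨x, hx, rfl⟩ := hz
    rw [inv_eq_of_mul_eq_one_right (HJUniq.involA x)]
    exact step y x hx ih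

theorem perm_inj {a b : ℕ} (ha : a < 1920) (hb : b < 1920) (h : perm a = perm b) : a = b := by
  have hs : Function.Surjective fun i : Fin 1920 => (⟨perm i, perm_mem i.2⟩ : MH) := by
    rintro ⟨g, hg⟩
    obtain ⟨a, ha, e⟩ := perm_surj hg
    exact ⟨⟨a, ha⟩, Subtype.ext e⟩
  haveI : Finite MH := Finite.of_surjective _ hs
  have hb' := (Nat.bijective_iff_surjective_and_card _).2 ⟨hs, by rw [Nat.card_fin, HJUniq.card_MH]⟩
  exact congrArg Fin.val (hb'.1 (a₁ := ⟨a, ha⟩) (a₂ := ⟨b, hb⟩) (Subtype.ext h))

end Cfsg.Agent.J3Uniq
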