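import Cfsg.Agent.Lib.J3Uniq.LocalCompl
import Cfsg.Agent.Lib.J3Uniq.LocalTable

/-!
Local analysis of a group of third Janko type: the centraliser of the involution is the model on the
numbers below `1920`.
-/

set_option autoImplicit false
set_option linter.style.haveILetI false
set_option linter.unusedSectionVars false
set_option synthInstance.maxSize 4000
set_option synthInstance.maxHeartbeats 400000
set_option maxRecDepth 20000

namespace Cfsg.Agent.J3Uniq

open Cfsg.Agent.HJ
open Cfsg.Agent.HJUniq (Base rho)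
open Cfsg.Agent.CosetCert (wprod wprod_cons wprod_nil wprod_append)

theorem rho_check : ((List.range 32).all fun q => decide (wprod rho (qW.getD q []) = 1)) = true ∧
    ((List.range 60).all fun h => decide (h = 0) || decide (wprod rho (hW.getD h []) ≠ 1)) = true ∧
    wprod rho (hW.getD 0 []) = 1 := by
  refine ⟨?_, ?_, ?_⟩ <;> decide +kernel

theorem center_check : (List.range 4).all (fun x => mulC tI (genI.getD x 0) == mulC (genI.getD x 0) tI) = true ∧
    mulC 0 0 = 0 ∧ tI % 60 = 0 := by decide +kernel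

/-- The centraliser of the involution as the model. -/
structure Mdl {G : Type*} [Group G] (t : G) (Q : Subgroup G) (emb : ℕ → G) : Prop where
  hom : ∀ a b, a < 1920 → b < 1920 → emb (mulC a b) = emb a * emb b
  inj : ∀ a b, a < 1920 → b < 1920 → emb a = emb b → a = b
  cent : ∀ h : G, h * t = t * h → ∃ a, a < 1920 ∧ emb a = h
  ct : ∀ a, a < 1920 → emb a * t = t * emb a
  t_eq : emb tI = t
  one : emb 0 = 1
  inQ : ∀ a, a < 1920 → (emb a ∈ Q ↔ a % 60 = 0)

universe u

variable {G : Type u} [Group G] [Finite G] [IsSimpleGroup G] {t : G} {Q : Subgroup G}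
  {φ : ↥(Subgroup.centralizer ({t} : Set G)) →* A5} {u g : G} {ι : A5 →* G}

theorem fgen_split (B : Base t Q φ) (C : Cmp t Q u g ι) :
    ∀ w : List ℕ, (w.all fun x => Nat.blt x 4) = true → (ι (wprod rho w))⁻¹ * wprod (fgen ι u) w ∈ Q := by
  intro w
  induction w with
  | nil => intro _; simp [wprod_nil]
  | cons x w ih =>
    intro hw
    rw [List.all_cons, Bool.and_eq_true, Nat.blt_eq] at hw
    obtain ⟨hx, hw⟩ := hw
    have h1 : (ι (rho x))⁻¹ * fgen ι u x ∈ Q := by
      interval_cases x
      · show (ι HJUniq.s0)⁻¹ * ι HJUniq.s0 ∈ Q; simp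
      · show (ι HJUniq.p0)⁻¹ * ι HJUniq.p0 ∈ Q; simp
      · show (ι HJUniq.r0)⁻¹ * ι HJUniq.r0 ∈ Q; simp
      · show (ι 1)⁻¹ * u ∈ Q; simpa using C.nci.1
    have := Q.mul_mem (B.conj_Q (ct_inv (C.ct (wprod rho w))) h1) (ih hw)
    rw [wprod_cons, wprod_cons, map_mul]
    rwa [inv_inv, show (ι (wprod rho w))⁻¹ * ((ι (rho x))⁻¹ * fgen ι u x) * ι (wprod rho w) *
      ((ι (wprod rho w))⁻¹ * wprod (fgen ι u) w) =
      (ι (rho x) * ι (wprod rho w))⁻¹ * (fgen ι u x * wprod (fgen ι u) w) by group] at this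

theorem exists_model (B : Base t Q φ) (C : Cmp t Q u g ι) : ∃ emb : ℕ → G, Mdl t Q emb := by
  classical
  obtain ⟨ψ, hinj, hR, hgen⟩ := exists_iso B C
  let emb : ℕ → G := fun a => if h : a < 1920 then ψ ⟨perm a, perm_mem h⟩ else 1
  have he : ∀ a (h : a < 1920), emb a = ψ ⟨perm a, perm_mem h⟩ := fun a h => dif_pos h
  have hom : ∀ a b, a < 1920 → b < 1920 → emb (mulC a b) = emb a * emb b := by
    intro a b ha hb
    rw [he _ (mulC_facts ha hb).1, he a ha, he b hb, ← map_mul]
    exact congrArg ψ (Subtype.ext (mulC_facts ha hb).2)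
  have inj : ∀ a b, a < 1920 → b < 1920 → emb a = emb b → a = b := fun a b ha hb e =>
    perm_inj ha hb (congrArg Subtype.val (hinj ((he a ha).symm.trans (e.trans (he b hb)))))
  have one : emb 0 = 1 := by
    rw [he 0 (by norm_num)]
    exact (congrArg ψ (Subtype.ext perm_zero)).trans (map_one ψ)
  have cent : ∀ h : G, h * t = t * h → ∃ a, a < 1920 ∧ emb a = h := by
    intro h hh
    obtain ⟨⟨m, hm⟩, rfl⟩ := (hR h).1 hh
    obtain ⟨a, ha, e⟩ := perm_surj hm
    exact ⟨a, ha, by rw [he a ha]; exact congrArg ψ (Subtype.ext e)⟩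
  have ct : ∀ a, a < 1920 → emb a * t = t * emb a := fun a ha => (hR _).2 (he a ha ▸ ⟨_, rfl⟩)
  have hword : ∀ a, a < 1920 → emb a = wprod (fgen ι u) (word a) := by
    intro a ha
    rw [he a ha, ← HJUniq.hom_wprod hgen (word_facts ha).1]
    exact congrArg ψ (Subtype.ext (word_facts ha).2)
  have inQ : ∀ a, a < 1920 → (emb a ∈ Q ↔ a % 60 = 0) := by
    intro a ha
    have hrho : wprod rho (word a) = wprod rho (hW.getD (a % 60) []) := by
      rw [word, wprod_append, of_decide_eq_true (List.all_eq_true.1 rho_check.1 _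
        (List.mem_range.2 (show a / 60 < 32 by omega))), one_mul]
    have h := fgen_split B C _ (word_facts ha).1
    rw [← hword a ha, hrho] at h
    constructor
    · intro hQ
      have hι := Q.mul_mem hQ (Q.inv_mem h)
      rw [mul_inv_rev, inv_inv, mul_inv_cancel_left] at hι
      by_contra hne
      have e := List.all_eq_true.1 rho_check.2.1 _ (List.mem_range.2 (Nat.mod_lt a (show 0 < 60 by norm_num)))
      simp only [Bool.or_eq_true, decide_eq_true_eq] at e
      exact e.resolve_left hne (C.inQ _ hι)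
    · intro h0
      rwa [h0, rho_check.2.2, map_one, inv_one, one_mul] at h
  have t_eq : emb tI = t := by
    have ht : tI < 1920 := by decide
    have hQ := (inQ tI ht).2 center_check.2.2
    have hgens : ∀ x, x < 4 → emb tI * fgen ι u x = fgen ι u x * emb tI := by
      intro x hx
      obtain ⟨hg, eg⟩ := perm_gen hx
      have e : emb (genI.getD x 0) = fgen ι u x := by
        rw [he _ hg, ← hgen x hx (Subgroup.subset_closure ⟨x, hx, rfl⟩)]
        exact congrArg ψ (Subtype.ext eg)
      have hc := List.all_eq_true.1 center_check.1 x (List.mem_range.2 hx)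
      rw [beq_iff_eq] at hc
      rw [← e, ← hom _ _ ht hg, hc, hom _ _ hg ht]
    refine (B.center _ hQ fun y hy => ?_).resolve_left fun e => ?_
    · obtain ⟨a, ha, rfl⟩ := cent y (B.comm_t hy)
      have : emb a ∈ Subgroup.centralizer ({emb tI} : Set G) := by
        rw [hword a ha]
        exact HJUniq.mem_of_word (fun x hx => mem_cent.2 (hgens x hx).symm) (word_facts ha).1
      exact (mem_cent.1 this).symm
    · exact absurd (inj tI 0 ht (by norm_num) (e.trans one.symm)) (by decide)
  exact ⟨emb, hom, inj, cent, ct, t_eq, one, inQ⟩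

end Cfsg.Agent.J3Uniq
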