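import Cfsg.Agent.Lib.J3Uniq.LocalAmal
import Cfsg.Agent.Lib.J3Uniq.LocalFinite
import Cfsg.Agent.Lib.HJ.Three
import Cfsg.Agent.Lib.Involutions.Dihedral

/-!
Local analysis of a group of third Janko type: the central quotient of the centraliser of the element of
order three, and the orders of two products in it.
-/

set_option autoImplicit false
set_option linter.style.haveILetI false
set_option linter.unusedSectionVars false
set_option synthInstance.maxSize 4000
set_option synthInstance.maxHeartbeats 400000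
set_option maxRecDepth 20000

namespace Cfsg.Agent.J3Uniq

open Cfsg.Agent.HJ
open Cfsg.Agent.HJUniq (Base)

theorem target_check : mulC aI aI = 0 ∧ mulC (mulC aI xI) aI = mulC xI xI ∧ mulC aI tI = mulC tI aI ∧
    mulC (mulC aI uI) aI = vI ∧ mulC (mulC uI vI) (mulC uI vI) = tI ∧ mulC xI tI = mulC tI xI := by
  decide +kernel

theorem pairs_check : (cvList.zip alList).contains (xI, xI) = true ∧
    (cvList.zip alList).contains (tI, uI) = true ∧ (cvList.zip alList).contains (uI, mulC uI tI) = true := by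
  refine ⟨?_, ?_, ?_⟩ <;> decide +kernel

theorem invol_check : (List.range 1920).all (fun a => mulC a xI != mulC xI a || a == 0 || mulC a a != 0 ||
    [tI, uI, mulC uI tI, vI, mulC vI tI].contains a &&
      (mulC a uI != mulC uI a || mulC a vI != mulC vI a || a == tI)) = true := by decide +kernel

theorem cx_check : ((Finset.range 1920).filter fun a => mulC a xI = mulC xI a).card = 24 := by decide +kernel

universe u

variable {G : Type u} [Group G] [Finite G] [IsSimpleGroup G] {t : G} {Q : Subgroup G}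
  {φ : ↥(Subgroup.centralizer ({t} : Set G)) →* A5} {emb : ℕ → G} {r : G}

/-- The relations around the element of order three. -/
structure Rels (t X U V a r R : G) : Prop where
  xx : X * X * X = 1
  x1 : X ≠ 1
  xt : X * t = t * X
  xu : X * U = U * X
  xv : X * V = V * X
  xr : r * X = X * r
  xR : R * X = X * R
  uu : U * U = 1
  u1 : U ≠ 1
  ut : U * t = t * U
  une : U ≠ t
  utne : U * t ≠ 1
  vv : V * V = 1
  v1 : V ≠ 1
  vt : V * t = t * V
  vne : U ≠ V
  uv : U * V * (U * V) = t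
  rt : r * t = U * r
  ru : r * U = U * t * r
  r3 : r ^ 3 = 1
  vr : (V * r) ^ 2 = 1
  Rt : R * t = V * R
  RV : R * V = V * t * R
  R3 : R ^ 3 = 1
  uR : (U * R) ^ 2 = 1
  aa : a * a = 1
  ax : a * X * a = X * X
  aR : R = a * r * a

theorem rels_of (M : Mdl t Q emb) (A : Amal emb r) :
    Rels t (emb xI) (emb uI) (emb vI) (emb aI) r (rTwo emb r) := by
  obtain ⟨s1, s2, s3, s4, s5, s6, s7, s8, s9⟩ := small_check
  obtain ⟨a1, a2, a3, a4, a5, a6⟩ := target_check
  have hv : vI < 1920 := by decide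
  have hx : xI < 1920 := by decide
  have hU : uI < 1920 := by decide
  have ht : tI < 1920 := by decide
  have ha : aI < 1920 := by decide
  have ne : ∀ i j, i < 1920 → j < 1920 → i ≠ j → emb i ≠ emb j := fun i j hi hj h e => h (M.inj i j hi hj e)
  have xx : emb xI * emb xI * emb xI = 1 := by rw [← M.mul3 hx hx hx, s7, M.one]
  have aa : emb aI * emb aI = 1 := by rw [← M.hom _ _ ha ha, a1, M.one]
  have ax : emb aI * emb xI * emb aI = emb xI * emb xI := by rw [← M.mul3 ha hx ha, a2, M.hom _ _ hx hx]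
  have at' : emb aI * t = t * emb aI := M.ct aI ha
  have au : emb aI * emb uI * emb aI = emb vI := by rw [← M.mul3 ha hU ha, a4]
  have av : emb aI * emb vI * emb aI = emb uI := by
    rw [← au]
    calc emb aI * (emb aI * emb uI * emb aI) * emb aI = emb aI * emb aI * emb uI * (emb aI * emb aI) := by group
      _ = emb uI := by rw [aa, one_mul, mul_one]
  have xr : r * emb xI = emb xI * r := A.conj _ (List.contains_iff_mem.1 pairs_check.1)
  have rt : r * t = emb uI * r := by
    have := A.conj _ (List.contains_iff_mem.1 pairs_check.2.1); rwa [M.t_eq] at this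
  have ru : r * emb uI = emb uI * t * r := by
    have := A.conj _ (List.contains_iff_mem.1 pairs_check.2.2); rwa [M.hom _ _ hU ht, M.t_eq] at this
  have r3 : r ^ 3 = 1 := by rw [pow_three']; exact A.cube
  have vr : (emb vI * r) ^ 2 = 1 := by rw [pow_two]; exact A.inv
  have cj : ∀ y z : G, emb aI * y * emb aI * (emb aI * z * emb aI) = emb aI * (y * z) * emb aI := by
    intro y z
    calc emb aI * y * emb aI * (emb aI * z * emb aI) = emb aI * y * (emb aI * emb aI) * z * emb aI := by group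
      _ = emb aI * (y * z) * emb aI := by rw [aa]; group
  have cj1 : ∀ y : G, emb aI * (emb aI * y * emb aI) * emb aI = y := by
    intro y
    calc emb aI * (emb aI * y * emb aI) * emb aI = emb aI * emb aI * y * (emb aI * emb aI) := by group
      _ = y := by rw [aa, one_mul, mul_one]
  have atc : emb aI * t * emb aI = t := by rw [at', mul_assoc, aa, mul_one]
  refine
    { xx := xx, x1 := fun e => ne xI 0 hx (by norm_num) (by decide) (e.trans M.one.symm),
      xt := M.ct xI hx, xu := M.comm hx hU s8, xv := M.comm hx hv s2.symm, xr := xr, xR := ?_,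
      uu := by rw [← M.hom _ _ hU hU, s6, M.one],
      u1 := fun e => ne uI 0 hU (by norm_num) (by decide) (e.trans M.one.symm),
      ut := M.ct uI hU, une := fun e => ne uI tI hU ht (by decide) (e.trans M.t_eq.symm),
      utne := fun e => ne (mulC uI tI) 0 (M.lt_mul hU ht) (by norm_num) (by decide +kernel)
        (by rw [M.hom _ _ hU ht, M.t_eq, e, M.one]),
      vv := by rw [← M.hom _ _ hv hv, s1, M.one],
      v1 := fun e => ne vI 0 hv (by norm_num) (by decide) (e.trans M.one.symm),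
      vt := M.ct vI hv, vne := ne uI vI hU hv (by decide),
      uv := by rw [← M.hom _ _ hU hv, ← M.hom _ _ (M.lt_mul hU hv) (M.lt_mul hU hv), a5, M.t_eq],
      rt := rt, ru := ru, r3 := r3, vr := vr, Rt := ?_, RV := ?_, R3 := ?_, uR := ?_,
      aa := aa, ax := ax, aR := rfl }
  · show rTwo emb r * emb xI = emb xI * rTwo emb r
    rw [rTwo]
    conv_lhs => rw [← cj1 (emb xI), ax, cj]
    conv_rhs => rw [← cj1 (emb xI), ax, cj]
    rw [(Commute.mul_right (show Commute r (emb xI) from xr) xr).eq]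
  · show rTwo emb r * t = emb vI * rTwo emb r
    rw [rTwo]
    conv_lhs => rw [← atc, cj, rt]
    rw [← cj, au]
  · show rTwo emb r * emb vI = emb vI * t * rTwo emb r
    rw [rTwo]
    conv_lhs => rw [← au, cj, ru]
    rw [← cj, ← cj, au, atc]
  · show rTwo emb r ^ 3 = 1
    rw [rTwo, pow_three', cj, cj, A.cube, mul_one, aa]
  · show (emb uI * rTwo emb r) ^ 2 = 1
    rw [rTwo, ← av, cj, pow_two, cj, A.inv, mul_one, aa]

/-- An involution centralising `X` is conjugate to `t` inside the centraliser. -/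
theorem conj_in_cent (M : Mdl t Q emb) {R a : G} (K : Rels t (emb xI) (emb uI) (emb vI) a r R) {s : G}
    (hsx : s * emb xI = emb xI * s) (hs : s * s = 1) (hs1 : s ≠ 1) :
    ∃ m, m * emb xI = emb xI * m ∧ m * t * m⁻¹ = s := by
  classical
  haveI : Fact (Nat.Prime 2) := ⟨Nat.prime_two⟩
  set MX := Subgroup.centralizer ({emb xI} : Set G)
  have mU : emb uI ∈ MX := mem_cent.2 K.xu.symm
  have mV : emb vI ∈ MX := mem_cent.2 K.xv.symm
  let uM : MX := ⟨emb uI, mU⟩
  let vM : MX := ⟨emb vI, mV⟩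
  have hs' : s ∈ MX := mem_cent.2 hsx
  have ou : orderOf uM = 2 := orderOf_eq_two_iff'.2 ⟨Subtype.ext K.uu, fun e => K.u1 (congrArg Subtype.val e)⟩
  have ov : orderOf vM = 2 := orderOf_eq_two_iff'.2 ⟨Subtype.ext K.vv, fun e => K.v1 (congrArg Subtype.val e)⟩
  have hne : uM ≠ vM := fun e => K.vne (congrArg Subtype.val e)
  have ho : orderOf (uM * vM) = 4 := by
    refine orderOf_eq_prime_pow (p := 2) (n := 1) ?_ ?_
    · rw [pow_one, pow_two]; intro e
      have h := congrArg Subtype.val e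
      exact absurd (M.inj tI 0 (by decide) (by norm_num) (by rw [M.t_eq, M.one]; exact K.uv.symm.trans h)) (by decide)
    · rw [show 2 ^ (1 + 1) = 2 * 2 by norm_num, pow_mul, pow_two, pow_two]
      refine Subtype.ext ?_
      show emb uI * emb vI * (emb uI * emb vI) * (emb uI * emb vI * (emb uI * emb vI)) = 1
      rw [K.uv, ← M.t_eq, ← M.hom _ _ (by decide) (by decide), show mulC tI tI = 0 by decide +kernel, M.one]
  obtain ⟨S, hS⟩ := (IsPGroup.of_card (p := 2) (n := 3) (G := (Invol.dihHom ou ov).range) (by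
    rw [← Nat.card_congr (MonoidHom.ofInjective (Invol.dihHom_injective ou ov hne)).toEquiv,
      DihedralGroup.nat_card, ho]; norm_num)).exists_le_sylow
  rw [Invol.dihHom_range, Subgroup.closure_le] at hS
  have huS : uM ∈ (S : Subgroup MX) := hS (Or.inl rfl)
  have hvS : vM ∈ (S : Subgroup MX) := hS (Or.inr rfl)
  haveI : Nontrivial (S : Subgroup MX) :=
    ⟨⟨⟨_, huS⟩, 1, fun h => K.u1 (congrArg (fun q : (S : Subgroup MX) => ((q : MX) : G)) h)⟩⟩
  haveI := S.2.center_nontrivial
  obtain ⟨c', hc'⟩ := exists_prime_orderOf_dvd_card' (p := 2)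
    (show 2 ∣ Nat.card (Subgroup.center (S : Subgroup MX)) by
      obtain ⟨k, hk⟩ := IsPGroup.iff_card.1 (S.2.to_subgroup (Subgroup.center (S : Subgroup MX)))
      rw [hk]
      refine dvd_pow_self 2 ?_
      rintro rfl
      have h1 : 1 < Nat.card (Subgroup.center (S : Subgroup MX)) := Finite.one_lt_card
      simp [hk] at h1)
  obtain ⟨c, hcdef⟩ : ∃ c : G, c = (((c' : (S : Subgroup MX)) : MX) : G) := ⟨_, rfl⟩
  obtain ⟨hcc, hc1⟩ := orderOf_eq_two_iff'.1 (show orderOf c = 2 by
    rw [hcdef, Subgroup.orderOf_coe, Subgroup.orderOf_coe, Subgroup.orderOf_coe, hc'])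
  have hcx : c * emb xI = emb xI * c := hcdef ▸ mem_cent.1 ((c' : (S : Subgroup MX)) : MX).2
  have hccomm : ∀ y : MX, y ∈ (S : Subgroup MX) → (y : G) * c = c * (y : G) := fun y hy => by
    rw [hcdef]
    exact congrArg (fun q : (S : Subgroup MX) => ((q : MX) : G)) (Subgroup.mem_center_iff.1 c'.2 ⟨y, hy⟩)
  have hct : c * t = t * c := by
    rw [← K.uv]
    have hu : Commute c (emb uI) := (hccomm uM huS).symm
    have hv : Commute c (emb vI) := (hccomm vM hvS).symm
    exact ((hu.mul_right hv).mul_right (hu.mul_right hv)).eq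
  have code : ∀ y : G, y * t = t * y → y * emb xI = emb xI * y → y * y = 1 → y ≠ 1 →
      ∃ a, a < 1920 ∧ emb a = y ∧ a ∈ [tI, uI, mulC uI tI, vI, mulC vI tI] ∧
        (mulC a uI ≠ mulC uI a ∨ mulC a vI ≠ mulC vI a ∨ a = tI) := by
    intro y yt yx yy y1
    obtain ⟨a, ha, rfl⟩ := M.cent y yt
    have h := List.all_eq_true.1 invol_check a (List.mem_range.2 ha)
    simp only [Bool.or_eq_true, Bool.and_eq_true, bne_iff_ne, beq_iff_eq, List.contains_iff_mem] at h
    rcases h with ((h | h) | h) | ⟨h1, h2⟩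
    · exact absurd (M.ofComm ha (by decide) yx) h
    · exact absurd (by rw [h, M.one]) y1
    · exact absurd (M.inj _ _ (M.lt_mul ha ha) (by norm_num) (by rw [M.hom _ _ ha ha, yy, M.one])) h
    · exact ⟨a, ha, rfl, h1, or_assoc.1 h2⟩
  obtain ⟨b, hb, hbc, -, hb2⟩ := code c hct hcx hcc hc1
  have hceq : c = t := by
    rcases hb2 with h | h | h
    · exact absurd (M.ofComm hb (by decide) (by rw [hbc]; exact (hccomm uM huS).symm)) h
    · exact absurd (M.ofComm hb (by decide) (by rw [hbc]; exact (hccomm vM hvS).symm)) h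
    · rw [← hbc, h, M.t_eq]
  obtain ⟨T, hT⟩ := (IsPGroup.of_card (p := 2) (n := 1) (G := Subgroup.zpowers (⟨s, hs'⟩ : MX)) (by
    rw [pow_one, Nat.card_zpowers, Subgroup.orderOf_mk, orderOf_eq_two_iff'.2 ⟨hs, hs1⟩])).exists_le_sylow
  obtain ⟨m, hm⟩ := MulAction.exists_smul_eq MX T S
  have hmem : (m * ⟨s, hs'⟩ * m⁻¹ : MX) ∈ (S : Subgroup MX) := by
    rw [← hm, Sylow.coe_subgroup_smul]
    exact ⟨_, hT (Subgroup.mem_zpowers _), rfl⟩
  obtain ⟨y, hy⟩ : ∃ y : G, y = (m : G) * s * (m : G)⁻¹ := ⟨_, rfl⟩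
  have hmx := mem_cent.1 m.2
  obtain ⟨a', ha', hay, hmem5, -⟩ := code y
    (by rw [← hceq, hy]; exact hccomm _ hmem)
    (by rw [hy, ← conj_eq_iff_comm.2 hmx]; exact conj_comm _ hsx)
    (hy ▸ conj_sq _ hs) (hy ▸ conj_ne_one _ hs1)
  -- the five involutions are conjugate to `t`
  obtain ⟨k, hkx, hk⟩ : ∃ k, k * emb xI = emb xI * k ∧ k * t * k⁻¹ = y := by
    have h1 : r * t * r⁻¹ = emb uI := mul_inv_eq_iff_eq_mul.2 K.rt
    have h2 : r * r * t * (r * r)⁻¹ = emb uI * t := by
      calc r * r * t * (r * r)⁻¹ = r * (r * t * r⁻¹) * r⁻¹ := by group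
        _ = emb uI * t := by rw [h1]; exact mul_inv_eq_iff_eq_mul.2 K.ru
    have h3 : R * t * R⁻¹ = emb vI := mul_inv_eq_iff_eq_mul.2 K.Rt
    have h4 : R * R * t * (R * R)⁻¹ = emb vI * t := by
      calc R * R * t * (R * R)⁻¹ = R * (R * t * R⁻¹) * R⁻¹ := by group
        _ = emb vI * t := by rw [h3]; exact mul_inv_eq_iff_eq_mul.2 K.RV
    simp only [List.mem_cons, List.not_mem_nil, or_false] at hmem5
    rw [← hay]
    rcases hmem5 with h | h | h | h | h <;> rw [h]
    · exact ⟨1, by simp, by rw [M.t_eq]; simp⟩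
    · exact ⟨r, K.xr, h1⟩
    · exact ⟨r * r, (Commute.mul_left K.xr K.xr).eq, by rw [M.hom _ _ (by decide) (by decide), M.t_eq, h2]⟩
    · exact ⟨R, K.xR, h3⟩
    · exact ⟨R * R, (Commute.mul_left K.xR K.xR).eq, by rw [M.hom _ _ (by decide) (by decide), M.t_eq, h4]⟩
  refine ⟨(m : G)⁻¹ * k, (Commute.mul_left (Commute.inv_left hmx) hkx).eq, ?_⟩
  rw [show (m : G)⁻¹ * k * t * ((m : G)⁻¹ * k)⁻¹ = (m : G)⁻¹ * (k * t * k⁻¹) * m by group, hk, hy]
  group

/-- The orders of the two products modulo `X`. -/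
theorem orders_mod (M : Mdl t Q emb) {R a : G} (K : Rels t (emb xI) (emb uI) (emb vI) a r R) :
    ∃ n ∈ orderCases, (∃ i, i < 3 ∧ (r * R) ^ n.1 = emb xI ^ i) ∧ ∃ i, i < 3 ∧ (r * r * R) ^ n.2 = emb xI ^ i := by
  classical
  set MX := Subgroup.centralizer ({emb xI} : Set G) with hMX
  let xM : MX := ⟨emb xI, mem_cent.2 rfl⟩
  set X := Subgroup.zpowers xM with hX
  have hcy : ∀ g : MX, Commute g xM := fun g => Subtype.ext (mem_cent.1 g.2)
  have hcen : ∀ w ∈ X, ∀ g : MX, w * g = g * w := by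
    intro w hw g
    obtain ⟨n, rfl⟩ := Subgroup.mem_zpowers_iff.1 hw
    exact ((hcy g).zpow_right n).symm.eq
  haveI hXn : X.Normal := ⟨fun w hw g => by rw [← hcen w hw g, mul_inv_cancel_right]; exact hw⟩
  haveI : Fact (Nat.Prime 3) := ⟨Nat.prime_three⟩
  have ox : orderOf xM = 3 := orderOf_eq_prime (Subtype.ext (by
    rw [Subgroup.coe_pow, pow_three']; exact K.xx)) fun e => K.x1 (congrArg Subtype.val e)
  have hXc : Nat.card X = 3 := by rw [hX, Nat.card_zpowers, ox]
  have hXodd : Odd (Nat.card X) := by rw [hXc]; decide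
  let π := QuotientGroup.mk' X
  let tM : MX := ⟨t, mem_cent.2 K.xt.symm⟩
  let uM : MX := ⟨emb uI, mem_cent.2 K.xu.symm⟩
  let vM : MX := ⟨emb vI, mem_cent.2 K.xv.symm⟩
  let rM : MX := ⟨r, mem_cent.2 K.xr⟩
  let RM : MX := ⟨R, mem_cent.2 K.xR⟩
  have tt : t * t = 1 := by
    rw [← M.t_eq, ← M.hom _ _ (by decide) (by decide), show mulC tI tI = 0 by decide +kernel, M.one]
  have t1 : t ≠ 1 := fun e =>
    absurd (M.inj tI 0 (by decide) (by norm_num) (by rw [M.t_eq, M.one, e])) (by decide)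
  have hne : ∀ (v : MX), v * v = 1 → v ≠ 1 → π v ≠ 1 := fun v h2 h1 h =>
    h1 (sq_eq_one_of_odd X hXodd ((QuotientGroup.eq_one_iff v).1 h) h2)
  have ht2 : tM * tM = 1 := Subtype.ext tt
  have hqt2 : π tM * π tM = 1 := by rw [← map_mul, ht2, map_one]
  have hqt1 : π tM ≠ 1 := hne _ ht2 fun e => t1 (congrArg Subtype.val e)
  have hcls : ∀ q : MX ⧸ X, q * q = 1 → q ≠ 1 → ∃ m, m * π tM * m⁻¹ = q := by
    intro q hq hq1
    obtain ⟨s, hs, hs1, rfl⟩ := lift_invol X hXodd hq hq1
    obtain ⟨m, hmx, hm⟩ := conj_in_cent M K (mem_cent.1 s.2) (congrArg Subtype.val hs)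
      fun e => hs1 (Subtype.ext e)
    refine ⟨π ⟨m, mem_cent.2 hmx⟩, ?_⟩
    rw [← map_inv, ← map_mul, ← map_mul]
    exact congrArg π (Subtype.ext hm)
  have h24 : Nat.card (Subgroup.centralizer ({tM} : Set MX)) = 24 := by
    rw [← cx_check, ← Nat.card_eq_finsetCard]
    symm
    have lt : ∀ a : {a // a ∈ (Finset.range 1920).filter fun a => mulC a xI = mulC xI a},
        a.1 < 1920 ∧ mulC a.1 xI = mulC xI a.1 := fun a => by
      have := a.2
      simp only [Finset.mem_filter, Finset.mem_range] at this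
      exact this
    refine Nat.card_congr (Equiv.ofBijective (fun a => ⟨⟨emb a.1, mem_cent.2
      (M.comm (lt a).1 (by decide) (lt a).2)⟩, mem_cent.2 (Subtype.ext (M.ct a.1 (lt a).1))⟩) ⟨?_, ?_⟩)
    · intro a b e
      exact Subtype.ext (M.inj _ _ (lt a).1 (lt b).1 (congrArg (fun y => ((y : Subgroup.centralizer
        ({tM} : Set MX)) : MX).1) e))
    · rintro ⟨⟨y, hy⟩, hyt⟩
      obtain ⟨a, ha, rfl⟩ := M.cent y (congrArg Subtype.val (mem_cent.1 hyt))
      exact ⟨⟨a, Finset.mem_filter.2 ⟨Finset.mem_range.2 ha, M.ofComm ha (by decide) (mem_cent.1 hy)⟩⟩, rfl⟩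
  have hcentt : Nat.card (Subgroup.centralizer ({π tM} : Set (MX ⧸ X))) = 8 := by
    have h := card_cent_quot X hXodd hcen ht2
    rw [h24, hXc] at h
    show Nat.card (Subgroup.centralizer ({QuotientGroup.mk' X tM} : Set (MX ⧸ X))) = 8
    omega
  have hcent : ∀ q : MX ⧸ X, q * q = 1 → q ≠ 1 →
      Nat.card (Subgroup.centralizer ({q} : Set (MX ⧸ X))) = 8 := by
    intro q hq hq1
    obtain ⟨m, rfl⟩ := hcls q hq hq1
    rw [← hcentt, card_cent_equiv (MulAut.conj m) (π tM)]
    rfl
  -- the dihedral centraliser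
  have ou : orderOf (π uM) = 2 := orderOf_eq_two_iff'.2
    ⟨by rw [← map_mul, show uM * uM = 1 from Subtype.ext K.uu, map_one],
      hne _ (Subtype.ext K.uu) fun e => K.u1 (congrArg Subtype.val e)⟩
  have ov : orderOf (π vM) = 2 := orderOf_eq_two_iff'.2
    ⟨by rw [← map_mul, show vM * vM = 1 from Subtype.ext K.vv, map_one],
      hne _ (Subtype.ext K.vv) fun e => K.v1 (congrArg Subtype.val e)⟩
  have huv : π uM * π vM * (π uM * π vM) = π tM := by
    rw [← map_mul, ← map_mul]; exact congrArg π (Subtype.ext K.uv)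
  have huvne : π uM ≠ π vM := fun e => hqt1 (by
    rw [← huv, e, (orderOf_eq_two_iff'.1 ov).1, one_mul])
  have ho : orderOf (π uM * π vM) = 4 := by
    haveI : Fact (Nat.Prime 2) := ⟨Nat.prime_two⟩
    exact orderOf_eq_prime_pow (p := 2) (n := 1) (by rw [pow_one, pow_two, huv]; exact hqt1)
      (by rw [show 2 ^ (1 + 1) = 2 * 2 by norm_num, pow_mul, pow_two, pow_two, huv, hqt2])
  have hut : π uM * π tM = π tM * π uM := by
    rw [← map_mul, ← map_mul]; exact congrArg π (Subtype.ext K.ut)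
  have hvt : π vM * π tM = π tM * π vM := by
    rw [← map_mul, ← map_mul]; exact congrArg π (Subtype.ext K.vt)
  have hrange : (Invol.dihHom ou ov).range = Subgroup.centralizer ({π tM} : Set (MX ⧸ X)) := by
    refine Subgroup.eq_of_le_of_card_ge ?_ ?_
    · rw [Invol.dihHom_range, Subgroup.closure_le]
      rintro y (rfl | rfl)
      exacts [mem_cent.2 hut, mem_cent.2 hvt]
    · rw [hcentt, ← Nat.card_congr (MonoidHom.ofInjective (Invol.dihHom_injective ou ov huvne)).toEquiv,
        DihedralGroup.nat_card, ho]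
  have hD : Nonempty (↥(Subgroup.centralizer ({π tM} : Set (MX ⧸ X))) ≃* DihedralGroup 4) := by
    have e := (MonoidHom.ofInjective (Invol.dihHom_injective ou ov huvne)).trans (MulEquiv.subgroupCongr hrange)
    rw [ho] at e
    exact ⟨e.symm⟩
  have xX : ∀ w : MX, w ∈ X → ∃ i, i < 3 ∧ (w : G) = emb xI ^ i := by
    intro w hw
    obtain ⟨n, hn⟩ := (isOfFinOrder_of_finite xM).mem_powers_iff_mem_zpowers.2 hw
    exact ⟨n % 3, Nat.mod_lt _ (by norm_num), by
      rw [← hn]; show ((xM ^ n : MX) : G) = _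
      rw [← pow_mod_orderOf, ox, Subgroup.coe_pow]⟩
  -- transfer to a coded group
  have transfer : ∀ {N : Type} [Group N] (ι : MX ⧸ X ≃* N) (enc : N → ℕ) (L : List ℕ) (mc : ℕ → ℕ → ℕ)
      (one code : ℕ), Coded enc L mc one → ordersOK L mc one code = true →
      (∃ T : N, enc T = code ∧ T * T = 1 ∧ T ≠ 1) →
      ∃ n ∈ orderCases, (∃ i, i < 3 ∧ (r * R) ^ n.1 = emb xI ^ i) ∧
        ∃ i, i < 3 ∧ (r * r * R) ^ n.2 = emb xI ^ i := by
    intro N _ ι enc L mc one code hC hok hT
    obtain ⟨T, hTc, hT2, hT1⟩ := hT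
    obtain ⟨m, hm⟩ := hcls (ι.symm T) (by rw [← map_mul, hT2, map_one])
      fun e => hT1 (ι.symm.injective (e.trans (map_one ι.symm).symm))
    let χ : MX →* N := (ι.toMonoidHom.comp (MulAut.conj m).toMonoidHom).comp π
    have hχt : χ tM = T := by
      show ι (m * π tM * m⁻¹) = T
      rw [hm, MulEquiv.apply_symm_apply]
    rw [← hTc, ← hχt] at hok
    have mapEq : ∀ {p q : MX}, (p : G) = q → χ p = χ q := fun h => congrArg χ (Subtype.ext h)
    have inj0 : ∀ w : MX, χ w = 1 → w ∈ X := by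
      intro w hw
      have h1 : (MulAut.conj m) (π w) = 1 := ι.injective (hw.trans (map_one ι).symm)
      exact (QuotientGroup.eq_one_iff w).1 ((MulAut.conj m).injective (h1.trans (map_one _).symm))
    obtain ⟨n, hn, e1, e2⟩ := hC.orders (U := χ uM) (V := χ vM) (R := χ rM) (S := χ RM) hok
      (by rw [← map_mul, show uM * uM = 1 from Subtype.ext K.uu, map_one])
      (by rw [← map_mul, ← map_mul]; exact mapEq K.ut)
      (fun e => K.u1 (by
        obtain ⟨i, -, hi⟩ := xX _ (inj0 _ e)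
        have h2 := sq_eq_one_of_odd X hXodd (inj0 _ e) (Subtype.ext K.uu)
        exact congrArg Subtype.val h2))
      (fun e => K.utne (by
        have hw : χ (uM * tM) = 1 := by rw [map_mul, e, ← map_mul, ht2, map_one]
        exact congrArg Subtype.val (sq_eq_one_of_odd X hXodd (inj0 _ hw) (Subtype.ext (by
          show emb uI * t * (emb uI * t) = 1
          calc emb uI * t * (emb uI * t) = emb uI * (t * emb uI) * t := by group
            _ = emb uI * emb uI * (t * t) := by rw [← K.ut]; group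
            _ = 1 := by rw [K.uu, tt, one_mul])))))
      (by rw [← map_pow, show rM ^ 3 = 1 from Subtype.ext K.r3, map_one])
      (by rw [← map_mul, ← map_mul]; exact mapEq K.rt)
      (by rw [← map_mul, ← map_mul, ← map_mul]; exact mapEq K.ru)
      (by rw [← map_mul, show vM * vM = 1 from Subtype.ext K.vv, map_one])
      (by rw [← map_mul, ← map_mul]; exact mapEq K.vt)
      (by rw [← map_mul, ← map_pow, show (vM * rM) ^ 2 = 1 from Subtype.ext K.vr, map_one])
      (by rw [← map_mul, ← map_pow]; exact mapEq (by rw [pow_two]; exact K.uv))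
      (by rw [← map_pow, show RM ^ 3 = 1 from Subtype.ext K.R3, map_one])
      (by rw [← map_mul, ← map_mul]; exact mapEq K.Rt)
      (by rw [← map_mul, ← map_mul, ← map_mul]; exact mapEq K.RV)
      (by rw [← map_mul, ← map_pow, show (uM * RM) ^ 2 = 1 from Subtype.ext K.uR, map_one])
    rw [← map_mul, ← map_pow] at e1
    rw [← map_mul, ← map_mul, ← map_pow] at e2
    exact ⟨n, hn, xX _ (inj0 _ e1), xX _ (inj0 _ e2)⟩
  rcases Cfsg.Agent.S3035.result (π tM) (orderOf_eq_two_iff'.2 ⟨hqt2, hqt1⟩) hD with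
    h | ⟨⟨ι⟩⟩ | ⟨⟨ι⟩⟩ | ⟨⟨ι⟩⟩ | ⟨⟨ι⟩⟩
  · exfalso
    haveI : Fact (Nat.Prime 2) := ⟨Nat.prime_two⟩
    haveI hOn : (Cfsg.oddCore (MX ⧸ X)).Normal := Cfsg.pPrimeCore_normal 2 _
    have hodd := PBasic.pPrimeCore_coprime 2 (MX ⧸ X)
    let ρ := QuotientGroup.mk' (Cfsg.oddCore (MX ⧸ X))
    have hr1 : ρ (π rM) = 1 := by
      have hq : π rM ∈ Subgroup.centralizer ({π tM} : Set (MX ⧸ X)) ⊔ Cfsg.oddCore (MX ⧸ X) := h ▸ Subgroup.mem_top _
      rw [← SetLike.mem_coe, Subgroup.mul_normal] at hq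
      obtain ⟨c, hc, o, ho', hco⟩ := hq
      have hac : ρ (π rM) = ρ c := by
        rw [← hco, map_mul, show ρ o = 1 from (QuotientGroup.eq_one_iff o).2 ho', mul_one]
      have h8 : (⟨c, hc⟩ : Subgroup.centralizer ({π tM} : Set (MX ⧸ X))) ^ 8 = 1 := by
        rw [← hcentt]; exact pow_card_eq_one'
      have h3 : ρ (π rM) ^ 3 = 1 := by
        rw [← map_pow, ← map_pow, show rM ^ 3 = 1 from Subtype.ext K.r3, map_one, map_one]
      have h8'' : ρ (π rM) ^ 8 = 1 := by
        rw [hac, ← map_pow, show c ^ 8 = 1 from congrArg Subtype.val h8, map_one]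
      have := pow_gcd_eq_one.2 ⟨h3, h8''⟩
      rwa [show Nat.gcd 3 8 = 1 from rfl, pow_one] at this
    have hu : ρ (π uM) = ρ (π tM) := by
      have e : π rM * π tM = π uM * π rM := by
        rw [← map_mul, ← map_mul]; exact congrArg π (Subtype.ext K.rt)
      have := congrArg ρ e
      rw [map_mul, map_mul, hr1, one_mul, mul_one] at this
      exact this.symm
    have hmem : π uM * π tM ∈ Cfsg.oddCore (MX ⧸ X) := by
      refine (QuotientGroup.eq_one_iff _).1 ?_
      show ρ (π uM * π tM) = 1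
      rw [map_mul, hu, ← map_mul, hqt2, map_one]
    have hw2 : uM * tM * (uM * tM) = 1 := Subtype.ext (by
      show emb uI * t * (emb uI * t) = 1
      calc emb uI * t * (emb uI * t) = emb uI * (t * emb uI) * t := by group
        _ = emb uI * emb uI * (t * t) := by rw [← K.ut]; group
        _ = 1 := by rw [K.uu, tt, one_mul])
    have ho2 : orderOf (π (uM * tM)) = 2 := orderOf_eq_two_iff'.2
      ⟨by rw [← map_mul, hw2, map_one], hne _ hw2 fun e => K.utne (congrArg Subtype.val e)⟩
    rw [← map_mul] at hmem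
    have h2 := Subgroup.orderOf_dvd_natCard _ hmem
    rw [ho2] at h2
    exact (Nat.prime_two.coprime_iff_not_dvd).1 hodd.symm h2
  · exfalso
    have h1 : Equiv.swap (0 : Fin 4) 1 ≠ 1 := by decide
    have h2 : Equiv.swap (0 : Fin 4) 1 * Equiv.swap 0 1 = 1 := by decide
    have h := hcent (ι.symm (Equiv.swap 0 1)) (by rw [← map_mul, h2, map_one])
      (fun e => h1 (ι.symm.injective (e.trans (map_one _).symm)))
    rw [card_cent_equiv ι, ι.apply_symm_apply, Nat.card_eq_fintype_card, Fintype.card_subtype] at h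
    simp only [mem_cent] at h
    have h4 : (Finset.univ.filter fun g : Equiv.Perm (Fin 4) =>
        g * Equiv.swap 0 1 = Equiv.swap 0 1 * g).card = 4 := by decide +kernel
    rw [h] at h4
    omega
  · exfalso
    have h1 : Equiv.swap (0 : Fin 5) 1 ≠ 1 := by decide
    have h2 : Equiv.swap (0 : Fin 5) 1 * Equiv.swap 0 1 = 1 := by decide
    have h := hcent (ι.symm (Equiv.swap 0 1)) (by rw [← map_mul, h2, map_one])
      (fun e => h1 (ι.symm.injective (e.trans (map_one _).symm)))
    rw [card_cent_equiv ι, ι.apply_symm_apply, Nat.card_eq_fintype_card, Fintype.card_subtype] at h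
    have h12 := S5_swap
    simp only [mem_cent] at h
    rw [h] at h12
    omega
  · exact transfer ι _ _ _ _ _ coded3 ok3 t3_exists
  · exact transfer ι _ _ _ _ _ coded6 ok6 t6_exists

/-- The relations in the centraliser of the element of order three. -/
theorem exists_orders (M : Mdl t Q emb) (A : Amal emb r) : Orders emb r := by
  have K := rels_of M A
  obtain ⟨n, hn, ⟨i, hi, e1⟩, ⟨j, hj, e2⟩⟩ := orders_mod M K
  obtain ⟨R, hR⟩ : ∃ R, R = rTwo emb r := ⟨_, rfl⟩
  rw [← hR] at K e1 e2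
  rw [Orders, ← hR]
  obtain ⟨a, ha⟩ : ∃ a, a = emb aI := ⟨_, rfl⟩
  obtain ⟨X, hX⟩ : ∃ X, X = emb xI := ⟨_, rfl⟩
  rw [← hX, ← ha] at K
  rw [← hX] at e1 e2 ⊢
  refine ⟨n, hn, (3 - j) % 3, Nat.mod_lt _ (by norm_num), ?_, ?_⟩
  · have ainv : a⁻¹ = a := inv_of_sq K.aa
    have hr : a * r * a = R := K.aR.symm
    have hR' : a * R * a = r := by
      rw [← hr]
      calc a * (a * r * a) * a = a * a * r * (a * a) := by group
        _ = r := by rw [K.aa, one_mul, mul_one]
    have e3 : a * (r * R) * a⁻¹ = r⁻¹ * (r * R) * r⁻¹⁻¹ := by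
      rw [conj_mul', ainv, hr, hR']; group
    have e4 : a * X ^ i * a⁻¹ = X ^ i := by
      rw [← e1, ← conj_pow, e3, conj_pow, e1]
      have hc : Commute r⁻¹ (X ^ i) := (Commute.inv_left K.xr).pow_right i
      exact conj_eq_iff_comm.2 hc.eq
    rw [← conj_pow, ainv, K.ax] at e4
    have h3 : ∀ k, k < 3 → (X * X) ^ k = X ^ k → X ^ k = 1 := by
      intro k hk h
      interval_cases k
      · simp
      · rw [pow_one, pow_one] at h
        exact absurd (mul_left_cancel (h.trans (mul_one X).symm)) K.x1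
      · rw [pow_two, pow_two] at h
        exact absurd (mul_left_cancel (a := X * X) (h.trans (mul_one _).symm))
          fun e => K.x1 (by
            calc X = X * (X * X) := by rw [e, mul_one]
              _ = 1 := by rw [← mul_assoc, K.xx])
    rw [e1]
    exact h3 i hi e4
  · rw [e2, ← pow_add]
    have x3 : X ^ 3 = 1 := by rw [pow_three']; exact K.xx
    interval_cases j <;> norm_num [x3]

end Cfsg.Agent.J3Uniq
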