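import Cfsg.Agent.Lib.J3Uniq.Finish
import Cfsg.Agent.Lib.J3Uniq.Local
import Cfsg.Agent.Lib.J3Model.Triple
import Cfsg.Prelude.Def_Spor_J3
import Mathlib.FieldTheory.Finite.GaloisField

/-!
The uniqueness of the third Janko group from the centraliser of an involution.
-/

set_option autoImplicit false

namespace Cfsg.Agent.J3Uniq

open Cfsg.Agent.RigidGraph.J3 (j3Group card_j3Group isJ3_j3Group)

universe u

variable {G : Type u} [Group G] [Finite G] [IsSimpleGroup G]

/-- One class of involutions and the centraliser give the group on 6156 points. -/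
theorem nonempty_mulEquiv (t : G) (ht : orderOf t = 2)
    (E : Subgroup (Subgroup.centralizer ({t} : Set G))) [E.Normal] (hE : Nat.card E = 32)
    (hX : Cfsg.IsExtraspecial 2 E)
    (e : (Subgroup.centralizer ({t} : Set G)) ⧸ E ≃* alternatingGroup (Fin 5))
    (hone : ∀ x y : G, orderOf x = 2 → orderOf y = 2 → IsConj x y) : Nonempty (G ≃* ↥j3Group) := by
  obtain ⟨φ, B⟩ := HJUniq.exists_base t ht E hE hX e
  obtain ⟨emb, r, -, hA, hO⟩ := exists_local B fun a b ha hb => isConj_iff.1 (hone a b ha hb)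
  exact iso_j3 hA hO hone

theorem isJ3_of_mulEquiv (φ : G ≃* ↥j3Group) : Cfsg.IsJ3 G :=
  ⟨inferInstance, by rw [Nat.card_congr φ.toEquiv, card_j3Group]⟩

omit [Finite G] [IsSimpleGroup G] in
theorem isoJ3_of_mulEquiv (φ : G ≃* ↥j3Group) : Cfsg.Spor.IsoJ3 G := by
  classical
  haveI : _root_.Fact (Nat.Prime 2) := ⟨Nat.prime_two⟩
  letI : Fintype (GaloisField 2 2) := Fintype.ofFinite _
  have hF : Fintype.card (GaloisField 2 2) = 4 := by
    rw [← Nat.card_eq_fintype_card, GaloisField.card 2 2 (by norm_num)]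
    norm_num
  obtain ⟨ω, hω0, hω1⟩ : ∃ ω : GaloisField 2 2, ω ≠ 0 ∧ ω ≠ 1 := by
    by_contra h
    push Not at h
    have h2 : (Finset.univ : Finset (GaloisField 2 2)) ⊆ {0, 1} := fun x _ => by
      rcases em (x = 0) with h0 | h0
      · simp [h0]
      · simp [h x h0]
    have := (Finset.card_le_card h2).trans Finset.card_le_two
    rw [Finset.card_univ, hF] at this
    omega
  have h3 : ω ^ 3 = 1 := by
    have := FiniteField.pow_card_sub_one_eq_one ω hω0
    rwa [hF] at this
  have hω : ω ^ 2 + ω + 1 = 0 := by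
    refine (mul_eq_zero.1 ?_).resolve_left (sub_ne_zero.2 hω1)
    linear_combination h3
  exact ⟨GaloisField 2 2, inferInstance, inferInstance, ω, hF, hω, ⟨φ.trans (J3Model.quotEquiv hF hω).symm⟩⟩

end Cfsg.Agent.J3Uniq
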