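import Cfsg.Agent.Lib.J3Uniq.LocalTable
import Cfsg.Agent.Lib.J3Invol.Words

/-!
Words realising the interface inside the group on 6156 points.
-/

set_option autoImplicit false
set_option maxRecDepth 20000

namespace Cfsg.Agent.J3Uniq

/-- Words for the four generators of the centraliser. -/
def genW : List (List ℕ) := [[6, 0, 3, 5, 7, 4, 0, 2], [6, 2, 2, 5, 0, 2, 5, 6, 4], [4, 1, 3, 0, 3, 4, 7, 2, 7], [6, 7, 2, 5, 2, 5, 1, 3]]

/-- A word for the element of order three. -/
def rW : List ℕ := [4, 6, 4, 7, 2, 4, 3, 6, 6]

/-- The first generator of the group in the letters of the certificate. -/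
def expA : List ℕ := ([439, 0, 1920, 1, 1920, 1, 1920, 1, 1920, 11, 1920, 226]).reverse

/-- The second generator of the group in the letters of the certificate. -/
def expB : List ℕ := ([1784, 0, 1920, 1, 1920, 1, 1920, 1, 1920, 7, 1920, 0, 1920, 1036]).reverse

/-- A word of a number. -/
def modW (c : ℕ) : List ℕ := (word c).flatMap fun x => genW.getD x []

/-- The letters of a letter of the certificate. -/
def letW (x : ℕ) : List ℕ := bif Nat.beq x 1920 then rW else modW x

end Cfsg.Agent.J3Uniq
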