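import Cfsg.Agent.Lib.J3Uniq.Cases.C730
import Cfsg.Agent.Lib.J3Uniq.Cases.C731
import Cfsg.Agent.Lib.J3Uniq.Cases.C732
import Cfsg.Agent.Lib.J3Uniq.Cases.C370
import Cfsg.Agent.Lib.J3Uniq.Cases.C371
import Cfsg.Agent.Lib.J3Uniq.Cases.C372
import Cfsg.Agent.Lib.J3Uniq.Cases.C450
import Cfsg.Agent.Lib.J3Uniq.Cases.C451
import Cfsg.Agent.Lib.J3Uniq.Cases.C452
import Cfsg.Agent.Lib.J3Uniq.Cases.C740
import Cfsg.Agent.Lib.J3Uniq.Cases.C741
import Cfsg.Agent.Lib.J3Uniq.Cases.C742
import Cfsg.Agent.Lib.J3Uniq.Cases.C470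
import Cfsg.Agent.Lib.J3Uniq.Cases.C471
import Cfsg.Agent.Lib.J3Uniq.Cases.C472
import Cfsg.Agent.Lib.J3Uniq.Cases.C542
import Cfsg.Agent.Lib.J3Uniq.Rels

/-!
The cases in which the relations are contradictory.
-/

set_option autoImplicit false
set_option maxRecDepth 20000

namespace Cfsg.Agent.J3Uniq

variable {G : Type*} [Group G] {e : ℕ → G} {r : G}

theorem false_730 (h : Amal e r) (h1 : (r * rTwo e r) ^ 7 = 1)
    (h2 : (r * r * rTwo e r) ^ 3 * e xI ^ 0 = 1) : False :=
  h.false_of_fact (C730.holds h.rules (h.rels_ok (b := 0) (by norm_num) h1 h2 (P := C730.P) (by decide +kernel)) 34 (by norm_num))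
    (by decide +kernel) (by decide +kernel) (by decide +kernel) (by decide +kernel) (by decide +kernel)

theorem false_731 (h : Amal e r) (h1 : (r * rTwo e r) ^ 7 = 1)
    (h2 : (r * r * rTwo e r) ^ 3 * e xI ^ 1 = 1) : False :=
  h.false_of_fact (C731.holds h.rules (h.rels_ok (b := 1) (by norm_num) h1 h2 (P := C731.P) (by decide +kernel)) 34 (by norm_num))
    (by decide +kernel) (by decide +kernel) (by decide +kernel) (by decide +kernel) (by decide +kernel)

theorem false_732 (h : Amal e r) (h1 : (r * rTwo e r) ^ 7 = 1)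
    (h2 : (r * r * rTwo e r) ^ 3 * e xI ^ 2 = 1) : False :=
  h.false_of_fact (C732.holds h.rules (h.rels_ok (b := 2) (by norm_num) h1 h2 (P := C732.P) (by decide +kernel)) 34 (by norm_num))
    (by decide +kernel) (by decide +kernel) (by decide +kernel) (by decide +kernel) (by decide +kernel)

theorem false_370 (h : Amal e r) (h1 : (r * rTwo e r) ^ 3 = 1)
    (h2 : (r * r * rTwo e r) ^ 7 * e xI ^ 0 = 1) : False :=
  h.false_of_fact (C370.holds h.rules (h.rels_ok (b := 0) (by norm_num) h1 h2 (P := C370.P) (by decide +kernel)) 37 (by norm_num))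
    (by decide +kernel) (by decide +kernel) (by decide +kernel) (by decide +kernel) (by decide +kernel)

theorem false_371 (h : Amal e r) (h1 : (r * rTwo e r) ^ 3 = 1)
    (h2 : (r * r * rTwo e r) ^ 7 * e xI ^ 1 = 1) : False :=
  h.false_of_fact (C371.holds h.rules (h.rels_ok (b := 1) (by norm_num) h1 h2 (P := C371.P) (by decide +kernel)) 21 (by norm_num))
    (by decide +kernel) (by decide +kernel) (by decide +kernel) (by decide +kernel) (by decide +kernel)

theorem false_372 (h : Amal e r) (h1 : (r * rTwo e r) ^ 3 = 1)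
    (h2 : (r * r * rTwo e r) ^ 7 * e xI ^ 2 = 1) : False :=
  h.false_of_fact (C372.holds h.rules (h.rels_ok (b := 2) (by norm_num) h1 h2 (P := C372.P) (by decide +kernel)) 21 (by norm_num))
    (by decide +kernel) (by decide +kernel) (by decide +kernel) (by decide +kernel) (by decide +kernel)

theorem false_450 (h : Amal e r) (h1 : (r * rTwo e r) ^ 4 = 1)
    (h2 : (r * r * rTwo e r) ^ 5 * e xI ^ 0 = 1) : False :=
  h.false_of_fact (C450.holds h.rules (h.rels_ok (b := 0) (by norm_num) h1 h2 (P := C450.P) (by decide +kernel)) 30 (by norm_num))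
    (by decide +kernel) (by decide +kernel) (by decide +kernel) (by decide +kernel) (by decide +kernel)

theorem false_451 (h : Amal e r) (h1 : (r * rTwo e r) ^ 4 = 1)
    (h2 : (r * r * rTwo e r) ^ 5 * e xI ^ 1 = 1) : False :=
  h.false_of_fact (C451.holds h.rules (h.rels_ok (b := 1) (by norm_num) h1 h2 (P := C451.P) (by decide +kernel)) 30 (by norm_num))
    (by decide +kernel) (by decide +kernel) (by decide +kernel) (by decide +kernel) (by decide +kernel)

theorem false_452 (h : Amal e r) (h1 : (r * rTwo e r) ^ 4 = 1)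
    (h2 : (r * r * rTwo e r) ^ 5 * e xI ^ 2 = 1) : False :=
  h.false_of_fact (C452.holds h.rules (h.rels_ok (b := 2) (by norm_num) h1 h2 (P := C452.P) (by decide +kernel)) 30 (by norm_num))
    (by decide +kernel) (by decide +kernel) (by decide +kernel) (by decide +kernel) (by decide +kernel)

theorem false_740 (h : Amal e r) (h1 : (r * rTwo e r) ^ 7 = 1)
    (h2 : (r * r * rTwo e r) ^ 4 * e xI ^ 0 = 1) : False :=
  h.false_of_fact (C740.holds h.rules (h.rels_ok (b := 0) (by norm_num) h1 h2 (P := C740.P) (by decide +kernel)) 40 (by norm_num))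
    (by decide +kernel) (by decide +kernel) (by decide +kernel) (by decide +kernel) (by decide +kernel)

theorem false_741 (h : Amal e r) (h1 : (r * rTwo e r) ^ 7 = 1)
    (h2 : (r * r * rTwo e r) ^ 4 * e xI ^ 1 = 1) : False :=
  h.false_of_fact (C741.holds h.rules (h.rels_ok (b := 1) (by norm_num) h1 h2 (P := C741.P) (by decide +kernel)) 40 (by norm_num))
    (by decide +kernel) (by decide +kernel) (by decide +kernel) (by decide +kernel) (by decide +kernel)

theorem false_742 (h : Amal e r) (h1 : (r * rTwo e r) ^ 7 = 1)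
    (h2 : (r * r * rTwo e r) ^ 4 * e xI ^ 2 = 1) : False :=
  h.false_of_fact (C742.holds h.rules (h.rels_ok (b := 2) (by norm_num) h1 h2 (P := C742.P) (by decide +kernel)) 39 (by norm_num))
    (by decide +kernel) (by decide +kernel) (by decide +kernel) (by decide +kernel) (by decide +kernel)

theorem false_470 (h : Amal e r) (h1 : (r * rTwo e r) ^ 4 = 1)
    (h2 : (r * r * rTwo e r) ^ 7 * e xI ^ 0 = 1) : False :=
  h.false_of_fact (C470.holds h.rules (h.rels_ok (b := 0) (by norm_num) h1 h2 (P := C470.P) (by decide +kernel)) 53 (by norm_num))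
    (by decide +kernel) (by decide +kernel) (by decide +kernel) (by decide +kernel) (by decide +kernel)

theorem false_471 (h : Amal e r) (h1 : (r * rTwo e r) ^ 4 = 1)
    (h2 : (r * r * rTwo e r) ^ 7 * e xI ^ 1 = 1) : False :=
  h.false_of_fact (C471.holds h.rules (h.rels_ok (b := 1) (by norm_num) h1 h2 (P := C471.P) (by decide +kernel)) 48 (by norm_num))
    (by decide +kernel) (by decide +kernel) (by decide +kernel) (by decide +kernel) (by decide +kernel)

theorem false_472 (h : Amal e r) (h1 : (r * rTwo e r) ^ 4 = 1)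
    (h2 : (r * r * rTwo e r) ^ 7 * e xI ^ 2 = 1) : False :=
  h.false_of_fact (C472.holds h.rules (h.rels_ok (b := 2) (by norm_num) h1 h2 (P := C472.P) (by decide +kernel)) 48 (by norm_num))
    (by decide +kernel) (by decide +kernel) (by decide +kernel) (by decide +kernel) (by decide +kernel)

theorem false_542 (h : Amal e r) (h1 : (r * rTwo e r) ^ 5 = 1)
    (h2 : (r * r * rTwo e r) ^ 4 * e xI ^ 2 = 1) : False :=
  h.false_of_fact (C542.holds h.rules (h.rels_ok (b := 2) (by norm_num) h1 h2 (P := C542.P) (by decide +kernel)) 301 (by norm_num))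
    (by decide +kernel) (by decide +kernel) (by decide +kernel) (by decide +kernel) (by decide +kernel)

/-- Only the orders `5` and `4` are possible. -/
theorem orders_five_four (h : Amal e r) (ho : Orders e r) :
    ∃ b, b < 2 ∧ (r * rTwo e r) ^ 5 = 1 ∧ (r * r * rTwo e r) ^ 4 * e xI ^ b = 1 := by
  obtain ⟨⟨n, m⟩, hn, b, hb, h1, h2⟩ := ho
  simp only [orderCases, List.mem_cons, Prod.mk.injEq, List.not_mem_nil, or_false] at hn
  rcases hn with hn | hn | hn | hn | hn | hn <;> obtain ⟨rfl, rfl⟩ := hn
  · match b, hb with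
    | 0, _ => exact ⟨0, by norm_num, h1, h2⟩
    | 1, _ => exact ⟨1, by norm_num, h1, h2⟩
    | 2, _ => exact (false_542 h h1 h2).elim
  · match b, hb with
    | 0, _ => exact (false_450 h h1 h2).elim
    | 1, _ => exact (false_451 h h1 h2).elim
    | 2, _ => exact (false_452 h h1 h2).elim
  · match b, hb with
    | 0, _ => exact (false_730 h h1 h2).elim
    | 1, _ => exact (false_731 h h1 h2).elim
    | 2, _ => exact (false_732 h h1 h2).elim
  · match b, hb with
    | 0, _ => exact (false_370 h h1 h2).elim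
    | 1, _ => exact (false_371 h h1 h2).elim
    | 2, _ => exact (false_372 h h1 h2).elim
  · match b, hb with
    | 0, _ => exact (false_740 h h1 h2).elim
    | 1, _ => exact (false_741 h h1 h2).elim
    | 2, _ => exact (false_742 h h1 h2).elim
  · match b, hb with
    | 0, _ => exact (false_470 h h1 h2).elim
    | 1, _ => exact (false_471 h h1 h2).elim
    | 2, _ => exact (false_472 h h1 h2).elim

end Cfsg.Agent.J3Uniq
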