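import Mathlib.GroupTheory.Sylow
import Mathlib.GroupTheory.SpecificGroups.Cyclic
import Mathlib.RingTheory.ZMod.UnitsCyclic
import Mathlib.Tactic

/-!
The normaliser of a Sylow subgroup of prime order: centraliser and automiser.
-/

set_option autoImplicit false
set_option linter.style.haveILetI false

namespace Cfsg.Agent.J3Uniq.SylowLarge

variable {G : Type*} [Group G] [Finite G] {p : ℕ} [hp : Fact p.Prime]

theorem pow_conj {g x : G} {k : ℕ} (h : g * x * g⁻¹ = x ^ k) :
    ∀ n : ℕ, g ^ n * x * (g ^ n)⁻¹ = x ^ k ^ n := by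
  intro n
  induction n with
  | zero => simp
  | succ n ih =>
    calc g ^ (n + 1) * x * (g ^ (n + 1))⁻¹ = g * (g ^ n * x * (g ^ n)⁻¹) * g⁻¹ := by rw [pow_succ']; group
      _ = (g * x * g⁻¹) ^ k ^ n := by rw [ih, ← conj_pow]
      _ = x ^ k ^ (n + 1) := by rw [h, ← pow_mul, pow_succ']

theorem core (X : Sylow p G) {x : G} (hxo : orderOf x = p) (hX : (X : Subgroup G) = Subgroup.zpowers x) :
    ∃ m e : ℕ, Nat.card (Subgroup.centralizer ({x} : Set G)) = p * m ∧ e ∣ p - 1 ∧
      Nat.card (Sylow p G) * (p * m * e) = Nat.card G ∧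
      (∀ g : G, ∀ k : ℕ, g * x * g⁻¹ = x ^ k → k ^ e % p = 1) ∧
      (m = 1 → Subgroup.centralizer ((X : Subgroup G) : Set G) = X ∧
        ∃ _h : ((X : Subgroup G).subgroupOf (Subgroup.normalizer ((X : Subgroup G) : Set G))).Normal,
          IsCyclic (↥(Subgroup.normalizer ((X : Subgroup G) : Set G)) ⧸ (X : Subgroup G).subgroupOf _) ∧
          Nat.card (↥(Subgroup.normalizer ((X : Subgroup G) : Set G)) ⧸ (X : Subgroup G).subgroupOf _) = e) := by
  classical
  set N := Subgroup.normalizer ((X : Subgroup G) : Set G) with hN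
  set C := Subgroup.centralizer ({x} : Set G) with hC
  set P := (X : Subgroup G).subgroupOf N with hP
  haveI hPn : P.Normal := Subgroup.normal_subgroupOf_iff_le_normalizer Subgroup.le_normalizer |>.2 le_rfl
  have hcentX : Subgroup.centralizer ((X : Subgroup G) : Set G) = C := by
    refine le_antisymm (Subgroup.centralizer_le (by rw [hX]; simp)) fun c hc => ?_
    rw [Subgroup.mem_centralizer_iff]
    intro y hy
    rw [SetLike.mem_coe, hX, Subgroup.mem_zpowers_iff] at hy
    obtain ⟨j, rfl⟩ := hy
    exact ((show Commute x c from (Subgroup.mem_centralizer_singleton_iff.1 hc).symm).zpow_left j).eq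
  have hXC : (X : Subgroup G) ≤ C := by
    rw [hX, Subgroup.zpowers_le, hC, Subgroup.mem_centralizer_singleton_iff]
  have hCN : C ≤ N := hcentX ▸ Subgroup.centralizer_le_normalizer _
  have cX : Nat.card (X : Subgroup G) = p := by rw [hX, Nat.card_zpowers, hxo]
  have cP : Nat.card P = p := by
    rw [hP, Nat.card_congr (Subgroup.subgroupOfEquivOfLe Subgroup.le_normalizer).toEquiv, cX]
  haveI : IsCyclic P := isCyclic_of_prime_card cP
  let f : N →* MulAut P := MulAut.conjNormal
  have hxN : x ∈ N := Subgroup.le_normalizer (show x ∈ (X : Subgroup G) from hX ▸ Subgroup.mem_zpowers x)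
  have hxP : (⟨x, hxN⟩ : N) ∈ P := Subgroup.mem_subgroupOf.2 (show x ∈ (X : Subgroup G) from hX ▸ Subgroup.mem_zpowers x)
  have hker : f.ker = C.subgroupOf N := by
    ext n
    rw [MonoidHom.mem_ker, Subgroup.mem_subgroupOf, hC, Subgroup.mem_centralizer_singleton_iff]
    constructor
    · intro h
      have e := congrArg (fun φ : MulAut P => ((φ ⟨_, hxP⟩ : P) : N)) h
      have e' : (n : G) * x * (n : G)⁻¹ = x := by
        simpa [f, MulAut.conjNormal_apply] using congrArg (Subtype.val : N → G) e
      exact mul_inv_eq_iff_eq_mul.1 e'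
    · intro h
      refine MulEquiv.ext fun q => Subtype.ext (Subtype.ext ?_)
      have hq : ((q : N) : G) ∈ (X : Subgroup G) := Subgroup.mem_subgroupOf.1 q.2
      rw [hX, Subgroup.mem_zpowers_iff] at hq
      obtain ⟨j, hj⟩ := hq
      show (n : G) * ((q : N) : G) * (n : G)⁻¹ = ((q : N) : G)
      rw [← hj, mul_inv_eq_iff_eq_mul]
      exact ((show Commute (n : G) x from h).zpow_right j).eq
  obtain ⟨m, hm⟩ : p ∣ Nat.card C := cX ▸ Subgroup.card_dvd_of_le hXC
  have cyc : IsCyclic (MulAut P) := by
    haveI : NeZero p := ⟨hp.out.ne_zero⟩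
    let e : MulAut P ≃* (ZMod (Nat.card P))ˣ := IsCyclic.mulAutMulEquiv P
    haveI : IsCyclic (ZMod (Nat.card P))ˣ := by rw [cP]; infer_instance
    exact isCyclic_of_surjective e.symm.toMonoidHom e.symm.surjective
  have hN' : Nat.card N = p * m * Nat.card f.range := by
    rw [← f.ker.card_mul_index, Subgroup.index_ker, hker,
      Nat.card_congr (Subgroup.subgroupOfEquivOfLe hCN).toEquiv, hm]
  refine ⟨m, Nat.card f.range, hm, ?_, ?_, ?_, fun hm1 => ?_⟩
  · have := Subgroup.card_subgroup_dvd_card f.range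
    rwa [IsCyclic.card_mulAut, cP, Nat.totient_prime hp.out] at this
  · rw [← hN', X.card_eq_index_normalizer]; exact Subgroup.index_mul_card N
  · intro g k hg
    have hle : (X : Subgroup G).map (MulAut.conj g).toMonoidHom ≤ (X : Subgroup G) := by
      rw [hX, MonoidHom.map_zpowers, Subgroup.zpowers_le]
      show g * x * g⁻¹ ∈ _
      rw [hg]
      exact pow_mem (Subgroup.mem_zpowers x) k
    have hgN : g ∈ N := by
      have heq := Subgroup.eq_of_le_of_card_ge hle
        (by rw [Subgroup.card_map_of_injective (MulAut.conj g).injective])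
      rw [hN, Subgroup.mem_normalizer_iff]
      intro y
      constructor
      · intro hy
        exact hle ⟨y, hy, rfl⟩
      · intro hy
        rw [← heq] at hy
        obtain ⟨z, hz, e⟩ := hy
        rwa [show y = z from (MulAut.conj g).injective e.symm]
    have h1 : ((⟨g, hgN⟩ : N) ^ Nat.card f.range) ∈ f.ker := by
      rw [MonoidHom.mem_ker, map_pow]
      exact congrArg Subtype.val (pow_card_eq_one' (x := (⟨f ⟨g, hgN⟩, ⟨_, rfl⟩⟩ : f.range)))
    rw [hker, Subgroup.mem_subgroupOf, Subgroup.coe_pow, hC, Subgroup.mem_centralizer_singleton_iff] at h1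
    have e := pow_conj hg (Nat.card f.range)
    rw [h1, mul_inv_cancel_right] at e
    have e' : x ^ 1 = x ^ (k ^ Nat.card f.range) := by rwa [pow_one]
    rw [pow_eq_pow_iff_modEq, hxo, Nat.ModEq, Nat.mod_eq_of_lt hp.out.one_lt] at e'
    exact e'.symm
  · have hCX : C = (X : Subgroup G) := (Subgroup.eq_of_le_of_card_ge hXC (by rw [hm, hm1, mul_one, cX])).symm
    refine ⟨hcentX.trans hCX, hPn, ?_, ?_⟩
    · have hk : f.ker = P := by rw [hker, hCX]
      let e := (QuotientGroup.quotientMulEquivOfEq hk.symm).trans (QuotientGroup.quotientKerEquivRange f)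
      haveI := cyc
      exact isCyclic_of_injective e.toMonoidHom e.injective
    · have hk : f.ker = P := by rw [hker, hCX]
      exact Nat.card_congr ((QuotientGroup.quotientMulEquivOfEq hk.symm).trans
        (QuotientGroup.quotientKerEquivRange f)).toEquiv

end Cfsg.Agent.J3Uniq.SylowLarge
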