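import Cfsg.Agent.Lib.J3Uniq.SylowWords
import Cfsg.Agent.Lib.J3Uniq.SylowCore
import Cfsg.Agent.Lib.HJ.Five

/-!
The Sylow subgroups for 17 and 19 of a group isomorphic to the group on 6156 points: self-centralising,
with cyclic normaliser quotients of orders 8 and 9.
-/

set_option autoImplicit false
set_option linter.style.haveILetI false
set_option maxRecDepth 100000

namespace Cfsg.Agent.J3Uniq.SylowLarge

open Cfsg.Agent.J3Invol
open Cfsg.Agent.RigidGraph (cntB_eq_fin)
open Cfsg.Agent.RigidGraph.J3 (j3Group card_j3Group)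

theorem wordVal_flatten (n : ℕ) (w : List ℕ) : wordVal (List.replicate n w).flatten = wordVal w ^ n := by
  induction n with
  | zero => simp [val_nil]
  | succ n ih => rw [List.replicate_succ, List.flatten_cons, wordVal_append, ih, pow_succ']

theorem wordVal_rep (n i : ℕ) : wordVal (List.replicate n i) = wordVal [i] ^ n := by
  induction n with
  | zero => simp [val_nil]
  | succ n ih =>
    rw [List.replicate_succ, show i :: List.replicate n i = [i] ++ List.replicate n i from rfl,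
      wordVal_append, ih, pow_succ']

theorem x_fact : ∃ x g : ↥j3Group, orderOf x = 19 ∧ g * x * g⁻¹ = x ^ 9 := by
  obtain ⟨-, hg, h0, -, -, h19, h1, hc, -⟩ := word_check
  haveI : Fact (Nat.Prime 19) := ⟨by norm_num⟩
  have hw : ∀ n, ∀ i ∈ List.replicate n 0, i < 8 := fun n i hi => by
    rw [(List.mem_replicate.1 hi).2]; norm_num
  refine ⟨wordVal [0], wordVal gW, orderOf_eq_prime ?_ fun e => h1 ?_, ?_⟩
  · rw [← wordVal_rep]; exact (eq_one_iff (hw 19)).2 h19
  · exact (eq_one_iff (okWord_mem h0)).1 e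
  · rw [mul_inv_eq_iff_eq_mul, ← wordVal_rep]
    exact conjOK_spec (okWord_mem hg) (okWord_mem h0) (hw 9) hc

theorem invol_fact (s : ↥j3Group) (hs : orderOf s = 2) :
    Nat.card (Subgroup.centralizer ({s} : Set ↥j3Group)) = 1920 := by
  obtain ⟨c, hc⟩ := isConj_iff.1 (isConj_sH hs)
  rw [← card_centralizer, ← hc]
  exact HJ.card_cent_equiv (MulAut.conj c) s

theorem y_fact : ∃ y : ↥j3Group, orderOf y = 17 ∧
    Nat.card (Subgroup.centralizer ({y} : Set ↥j3Group)) ∣ 255 := by
  classical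
  obtain ⟨hy, -, -, h17, h1, -, -, -, h0⟩ := word_check
  haveI : Fact (Nat.Prime 17) := ⟨by norm_num⟩
  have hw := okWord_mem hy
  set y := wordVal yW with hydef
  have ho : orderOf y = 17 := by
    refine orderOf_eq_prime ?_ fun e => h1 ((eq_one_iff hw).1 e)
    rw [hydef, ← wordVal_flatten]
    refine (eq_one_iff fun i hi => ?_).2 h17
    obtain ⟨l, hl, hil⟩ := List.mem_flatten.1 hi
    rw [(List.mem_replicate.1 hl).2] at hil
    exact hw i hil
  refine ⟨y, ho, ?_⟩
  set C := Subgroup.centralizer ({y} : Set ↥j3Group)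
  have hodd : ¬ 2 ∣ Nat.card C := by
    intro h2
    haveI : Fact (Nat.Prime 2) := ⟨Nat.prime_two⟩
    obtain ⟨s, hs⟩ := exists_prime_orderOf_dvd_card' 2 h2
    have hs' : orderOf (s : ↥j3Group) = 2 := by rw [Subgroup.orderOf_coe, hs]
    have hys : y ∈ Subgroup.centralizer ({(s : ↥j3Group)} : Set ↥j3Group) :=
      Subgroup.mem_centralizer_singleton_iff.2 (Subgroup.mem_centralizer_singleton_iff.1 s.2).symm
    have := Subgroup.orderOf_dvd_natCard _ hys
    rw [ho, invol_fact _ hs'] at this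
    norm_num at this
  -- the two fixed points
  let o : Fin 6156 := ⟨0, by norm_num⟩
  let F : Finset (Fin 6156) := Finset.univ.filter fun q => (y : Equiv.Perm (Fin 6156)) q = q
  have hF : F.card = 2 := by
    rw [← Nat.eq_of_beq_eq_true fix_check, cntB_eq_fin]
    refine congrArg Finset.card (Finset.ext fun q => ?_)
    simp only [F, Finset.mem_filter, Finset.mem_univ, true_and, Nat.beq_eq, ← act_word yW hw q, hydef,
      Fin.ext_iff]
  have ho' : o ∈ F := by
    simp only [F, Finset.mem_filter, Finset.mem_univ, true_and, hydef, Fin.ext_iff, act_word yW hw]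
    exact h0
  have hle : C ≤ MulAction.stabilizer ↥j3Group o := by
    intro c hc
    have hcy : c * y = y * c := Subgroup.mem_centralizer_singleton_iff.1 hc
    have hmem : ∀ q ∈ F, (c : Equiv.Perm (Fin 6156)) q ∈ F := by
      intro q hq
      simp only [F, Finset.mem_filter, Finset.mem_univ, true_and] at hq ⊢
      calc (y : Equiv.Perm (Fin 6156)) ((c : Equiv.Perm (Fin 6156)) q)
          = ((y * c : ↥j3Group) : Equiv.Perm (Fin 6156)) q := rfl
        _ = (c : Equiv.Perm (Fin 6156)) ((y : Equiv.Perm (Fin 6156)) q) := by rw [← hcy]; rfl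
        _ = _ := by rw [hq]
    rw [MulAction.mem_stabilizer_iff]
    show (c : Equiv.Perm (Fin 6156)) o = o
    by_contra hne
    obtain ⟨a, b, hab, hFab⟩ := Finset.card_eq_two.1 hF
    set b' := (c : Equiv.Perm (Fin 6156)) o
    have hb' : b' ∈ F := hmem o ho'
    have hcb : (c : Equiv.Perm (Fin 6156)) b' ∈ F := hmem b' hb'
    have hback : (c : Equiv.Perm (Fin 6156)) b' = o := by
      have hne' : (c : Equiv.Perm (Fin 6156)) b' ≠ b' := fun e =>
        hne ((c : Equiv.Perm (Fin 6156)).injective e)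
      rw [hFab, Finset.mem_insert, Finset.mem_singleton] at ho' hb' hcb
      rcases ho' with h | h <;> rcases hb' with h' | h' <;> rcases hcb with h'' | h'' <;>
        first | (rw [h'', h]; done) | exact absurd (h''.trans h'.symm) hne' | exact absurd (h'.trans h.symm) hne
    have hc2 : ∀ j : ℕ, ((c : Equiv.Perm (Fin 6156)) ^ (2 * j)) o = o := by
      intro j
      induction j with
      | zero => simp
      | succ j ih =>
        rw [show 2 * (j + 1) = 1 + (1 + 2 * j) by ring, pow_add, pow_add, pow_one, Equiv.Perm.mul_apply,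
          Equiv.Perm.mul_apply, ih]
        exact hback
    obtain ⟨j, hj⟩ : ∃ j, Nat.card C = 2 * j + 1 := ⟨Nat.card C / 2, by omega⟩
    have h1 : (c : Equiv.Perm (Fin 6156)) ^ Nat.card C = 1 := by
      have e1 : c ^ Nat.card C = 1 := congrArg Subtype.val (pow_card_eq_one' (x := (⟨c, hc⟩ : C)))
      exact (SubgroupClass.coe_pow c _).symm.trans (congrArg Subtype.val e1)
    rw [hj, pow_succ'] at h1
    have := congrArg (fun σ : Equiv.Perm (Fin 6156) => σ o) h1
    simp only [Equiv.Perm.mul_apply, Equiv.Perm.one_apply, hc2 j] at this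
    exact hne this
  have hd : Nat.card C ∣ 32 * 255 := by
    have h : o = (0 : Fin 6156) := rfl
    rw [h] at hle
    exact (Subgroup.card_dvd_of_le hle).trans (by rw [RigidGraph.J3.card_stab_j3Group])
  have hco : Nat.Coprime (Nat.card C) (2 ^ 5) :=
    Nat.Coprime.pow_right _ ((Nat.prime_two.coprime_iff_not_dvd).2 hodd).symm
  exact hco.dvd_mul_left.1 hd

theorem seventeen_solve : ∀ m : ℕ, m ∈ Nat.divisors 15 → ∀ e : ℕ, e ∈ Nat.divisors 16 →
    (m * e) % 17 = 8 → m = 1 ∧ e = 8 := by decide +kernel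

theorem nineteen_solve : ∀ m : ℕ, m ∈ Nat.divisors 1215 → ∀ e : ℕ, e ∈ Nat.divisors 18 →
    9 ^ e % 19 = 1 → (m * e) % 19 = 9 → m = 1 ∧ e = 9 := by decide +kernel

variable {G : Type*} [Group G] [Finite G]

/-- The conclusion for one prime. -/
theorem sylow_facts (ε : ↥j3Group ≃* G) :
    (∀ X : Sylow 19 G, Subgroup.centralizer ((X : Subgroup G) : Set G) = X ∧
        ∃ _h : ((X : Subgroup G).subgroupOf (Subgroup.normalizer ((X : Subgroup G) : Set G))).Normal,
          IsCyclic (↥(Subgroup.normalizer ((X : Subgroup G) : Set G)) ⧸ (X : Subgroup G).subgroupOf _) ∧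
          Nat.card (↥(Subgroup.normalizer ((X : Subgroup G) : Set G)) ⧸ (X : Subgroup G).subgroupOf _) = 9) ∧
    (∀ Y : Sylow 17 G, Subgroup.centralizer ((Y : Subgroup G) : Set G) = Y ∧
        ∃ _h : ((Y : Subgroup G).subgroupOf (Subgroup.normalizer ((Y : Subgroup G) : Set G))).Normal,
          IsCyclic (↥(Subgroup.normalizer ((Y : Subgroup G) : Set G)) ⧸ (Y : Subgroup G).subgroupOf _) ∧
          Nat.card (↥(Subgroup.normalizer ((Y : Subgroup G) : Set G)) ⧸ (Y : Subgroup G).subgroupOf _) = 8) := by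
  classical
  haveI : Fact (Nat.Prime 17) := ⟨by norm_num⟩
  haveI : Fact (Nat.Prime 19) := ⟨by norm_num⟩
  have hG : Nat.card G = 50232960 := by rw [← Nat.card_congr ε.toEquiv, card_j3Group]
  obtain ⟨x₀, g₀, hx₀, hg₀⟩ := x_fact
  obtain ⟨y₀, hy₀, hC₀⟩ := y_fact
  have hinv : ∀ s : G, orderOf s = 2 → Nat.card (Subgroup.centralizer ({s} : Set G)) = 1920 := by
    intro s hs
    rw [← ε.apply_symm_apply s, ← HJ.card_cent_equiv ε]
    exact invol_fact _ (by rw [MulEquiv.orderOf_eq, hs])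
  -- a generator of a given Sylow subgroup conjugate to a given element
  have move : ∀ (p : ℕ) (_ : Fact p.Prime) (z : G), orderOf z = p → ¬ p ^ 2 ∣ Nat.card G → ∀ X : Sylow p G,
      ∃ h : G, (X : Subgroup G) = Subgroup.zpowers (h * z * h⁻¹) := by
    intro p _ z hz hp2 X
    have hzp : IsPGroup p (Subgroup.zpowers z) := IsPGroup.of_card (n := 1) (by rw [Nat.card_zpowers, hz, pow_one])
    obtain ⟨P, hP⟩ := hzp.exists_le_sylow
    obtain ⟨h, rfl⟩ := MulAction.exists_smul_eq G P X
    refine ⟨h, ?_⟩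
    have hcP : Nat.card (P : Subgroup G) = p := by
      obtain ⟨n, hn⟩ := IsPGroup.iff_card.1 P.2
      have hd : Nat.card (P : Subgroup G) ∣ Nat.card G := Subgroup.card_subgroup_dvd_card _
      have h1 : p ∣ Nat.card (P : Subgroup G) := by
        have := Subgroup.card_dvd_of_le hP
        rwa [Nat.card_zpowers, hz] at this
      rw [hn] at hd h1 ⊢
      rcases n with _ | _ | n
      · exact absurd h1 (by simpa using (Fact.out (p := p.Prime)).ne_one)
      · exact pow_one p
      · exact absurd ((pow_dvd_pow p (by omega)).trans hd) hp2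
    have heq : Subgroup.zpowers z = (P : Subgroup G) :=
      Subgroup.eq_of_le_of_card_ge hP (by rw [hcP, Nat.card_zpowers, hz])
    rw [Sylow.coe_subgroup_smul, ← heq]
    ext w
    constructor
    · rintro ⟨v, hv, rfl⟩
      obtain ⟨j, rfl⟩ := Subgroup.mem_zpowers_iff.1 hv
      exact Subgroup.mem_zpowers_iff.2 ⟨j, by rw [conj_zpow]; rfl⟩
    · intro hw
      obtain ⟨j, rfl⟩ := Subgroup.mem_zpowers_iff.1 hw
      exact ⟨z ^ j, Subgroup.mem_zpowers_iff.2 ⟨j, rfl⟩, by rw [conj_zpow]; rfl⟩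
  have hodd : ∀ (p : ℕ), ¬ p ∣ 1920 → ∀ z : G, orderOf z = p →
      ¬ 2 ∣ Nat.card (Subgroup.centralizer ({z} : Set G)) := by
    intro p hp z hz h2
    haveI : Fact (Nat.Prime 2) := ⟨Nat.prime_two⟩
    obtain ⟨s, hs⟩ := exists_prime_orderOf_dvd_card' 2 h2
    have hs' : orderOf (s : G) = 2 := by rw [Subgroup.orderOf_coe, hs]
    have hzs : z ∈ Subgroup.centralizer ({(s : G)} : Set G) :=
      Subgroup.mem_centralizer_singleton_iff.2 (Subgroup.mem_centralizer_singleton_iff.1 s.2).symm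
    have := Subgroup.orderOf_dvd_natCard _ hzs
    rw [hz, hinv _ hs'] at this
    exact hp this
  have cy : ∀ h : G, orderOf (h * ε y₀ * h⁻¹) = 17 ∧
      Nat.card (Subgroup.centralizer ({h * ε y₀ * h⁻¹} : Set G)) ∣ 255 := by
    intro h
    refine ⟨by rw [← MulAut.conj_apply, MulEquiv.orderOf_eq, MulEquiv.orderOf_eq, hy₀], ?_⟩
    rw [← MulAut.conj_apply, ← HJ.card_cent_equiv (MulAut.conj h), ← HJ.card_cent_equiv ε]
    exact hC₀
  have h17 : ∀ Y : Sylow 17 G, ∃ (h : G) (m e : ℕ), (Y : Subgroup G) = Subgroup.zpowers (h * ε y₀ * h⁻¹) ∧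
      Nat.card (Subgroup.centralizer ({h * ε y₀ * h⁻¹} : Set G)) = 17 * m ∧ m = 1 ∧ e = 8 ∧
      (m = 1 → Subgroup.centralizer ((Y : Subgroup G) : Set G) = Y ∧
        ∃ _h : ((Y : Subgroup G).subgroupOf (Subgroup.normalizer ((Y : Subgroup G) : Set G))).Normal,
          IsCyclic (↥(Subgroup.normalizer ((Y : Subgroup G) : Set G)) ⧸ (Y : Subgroup G).subgroupOf _) ∧
          Nat.card (↥(Subgroup.normalizer ((Y : Subgroup G) : Set G)) ⧸ (Y : Subgroup G).subgroupOf _) = e) := by
    intro Y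
    obtain ⟨h, hY⟩ := move 17 inferInstance (ε y₀) (by rw [MulEquiv.orderOf_eq, hy₀]) (by rw [hG]; norm_num) Y
    obtain ⟨ho, hd⟩ := cy h
    obtain ⟨m, e, hm, he, hn, -, hfin⟩ := core Y ho hY
    refine ⟨h, m, e, hY, hm, ?_⟩
    have hm15 : m ∈ Nat.divisors 15 := Nat.mem_divisors.2 ⟨(Nat.mul_dvd_mul_iff_left (by norm_num : 0 < 17)).1
      (show 17 * m ∣ 17 * 15 by rw [← hm]; exact hd), by norm_num⟩
    rw [hG] at hn
    have h2 : Nat.card (Sylow 17 G) * (m * e) = 2954880 := by
      have : Nat.card (Sylow 17 G) * (17 * m * e) = 17 * (Nat.card (Sylow 17 G) * (m * e)) := by ring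
      omega
    have hmod : (m * e) % 17 = 8 := by
      have e1 : (Nat.card (Sylow 17 G) * (m * e)) % 17 = (m * e) % 17 := by
        rw [Nat.mul_mod, show Nat.card (Sylow 17 G) % 17 = 1 from card_sylow_modEq_one 17 G, one_mul, Nat.mod_mod]
      rw [h2] at e1
      rw [← e1]
    obtain ⟨rfl, rfl⟩ := seventeen_solve m hm15 e (Nat.mem_divisors.2 ⟨he, by norm_num⟩) hmod
    exact ⟨rfl, rfl, hfin⟩
  have hc17 : ∀ z : G, orderOf z = 17 → Nat.card (Subgroup.centralizer ({z} : Set G)) = 17 := by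
    intro z hz
    obtain ⟨P, hP⟩ := (IsPGroup.of_card (p := 17) (n := 1) (G := Subgroup.zpowers z)
      (by rw [Nat.card_zpowers, hz, pow_one])).exists_le_sylow
    obtain ⟨h, m, e, hY, hm, rfl, -, hfin⟩ := h17 P
    have hC := (hfin rfl).1
    have hzP : (P : Subgroup G) = Subgroup.zpowers z := by
      refine (Subgroup.eq_of_le_of_card_ge hP ?_).symm
      rw [hY, Nat.card_zpowers, (cy h).1, Nat.card_zpowers, hz]
    have : Subgroup.centralizer ({z} : Set G) = Subgroup.centralizer ((P : Subgroup G) : Set G) := by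
      refine le_antisymm (fun c hc => ?_) (Subgroup.centralizer_le (by rw [hzP]; simp))
      rw [Subgroup.mem_centralizer_iff]
      intro w hw
      rw [SetLike.mem_coe, hzP, Subgroup.mem_zpowers_iff] at hw
      obtain ⟨j, rfl⟩ := hw
      exact ((show Commute z c from (Subgroup.mem_centralizer_singleton_iff.1 hc).symm).zpow_left j).eq
    rw [this, hC, hY, Nat.card_zpowers, (cy h).1]
  refine ⟨fun X => ?_, fun Y => ?_⟩
  swap
  · obtain ⟨h, m, e, -, -, hm1, rfl, hfin⟩ := h17 Y
    exact hfin hm1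
  obtain ⟨h, hX⟩ := move 19 inferInstance (ε x₀) (by rw [MulEquiv.orderOf_eq, hx₀]) (by rw [hG]; norm_num) X
  have ho : orderOf (h * ε x₀ * h⁻¹) = 19 := by
    rw [← MulAut.conj_apply, MulEquiv.orderOf_eq, MulEquiv.orderOf_eq, hx₀]
  obtain ⟨m, e, hm, he, hn, hk, hfin⟩ := core X ho hX
  have hk9 := hk (h * ε g₀ * h⁻¹) 9 (by
    have := congrArg (fun w => h * ε w * h⁻¹) hg₀
    simp only [map_mul, map_inv, map_pow] at this
    rw [conj_pow, ← this]; group)
  have hm17 : Nat.Coprime m 17 := by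
    refine ((Nat.Prime.coprime_iff_not_dvd (by norm_num)).2 fun hd => ?_).symm
    obtain ⟨z, hz⟩ := exists_prime_orderOf_dvd_card' 17 (G := Subgroup.centralizer ({h * ε x₀ * h⁻¹} : Set G))
      (by rw [hm]; exact Dvd.dvd.mul_left hd 19)
    have hxz : h * ε x₀ * h⁻¹ ∈ Subgroup.centralizer ({(z : G)} : Set G) :=
      Subgroup.mem_centralizer_singleton_iff.2 (Subgroup.mem_centralizer_singleton_iff.1 z.2).symm
    have := Subgroup.orderOf_dvd_natCard _ hxz
    rw [ho, hc17 _ (by rw [Subgroup.orderOf_coe, hz])] at this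
    norm_num at this
  rw [hG] at hn
  have h2 : Nat.card (Sylow 19 G) * (m * e) = 2643840 := by
    have : Nat.card (Sylow 19 G) * (19 * m * e) = 19 * (Nat.card (Sylow 19 G) * (m * e)) := by ring
    omega
  have hm2 : Nat.Coprime m 2 := by
    refine ((Nat.prime_two.coprime_iff_not_dvd).2 fun hd => hodd 19 (by norm_num) _ ho ?_).symm
    rw [hm]; exact Dvd.dvd.mul_left hd 19
  have hm1215 : m ∈ Nat.divisors 1215 := by
    refine Nat.mem_divisors.2 ⟨?_, by norm_num⟩
    have hd : m ∣ 2 ^ 7 * 17 * 1215 := ⟨Nat.card (Sylow 19 G) * e, by rw [show (2 ^ 7 * 17 * 1215 : ℕ) = 2643840 by norm_num, ← h2]; ring⟩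
    exact (Nat.Coprime.dvd_mul_left (Nat.Coprime.mul_right (hm2.pow_right 7) hm17)).1 hd
  have hmod : (m * e) % 19 = 9 := by
    have e1 : (Nat.card (Sylow 19 G) * (m * e)) % 19 = (m * e) % 19 := by
      rw [Nat.mul_mod, show Nat.card (Sylow 19 G) % 19 = 1 from card_sylow_modEq_one 19 G, one_mul, Nat.mod_mod]
    rw [h2] at e1
    rw [← e1]
  obtain ⟨rfl, rfl⟩ := nineteen_solve m hm1215 e (Nat.mem_divisors.2 ⟨he, by norm_num⟩) hk9 hmod
  exact hfin rfl

end Cfsg.Agent.J3Uniq.SylowLarge
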