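import Cfsg.Agent.Lib.J3Invol.Class
import Mathlib.RingTheory.ZMod.UnitsCyclic

/-!
The Sylow subgroups for 17 and 19 of the group on 6156 points, and of every group isomorphic to it: they
are self-centralising with cyclic normaliser quotients of orders 8 and 9.
-/

set_option autoImplicit false
set_option linter.style.haveILetI false
set_option maxRecDepth 100000

namespace Cfsg.Agent.J3Uniq.SylowLarge

open Cfsg.Agent.J3Invol
open Cfsg.Agent.RigidGraph (cntB cntB_eq_fin)
open Cfsg.Agent.RigidGraph.J3 (j3Group card_j3Group)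

/-- A word of an element of order 17 fixing the point `0`. -/
def yW : List ℕ := [2, 5, 3, 1, 1, 3, 0, 2, 0, 5, 0, 0, 0]

/-- A word of an element inducing an automorphism of order 9 on the first generator. -/
def gW : List ℕ := [2, 1, 5, 0, 1, 2, 1, 5, 2, 1, 3, 1, 5, 1, 2, 5, 3, 3, 1, 5, 3, 5, 0, 0, 2, 1, 1, 3, 3, 3, 1, 2, 1, 1, 3, 5, 3, 5, 2, 1, 3, 3, 0, 3, 1, 1, 1]

theorem word_check : okWord yW = true ∧ okWord gW = true ∧ okWord [0] = true ∧
    keyOf (List.replicate 17 yW).flatten = base ∧ keyOf yW ≠ base ∧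
    keyOf (List.replicate 19 0) = base ∧ keyOf [0] ≠ base ∧
    conjOK gW [0] (List.replicate 9 0) = true ∧ evW yW 0 = 0 := by
  refine ⟨?_, ?_, ?_, ?_, ?_, ?_, ?_, ?_, ?_⟩ <;> decide +kernel

theorem fix_check : Nat.beq (cntB (fun q => Nat.beq (evW yW q) q) 6156) 2 = true := by decide +kernel

end Cfsg.Agent.J3Uniq.SylowLarge
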